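import Mathlib
import Cfsg.Agent.S0807
import Cfsg.Agent.Helper12.SL2Gen
import Cfsg.Agent.Helper12.SL2Commutant

set_option autoImplicit false

namespace Cfsg.Agent.Helper12

/-- A group of order 12 with a non-normal subgroup of order 3 is isomorphic to `A₄`. -/
theorem a4_of_card {G : Type*} [Group G] [Finite G] (hG : Nat.card G = 12) (K : Subgroup G)
    (hK : Nat.card K = 3) (hKn : ¬ K.Normal) : Nonempty (G ≃* alternatingGroup (Fin 4)) := by
  classical
  obtain ⟨φ, hφ⟩ : ∃ φ : G →* Equiv.Perm (G ⧸ K), φ = MulAction.toPermHom G (G ⧸ K) := ⟨_, rfl⟩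
  have hker : φ.ker = K.normalCore := by rw [hφ]; exact (Subgroup.normalCore_eq_ker K).symm
  have hle : φ.ker ≤ K := by rw [hker]; exact Subgroup.normalCore_le K
  have hkercard : Nat.card φ.ker = 1 := by
    have hdvd : Nat.card φ.ker ∣ 3 := by
      rw [← hK]; exact Subgroup.card_dvd_of_le hle
    rcases (Nat.dvd_prime Nat.prime_three).mp hdvd with h | h
    · exact h
    · exfalso
      apply hKn
      have e : φ.ker = K := by
        apply Subgroup.eq_of_le_of_card_ge hle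
        rw [h, hK]
      rw [← e]
      infer_instance
  have hinj : Function.Injective φ := by
    rw [← MonoidHom.ker_eq_bot_iff]
    exact Subgroup.card_eq_one.mp hkercard
  have hq : Nat.card (G ⧸ K) = 4 := by
    have h1 := Subgroup.card_eq_card_quotient_mul_card_subgroup K
    rw [hG, hK] at h1
    omega
  obtain ⟨e⟩ : Nonempty ((G ⧸ K) ≃ Fin 4) := ⟨Finite.equivFinOfCardEq hq⟩
  obtain ⟨ψ, hψdef⟩ : ∃ ψ : G →* Equiv.Perm (Fin 4), ψ = (e.permCongrHom).toMonoidHom.comp φ :=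
    ⟨_, rfl⟩
  have hψ : Function.Injective ψ := by
    rw [hψdef]
    exact e.permCongrHom.injective.comp hinj
  have hrange : Nat.card ψ.range = 12 := by
    rw [← Nat.card_congr (MonoidHom.ofInjective hψ).toEquiv, hG]
  have hidx : ψ.range.index = 2 := by
    have h1 := Subgroup.card_mul_index ψ.range
    rw [hrange, Nat.card_perm, Nat.card_eq_fintype_card, Fintype.card_fin] at h1
    have h2 : (4 : ℕ).factorial = 24 := by decide
    rw [h2] at h1
    omega
  have hA : ψ.range = alternatingGroup (Fin 4) := Equiv.Perm.eq_alternatingGroup_of_index_eq_two hidx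
  exact ⟨(MonoidHom.ofInjective hψ).trans (MulEquiv.subgroupCongr hA)⟩

/-- The product of a subgroup `V` with a subgroup `K` normalizing it. -/
def prodSubgroup {G : Type*} [Group G] (V K : Subgroup G)
    (h : ∀ k ∈ K, ∀ v ∈ V, k * v * k⁻¹ ∈ V) : Subgroup G where
  carrier := {g | ∃ v ∈ V, ∃ k ∈ K, g = v * k}
  mul_mem' := by
    rintro _ _ ⟨v, hv, k, hk, rfl⟩ ⟨v', hv', k', hk', rfl⟩
    refine ⟨v * (k * v' * k⁻¹), V.mul_mem hv (h k hk v' hv'), k * k', K.mul_mem hk hk', ?_⟩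
    group
  one_mem' := ⟨1, V.one_mem, 1, K.one_mem, (mul_one 1).symm⟩
  inv_mem' := by
    rintro _ ⟨v, hv, k, hk, rfl⟩
    refine ⟨k⁻¹ * v⁻¹ * k⁻¹⁻¹, h k⁻¹ (K.inv_mem hk) v⁻¹ (V.inv_mem hv), k⁻¹, K.inv_mem hk, ?_⟩
    group

theorem mem_prodSubgroup {G : Type*} [Group G] (V K : Subgroup G)
    (h : ∀ k ∈ K, ∀ v ∈ V, k * v * k⁻¹ ∈ V) (g : G) :
    g ∈ prodSubgroup V K h ↔ ∃ v ∈ V, ∃ k ∈ K, g = v * k := Iff.rfl

/-- A group of order 4 normalized by an element of order 3 acting non-trivially generates with it a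
copy of `A₄`. -/
theorem exists_a4_of_klein {G : Type*} [Group G] [Finite G] (V : Subgroup G) (hV : Nat.card V = 4)
    (c : G) (hc : orderOf c = 3) (hnorm : ∀ v ∈ V, c * v * c⁻¹ ∈ V)
    (x : G) (hx : x ∈ V) (hxc : c * x * c⁻¹ ≠ x) :
    ∃ H : Subgroup G, Nonempty (H ≃* alternatingGroup (Fin 4)) := by
  obtain ⟨K, hKdef⟩ : ∃ K : Subgroup G, K = Subgroup.zpowers c := ⟨_, rfl⟩
  have hKcard : Nat.card K = 3 := by rw [hKdef, Nat.card_zpowers, hc]
  have hcK : c ∈ K := by rw [hKdef]; exact Subgroup.mem_zpowers c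
  have hc3 : c ^ 3 = 1 := by rw [← hc]; exact pow_orderOf_eq_one c
  have hc3' : c * c * c = 1 := by rw [← pow_three']; exact hc3
  have hcN : c ∈ Subgroup.normalizer (V : Set G) := by
    rw [Subgroup.mem_normalizer_iff]
    intro v
    constructor
    · exact hnorm v
    · intro hv
      have e : v = c * (c * (c * v * c⁻¹) * c⁻¹) * c⁻¹ := by
        calc v = (c * c * c) * v * (c * c * c)⁻¹ := by rw [hc3']; group
          _ = c * (c * (c * v * c⁻¹) * c⁻¹) * c⁻¹ := by group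
      rw [e]
      exact hnorm _ (hnorm _ hv)
  have hKN : K ≤ Subgroup.normalizer (V : Set G) := by
    rw [hKdef, Subgroup.zpowers_le]; exact hcN
  have hKV : ∀ k ∈ K, ∀ v ∈ V, k * v * k⁻¹ ∈ V := fun k hk v hv =>
    (Subgroup.mem_normalizer_iff.mp (hKN hk) v).mp hv
  obtain ⟨H, hHdef⟩ : ∃ H : Subgroup G, H = prodSubgroup V K hKV := ⟨_, rfl⟩
  have hVH : V ≤ H := by
    intro v hv
    rw [hHdef]
    exact ⟨v, hv, 1, K.one_mem, (mul_one v).symm⟩
  have hKH : K ≤ H := by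
    intro k hk
    rw [hHdef]
    exact ⟨1, V.one_mem, k, hk, (one_mul k).symm⟩
  have hle : Nat.card H ≤ 12 := by
    have hsurj : Function.Surjective (fun p : V × K => (⟨(p.1 : G) * (p.2 : G), by
        rw [hHdef]; exact ⟨p.1, p.1.2, p.2, p.2.2, rfl⟩⟩ : H)) := by
      rintro ⟨g, hg⟩
      rw [hHdef] at hg
      obtain ⟨v, hv, k, hk, rfl⟩ := hg
      exact ⟨(⟨v, hv⟩, ⟨k, hk⟩), rfl⟩
    have h1 := Nat.card_le_card_of_surjective _ hsurj
    rw [Nat.card_prod, hV, hKcard] at h1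
    exact h1
  have h4 : 4 ∣ Nat.card H := by rw [← hV]; exact Subgroup.card_dvd_of_le hVH
  have h3 : 3 ∣ Nat.card H := by rw [← hKcard]; exact Subgroup.card_dvd_of_le hKH
  have hpos : 0 < Nat.card H := Nat.card_pos
  have hH : Nat.card H = 12 := by omega
  have hK' : Nat.card (K.subgroupOf H) = 3 := by
    rw [Nat.card_congr (Subgroup.subgroupOfEquivOfLe hKH).toEquiv, hKcard]
  have hKn : ¬ (K.subgroupOf H).Normal := by
    intro hN
    have h1 := hN.conj_mem ⟨c, hKH hcK⟩ (Subgroup.mem_subgroupOf.mpr hcK) ⟨x, hVH hx⟩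
    rw [Subgroup.mem_subgroupOf] at h1
    have h2 : x * c * x⁻¹ ∈ K := h1
    have h3 : x * c * x⁻¹ * c⁻¹ ∈ K := K.mul_mem h2 (K.inv_mem hcK)
    have h4 : x * c * x⁻¹ * c⁻¹ ∈ V := by
      have e : x * c * x⁻¹ * c⁻¹ = x * (c * x⁻¹ * c⁻¹) := by group
      rw [e]; exact V.mul_mem hx (hnorm _ (V.inv_mem hx))
    have h5 : orderOf (x * c * x⁻¹ * c⁻¹) ∣ 3 := by
      rw [← hKcard]; exact Subgroup.orderOf_dvd_natCard K h3
    have h6 : orderOf (x * c * x⁻¹ * c⁻¹) ∣ 4 := by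
      rw [← hV]; exact Subgroup.orderOf_dvd_natCard V h4
    have h7 : orderOf (x * c * x⁻¹ * c⁻¹) = 1 := by
      have h8 : orderOf (x * c * x⁻¹ * c⁻¹) ∣ 1 := by
        have h9 := Nat.dvd_sub h6 h5
        exact h9
      exact Nat.dvd_one.mp h8
    rw [orderOf_eq_one_iff] at h7
    apply hxc
    calc c * x * c⁻¹ = (x * c * x⁻¹ * c⁻¹)⁻¹ * x := by group
      _ = x := by rw [h7]; group
  exact ⟨H, a4_of_card hH _ hK' hKn⟩

/-- Two commuting involutions permuted cyclically (with their product) by an element of order 3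
generate with it a copy of `A₄`. -/
theorem exists_a4_of_rel {G : Type*} [Group G] [Finite G] (a b c : G) (haa : a * a = 1)
    (hbb : b * b = 1) (hab : a * b = b * a) (ha : a ≠ 1) (hb : b ≠ 1) (hne : a ≠ b)
    (hc : orderOf c = 3) (hca : c * a * c⁻¹ = b) (hcb : c * b * c⁻¹ = a * b) :
    ∃ H : Subgroup G, Nonempty (H ≃* alternatingGroup (Fin 4)) := by
  have hV : Nat.card (S0807.kv a b haa hbb hab) = 4 :=
    (S0807.isKleinFour_kv a b haa hbb hab ha hb hne).card_four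
  apply exists_a4_of_klein (S0807.kv a b haa hbb hab) hV c hc ?_ a (Or.inr (Or.inl rfl)) ?_
  · intro v hv
    rcases S0807.mem_kv.mp hv with h | h | h | h
    · rw [h, mul_one, mul_inv_cancel]; exact Subgroup.one_mem _
    · rw [h, hca]; exact Or.inr (Or.inr (Or.inl rfl))
    · rw [h, hcb]; exact Or.inr (Or.inr (Or.inr rfl))
    · rw [h]
      have e : c * (a * b) * c⁻¹ = a := by
        calc c * (a * b) * c⁻¹ = (c * a * c⁻¹) * (c * b * c⁻¹) := by group
          _ = b * (a * b) := by rw [hca, hcb]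
          _ = (b * a) * b := by rw [mul_assoc]
          _ = a * (b * b) := by rw [← hab, mul_assoc]
          _ = a := by rw [hbb, mul_one]
      rw [e]; exact Or.inr (Or.inl rfl)
  · rw [hca]; exact fun h => hne h.symm

/-- The double transposition `(0 1)(2 3)`. -/
def a4sg : Equiv.Perm (Fin 4) := Equiv.swap 0 1 * Equiv.swap 2 3

/-- The three-cycle `(0 1)(1 2)`. -/
def a4ta : Equiv.Perm (Fin 4) := Equiv.swap 0 1 * Equiv.swap 1 2

theorem a4sg_mem : a4sg ∈ alternatingGroup (Fin 4) := by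
  rw [Equiv.Perm.mem_alternatingGroup, a4sg, Equiv.Perm.sign_mul, Equiv.Perm.sign_swap (by decide),
    Equiv.Perm.sign_swap (by decide)]
  rfl

theorem a4ta_mem : a4ta ∈ alternatingGroup (Fin 4) := by
  rw [Equiv.Perm.mem_alternatingGroup, a4ta, Equiv.Perm.sign_mul, Equiv.Perm.sign_swap (by decide),
    Equiv.Perm.sign_swap (by decide)]
  rfl

theorem a4sg_sq : a4sg * a4sg = 1 := by decide
theorem a4sg_ne : a4sg ≠ 1 := by decide
theorem a4ta_cube : a4ta * a4ta * a4ta = 1 := by decide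
theorem a4ta_ne : a4ta ≠ 1 := by decide
theorem a4sg_ta : (a4ta * a4sg * a4ta⁻¹) * a4sg = a4sg * (a4ta * a4sg * a4ta⁻¹) := by decide

/-- A group containing a copy of `A₄` has an involution `x` and an element `c` of order 3 with
`c x c⁻¹` commuting with `x`. -/
theorem a4_elements {G : Type*} [Group G] (f : alternatingGroup (Fin 4) →* G)
    (hf : Function.Injective f) :
    ∃ x c : G, x * x = 1 ∧ x ≠ 1 ∧ c * c * c = 1 ∧ c ≠ 1 ∧
      (c * x * c⁻¹) * x = x * (c * x * c⁻¹) := by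
  obtain ⟨σ, hσ⟩ : ∃ σ : alternatingGroup (Fin 4), σ = ⟨a4sg, a4sg_mem⟩ := ⟨_, rfl⟩
  obtain ⟨τ, hτ⟩ : ∃ τ : alternatingGroup (Fin 4), τ = ⟨a4ta, a4ta_mem⟩ := ⟨_, rfl⟩
  have h1 : σ * σ = 1 := by rw [hσ]; exact Subtype.ext a4sg_sq
  have h2 : σ ≠ 1 := by
    rw [hσ]; intro h; exact a4sg_ne (congrArg Subtype.val h)
  have h3 : τ * τ * τ = 1 := by rw [hτ]; exact Subtype.ext a4ta_cube
  have h4 : τ ≠ 1 := by
    rw [hτ]; intro h; exact a4ta_ne (congrArg Subtype.val h)
  have h5 : (τ * σ * τ⁻¹) * σ = σ * (τ * σ * τ⁻¹) := by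
    rw [hσ, hτ]; exact Subtype.ext a4sg_ta
  refine ⟨f σ, f τ, ?_, ?_, ?_, ?_, ?_⟩
  · rw [← map_mul, h1, map_one]
  · intro h; exact h2 (hf (h.trans (map_one f).symm))
  · rw [← map_mul, ← map_mul, h3, map_one]
  · intro h; exact h4 (hf (h.trans (map_one f).symm))
  · have h6 := congrArg f h5
    simpa only [map_mul, map_inv] using h6

theorem three_dvd_four_pow_sub_one (k : ℕ) : 3 ∣ 4 ^ k - 1 := by
  induction k with
  | zero => simp
  | succ k ih =>
    have h1 : 4 ^ (k + 1) = 4 ^ k * 4 := pow_succ 4 k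
    have h2 : 1 ≤ 4 ^ k := Nat.one_le_pow _ _ (by norm_num)
    rw [h1]
    omega

theorem two_pow_odd_mod_three (k : ℕ) : 2 ^ (2 * k + 1) % 3 = 2 := by
  induction k with
  | zero => norm_num
  | succ k ih =>
    have h1 : 2 ^ (2 * (k + 1) + 1) = 2 ^ (2 * k + 1) * 4 := by ring
    rw [h1]
    omega

end Cfsg.Agent.Helper12
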