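import Mathlib
import Cfsg.Agent.Helper12.A4

set_option autoImplicit false

namespace Cfsg.Agent.Helper12

/-- A group of order 24 with a core-free subgroup of order 6 is isomorphic to `S₄`. -/
theorem s4_of_card {G : Type*} [Group G] [Finite G] (hG : Nat.card G = 24) (S : Subgroup G)
    (hS : Nat.card S = 6) (hcore : ∀ n : G, (∀ g : G, g * n * g⁻¹ ∈ S) → n = 1) :
    Nonempty (G ≃* Equiv.Perm (Fin 4)) := by
  classical
  obtain ⟨φ, hφ⟩ : ∃ φ : G →* Equiv.Perm (G ⧸ S), φ = MulAction.toPermHom G (G ⧸ S) := ⟨_, rfl⟩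
  have hker : φ.ker = S.normalCore := by rw [hφ]; exact (Subgroup.normalCore_eq_ker S).symm
  have hinj : Function.Injective φ := by
    rw [← MonoidHom.ker_eq_bot_iff, hker, Subgroup.eq_bot_iff_forall]
    intro n hn
    exact hcore n (fun g =>
      Subgroup.normalCore_le S ((Subgroup.normalCore_normal S).conj_mem n hn g))
  have hq : Nat.card (G ⧸ S) = 4 := by
    have h1 := Subgroup.card_eq_card_quotient_mul_card_subgroup S
    rw [hG, hS] at h1
    omega
  obtain ⟨e⟩ : Nonempty ((G ⧸ S) ≃ Fin 4) := ⟨Finite.equivFinOfCardEq hq⟩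
  obtain ⟨ψ, hψdef⟩ : ∃ ψ : G →* Equiv.Perm (Fin 4), ψ = (e.permCongrHom).toMonoidHom.comp φ :=
    ⟨_, rfl⟩
  have hψ : Function.Injective ψ := by
    rw [hψdef]
    exact e.permCongrHom.injective.comp hinj
  have hcard : Nat.card (Equiv.Perm (Fin 4)) ≤ Nat.card G := by
    rw [hG, Nat.card_perm, Nat.card_eq_fintype_card, Fintype.card_fin]
    decide
  have hbij : Function.Bijective ψ := hψ.bijective_of_nat_card_le hcard
  exact ⟨MulEquiv.ofBijective ψ hbij⟩

theorem conj_mem_of_mem_zpowers {G : Type*} [Group G] [Finite G] (V : Subgroup G) (g : G)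
    (h : ∀ v ∈ V, g * v * g⁻¹ ∈ V) : ∀ k ∈ Subgroup.zpowers g, ∀ v ∈ V, k * v * k⁻¹ ∈ V := by
  have key : ∀ m : ℕ, ∀ v ∈ V, g ^ m * v * (g ^ m)⁻¹ ∈ V := by
    intro m
    induction m with
    | zero =>
      intro v hv
      rw [pow_zero, one_mul, inv_one, mul_one]
      exact hv
    | succ m ih =>
      intro v hv
      have e : g ^ (m + 1) * v * (g ^ (m + 1))⁻¹ = g * (g ^ m * v * (g ^ m)⁻¹) * g⁻¹ := by
        rw [pow_succ', mul_inv_rev]
        simp only [mul_assoc]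
      rw [e]
      exact h _ (ih v hv)
  intro k hk v hv
  rw [← mem_powers_iff_mem_zpowers] at hk
  obtain ⟨m, rfl⟩ := (Submonoid.mem_powers_iff _ _).mp hk
  exact key m v hv

theorem mem_zpowers_order_three {G : Type*} [Group G] [Finite G] (c : G) (hc : orderOf c = 3)
    (k : G) (hk : k ∈ Subgroup.zpowers c) : k = 1 ∨ k = c ∨ k = c⁻¹ := by
  rw [← mem_powers_iff_mem_zpowers] at hk
  obtain ⟨m, rfl⟩ := (Submonoid.mem_powers_iff _ _).mp hk
  rw [← pow_mod_orderOf, hc]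
  have h1 : m % 3 < 3 := Nat.mod_lt _ (by norm_num)
  obtain ⟨r, hr⟩ : ∃ r : ℕ, r = m % 3 := ⟨_, rfl⟩
  rw [← hr] at h1 ⊢
  interval_cases r
  · left; exact pow_zero c
  · right; left; exact pow_one c
  · right; right
    have h3 : c ^ 3 = 1 := by rw [← hc]; exact pow_orderOf_eq_one c
    rw [eq_inv_iff_mul_eq_one, ← pow_succ]
    exact h3

theorem mem_zpowers_order_two {G : Type*} [Group G] [Finite G] (t : G) (ht : orderOf t = 2)
    (k : G) (hk : k ∈ Subgroup.zpowers t) : k = 1 ∨ k = t := by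
  rw [← mem_powers_iff_mem_zpowers] at hk
  obtain ⟨m, rfl⟩ := (Submonoid.mem_powers_iff _ _).mp hk
  rw [← pow_mod_orderOf, ht]
  have h1 : m % 2 < 2 := Nat.mod_lt _ (by norm_num)
  obtain ⟨r, hr⟩ : ∃ r : ℕ, r = m % 2 := ⟨_, rfl⟩
  rw [← hr] at h1 ⊢
  interval_cases r
  · left; exact pow_zero t
  · right; exact pow_one t

/-- Klein four-group `{1, a, b, ab}`, an element `c` of order 3 permuting `a, b, ab` cyclically and
an involution `t` swapping `a, b` and inverting `c` generate a copy of `S₄`. -/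
theorem exists_s4_of_rel {G : Type*} [Group G] [Finite G] (a b c t : G)
    (haa : a * a = 1) (hbb : b * b = 1) (hab : a * b = b * a) (ha : a ≠ 1) (hb : b ≠ 1)
    (hne : a ≠ b) (hc : orderOf c = 3) (hca : c * a * c⁻¹ = b) (hcb : c * b * c⁻¹ = a * b)
    (htt : t * t = 1) (ht1 : t ≠ 1) (hta : t * a * t⁻¹ = b) (htb : t * b * t⁻¹ = a)
    (htc : t * c * t⁻¹ = c⁻¹) :
    ∃ H : Subgroup G, Nonempty (H ≃* Equiv.Perm (Fin 4)) := by
  have hto : orderOf t = 2 := orderOf_eq_prime (by rw [pow_two]; exact htt) ht1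
  have hcab : c * (a * b) * c⁻¹ = a := by
    calc c * (a * b) * c⁻¹ = (c * a * c⁻¹) * (c * b * c⁻¹) := by group
      _ = b * (a * b) := by rw [hca, hcb]
      _ = (b * a) * b := by rw [mul_assoc]
      _ = a * (b * b) := by rw [← hab, mul_assoc]
      _ = a := by rw [hbb, mul_one]
  have hcia : c⁻¹ * a * c = a * b := by
    calc c⁻¹ * a * c = c⁻¹ * (c * (a * b) * c⁻¹) * c := by rw [hcab]
      _ = a * b := by group
  have htab : t * (a * b) * t⁻¹ = a * b := by
    calc t * (a * b) * t⁻¹ = (t * a * t⁻¹) * (t * b * t⁻¹) := by group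
      _ = b * a := by rw [hta, htb]
      _ = a * b := hab.symm
  have hab1 : a * b ≠ a := by
    intro h
    apply hb
    have h1 : a * b = a * 1 := by rw [mul_one]; exact h
    exact mul_left_cancel h1
  have hab2 : a * b ≠ b := by
    intro h
    apply ha
    have h1 : a * b = 1 * b := by rw [one_mul]; exact h
    exact mul_right_cancel h1
  obtain ⟨V, hVdef⟩ : ∃ V : Subgroup G, V = S0807.kv a b haa hbb hab := ⟨_, rfl⟩
  have hVK : IsKleinFour V := by
    rw [hVdef]; exact S0807.isKleinFour_kv a b haa hbb hab ha hb hne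
  have hVcard : Nat.card V = 4 := hVK.card_four
  have hVmem : ∀ v, v ∈ V ↔ v = 1 ∨ v = a ∨ v = b ∨ v = a * b := by
    intro v; rw [hVdef]; exact S0807.mem_kv
  have haV : a ∈ V := (hVmem a).mpr (Or.inr (Or.inl rfl))
  have hbV : b ∈ V := (hVmem b).mpr (Or.inr (Or.inr (Or.inl rfl)))
  have hVcomm : ∀ v ∈ V, ∀ w ∈ V, v * w = w * v := fun v hv w hw =>
    S0807.klein_comm V v w hv hw
  have hcV : ∀ v ∈ V, c * v * c⁻¹ ∈ V := by
    intro v hv
    rcases (hVmem v).mp hv with h | h | h | h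
    · rw [h, mul_one, mul_inv_cancel]; exact V.one_mem
    · rw [h, hca]; exact hbV
    · rw [h, hcb]; exact V.mul_mem haV hbV
    · rw [h, hcab]; exact haV
  have htV : ∀ v ∈ V, t * v * t⁻¹ ∈ V := by
    intro v hv
    rcases (hVmem v).mp hv with h | h | h | h
    · rw [h, mul_one, mul_inv_cancel]; exact V.one_mem
    · rw [h, hta]; exact hbV
    · rw [h, htb]; exact haV
    · rw [h, htab]; exact V.mul_mem haV hbV
  obtain ⟨K, hKdef⟩ : ∃ K : Subgroup G, K = Subgroup.zpowers c := ⟨_, rfl⟩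
  obtain ⟨T, hTdef⟩ : ∃ T : Subgroup G, T = Subgroup.zpowers t := ⟨_, rfl⟩
  have hKcard : Nat.card K = 3 := by rw [hKdef, Nat.card_zpowers, hc]
  have hTcard : Nat.card T = 2 := by rw [hTdef, Nat.card_zpowers, hto]
  have hcK : c ∈ K := by rw [hKdef]; exact Subgroup.mem_zpowers c
  have htT : t ∈ T := by rw [hTdef]; exact Subgroup.mem_zpowers t
  have hKmem : ∀ k ∈ K, k = 1 ∨ k = c ∨ k = c⁻¹ := by
    intro k hk; rw [hKdef] at hk; exact mem_zpowers_order_three c hc k hk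
  have hTmem : ∀ k ∈ T, k = 1 ∨ k = t := by
    intro k hk; rw [hTdef] at hk; exact mem_zpowers_order_two t hto k hk
  have htK : ∀ k ∈ K, t * k * t⁻¹ ∈ K := by
    intro k hk
    rcases hKmem k hk with h | h | h
    · rw [h, mul_one, mul_inv_cancel]; exact K.one_mem
    · rw [h, htc]; exact K.inv_mem hcK
    · rw [h]
      have e : t * c⁻¹ * t⁻¹ = (t * c * t⁻¹)⁻¹ := by group
      rw [e, htc, inv_inv]; exact hcK
  have hTK : ∀ k ∈ T, ∀ v ∈ K, k * v * k⁻¹ ∈ K := by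
    rw [hTdef]; exact conj_mem_of_mem_zpowers K t htK
  have hKV : ∀ k ∈ K, ∀ v ∈ V, k * v * k⁻¹ ∈ V := by
    rw [hKdef]; exact conj_mem_of_mem_zpowers V c hcV
  have hTV : ∀ k ∈ T, ∀ v ∈ V, k * v * k⁻¹ ∈ V := by
    rw [hTdef]; exact conj_mem_of_mem_zpowers V t htV
  obtain ⟨S, hSdef⟩ : ∃ S : Subgroup G, S = prodSubgroup K T hTK := ⟨_, rfl⟩
  have hSmem : ∀ s, s ∈ S ↔ ∃ k ∈ K, ∃ u ∈ T, s = k * u := by
    intro s; rw [hSdef]; exact mem_prodSubgroup K T hTK s
  have hSV : ∀ s ∈ S, ∀ v ∈ V, s * v * s⁻¹ ∈ V := by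
    intro s hs v hv
    obtain ⟨k, hk, u, hu, rfl⟩ := (hSmem s).mp hs
    have e : k * u * v * (k * u)⁻¹ = k * (u * v * u⁻¹) * k⁻¹ := by group
    rw [e]
    exact hKV k hk _ (hTV u hu v hv)
  have hcent : ∀ z ∈ S, z * a * z⁻¹ = a → z * b * z⁻¹ = b → z = 1 := by
    intro z hz hza hzb
    obtain ⟨k, hk, u, hu, hzku⟩ := (hSmem z).mp hz
    rcases hKmem k hk with hk1 | hk1 | hk1 <;> rcases hTmem u hu with hu1 | hu1 <;>
      rw [hk1, hu1] at hzku <;> rw [hzku] at hza hzb ⊢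
    · rw [mul_one]
    · exfalso
      have e : 1 * t * a * (1 * t)⁻¹ = t * a * t⁻¹ := by group
      rw [e, hta] at hza
      exact hne hza.symm
    · exfalso
      have e : c * 1 * a * (c * 1)⁻¹ = c * a * c⁻¹ := by group
      rw [e, hca] at hza
      exact hne hza.symm
    · exfalso
      have e : c * t * a * (c * t)⁻¹ = c * (t * a * t⁻¹) * c⁻¹ := by group
      rw [e, hta, hcb] at hza
      exact hab1 hza
    · exfalso
      have e : c⁻¹ * 1 * a * (c⁻¹ * 1)⁻¹ = c⁻¹ * a * c := by group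
      rw [e, hcia] at hza
      exact hab1 hza
    · exfalso
      have e : c⁻¹ * t * b * (c⁻¹ * t)⁻¹ = c⁻¹ * (t * b * t⁻¹) * c := by group
      rw [e, htb, hcia] at hzb
      exact hab2 hzb
  obtain ⟨H, hHdef⟩ : ∃ H : Subgroup G, H = prodSubgroup V S hSV := ⟨_, rfl⟩
  have hHmem : ∀ g, g ∈ H ↔ ∃ v ∈ V, ∃ s ∈ S, g = v * s := by
    intro g; rw [hHdef]; exact mem_prodSubgroup V S hSV g
  have hVH : V ≤ H := fun v hv => (hHmem v).mpr ⟨v, hv, 1, S.one_mem, (mul_one v).symm⟩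
  have hSH : S ≤ H := fun s hs => (hHmem s).mpr ⟨1, V.one_mem, s, hs, (one_mul s).symm⟩
  have hKS : K ≤ S := fun k hk => (hSmem k).mpr ⟨k, hk, 1, T.one_mem, (mul_one k).symm⟩
  have hTS : T ≤ S := fun u hu => (hSmem u).mpr ⟨1, K.one_mem, u, hu, (one_mul u).symm⟩
  have hVS1 : ∀ z, z ∈ V → z ∈ S → z = 1 := by
    intro z hzV hzS
    apply hcent z hzS
    · rw [hVcomm z hzV a haV, mul_inv_cancel_right]
    · rw [hVcomm z hzV b hbV, mul_inv_cancel_right]
  have hScard : Nat.card S = 6 := by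
    have hle : Nat.card S ≤ 6 := by
      have hsurj : Function.Surjective (fun p : K × T => (⟨(p.1 : G) * (p.2 : G),
          (hSmem _).mpr ⟨p.1, p.1.2, p.2, p.2.2, rfl⟩⟩ : S)) := by
        rintro ⟨s, hs⟩
        obtain ⟨k, hk, u, hu, rfl⟩ := (hSmem s).mp hs
        exact ⟨(⟨k, hk⟩, ⟨u, hu⟩), rfl⟩
      have h1 := Nat.card_le_card_of_surjective _ hsurj
      rw [Nat.card_prod, hKcard, hTcard] at h1
      exact h1
    have h3 : 3 ∣ Nat.card S := by rw [← hKcard]; exact Subgroup.card_dvd_of_le hKS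
    have h2 : 2 ∣ Nat.card S := by rw [← hTcard]; exact Subgroup.card_dvd_of_le hTS
    have hpos : 0 < Nat.card S := Nat.card_pos
    omega
  have hHcard : Nat.card H = 24 := by
    have hbij : Function.Bijective (fun p : V × S => (⟨(p.1 : G) * (p.2 : G),
        (hHmem _).mpr ⟨p.1, p.1.2, p.2, p.2.2, rfl⟩⟩ : H)) := by
      constructor
      · rintro ⟨⟨v, hv⟩, ⟨s, hs⟩⟩ ⟨⟨v', hv'⟩, ⟨s', hs'⟩⟩ h
        have h1 : v * s = v' * s' := congrArg Subtype.val h
        have h2 : v'⁻¹ * v = s' * s⁻¹ := by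
          calc v'⁻¹ * v = v'⁻¹ * (v * s) * s⁻¹ := by group
            _ = v'⁻¹ * (v' * s') * s⁻¹ := by rw [h1]
            _ = s' * s⁻¹ := by group
        have h3 : v'⁻¹ * v = 1 :=
          hVS1 _ (V.mul_mem (V.inv_mem hv') hv) (by rw [h2]; exact S.mul_mem hs' (S.inv_mem hs))
        have h4 : v = v' := by
          calc v = v' * (v'⁻¹ * v) := by group
            _ = v' := by rw [h3, mul_one]
        have h5 : s = s' := by
          rw [h4] at h1; exact mul_left_cancel h1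
        subst h4
        subst h5
        rfl
      · rintro ⟨g, hg⟩
        obtain ⟨v, hv, s, hs, rfl⟩ := (hHmem g).mp hg
        exact ⟨(⟨v, hv⟩, ⟨s, hs⟩), rfl⟩
    have h := Nat.card_congr (Equiv.ofBijective _ hbij)
    rw [Nat.card_prod, hVcard, hScard] at h
    omega
  have hcoreG : ∀ n ∈ S, (∀ g ∈ H, g * n * g⁻¹ ∈ S) → n = 1 := by
    intro n hn hconj
    have hcomm : ∀ v ∈ V, v * n * v⁻¹ = n := by
      intro v hv
      have h1 : v * n * v⁻¹ * n⁻¹ ∈ S := S.mul_mem (hconj v (hVH hv)) (S.inv_mem hn)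
      have h2 : v * n * v⁻¹ * n⁻¹ ∈ V := by
        have e : v * n * v⁻¹ * n⁻¹ = v * (n * v⁻¹ * n⁻¹) := by group
        rw [e]; exact V.mul_mem hv (hSV n hn _ (V.inv_mem hv))
      have h3 := hVS1 _ h2 h1
      calc v * n * v⁻¹ = (v * n * v⁻¹ * n⁻¹) * n := by group
        _ = n := by rw [h3, one_mul]
    apply hcent n hn
    · rw [← mul_inv_eq_iff_eq_mul.mp (hcomm a haV), mul_inv_cancel_right]
    · rw [← mul_inv_eq_iff_eq_mul.mp (hcomm b hbV), mul_inv_cancel_right]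
  have hS' : Nat.card (S.subgroupOf H) = 6 := by
    rw [Nat.card_congr (Subgroup.subgroupOfEquivOfLe hSH).toEquiv, hScard]
  refine ⟨H, s4_of_card hHcard (S.subgroupOf H) hS' ?_⟩
  intro n hn
  have h1 : (n : G) ∈ S := by
    have h0 := hn 1
    have e : (1 : H) * n * (1 : H)⁻¹ = n := by group
    rw [e, Subgroup.mem_subgroupOf] at h0
    exact h0
  have h2 : (n : G) = 1 := hcoreG n h1 (fun g hg => by
    have h0 := hn ⟨g, hg⟩
    rw [Subgroup.mem_subgroupOf] at h0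
    exact h0)
  exact Subtype.ext h2

/-- The four-cycle `(0 1)(1 2)(2 3)`. -/
def s4cyc : Equiv.Perm (Fin 4) := Equiv.swap 0 1 * Equiv.swap 1 2 * Equiv.swap 2 3

theorem s4cyc_sq_ne : s4cyc * s4cyc ≠ 1 := by decide
theorem s4cyc_four : s4cyc * s4cyc * (s4cyc * s4cyc) = 1 := by decide

theorem mod8_of_sq (q : ℕ) (h : q ^ 2 % 16 = 1) : q % 8 = 1 ∨ q % 8 = 7 := by
  have key : ∀ r < 16, r ^ 2 % 16 = 1 → r % 8 = 1 ∨ r % 8 = 7 := by decide
  rw [Nat.pow_mod] at h
  have h1 := key (q % 16) (Nat.mod_lt _ (by norm_num)) h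
  omega

end Cfsg.Agent.Helper12
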