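import Mathlib
import Cfsg.Agent.Helper12.A4
import Cfsg.Agent.Helper12.SL2Orders
import Cfsg.Agent.Helper12.SL2Unip
import Cfsg.Agent.Helper12.SL2Char2
import Cfsg.Agent.S0809
import Cfsg.Agent.S5016

set_option autoImplicit false

namespace Cfsg.Agent.Helper12

variable {F : Type*} [Field F]

/-- `PSL₂(q)` for odd `q` contains a copy of `A₄`. -/
theorem psl2_exists_a4_of_odd [Fintype F] (hodd : Odd (Fintype.card F)) :
    ∃ H : Subgroup (Matrix.ProjectiveSpecialLinearGroup (Fin 2) F),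
      Nonempty (H ≃* alternatingGroup (Fin 4)) := by
  have h2 : (2 : F) ≠ 0 := two_ne_zero_of_odd hodd
  obtain ⟨a, b, hab⟩ := sl2_norm_universal hodd (0 : F) (S0809.four_ne_zero_sq hodd) (-1)
  obtain ⟨h, hh⟩ : ∃ h : F, 2 * h = 1 := ⟨2⁻¹, mul_inv_cancel₀ h2⟩
  have hdetA : (0 : F) * 0 - 1 * (-1) = 1 := by ring
  have hdetB : a * (-a) - b * b = 1 := by linear_combination (-1 : F) * hab
  have hdetU : (h * (1 + a + b)) * (h * (1 - a - b)) - (h * (1 + b - a)) * (h * (-1 + b - a)) = 1 := by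
    linear_combination (2 * h + 1) * hh - 2 * h ^ 2 * hab
  obtain ⟨A, hA⟩ : ∃ A : Matrix.SpecialLinearGroup (Fin 2) F, A = sl2mk (0 : F) 1 (-1) 0 hdetA :=
    ⟨_, rfl⟩
  obtain ⟨B, hB⟩ : ∃ B : Matrix.SpecialLinearGroup (Fin 2) F, B = sl2mk a b b (-a) hdetB := ⟨_, rfl⟩
  obtain ⟨U, hU⟩ : ∃ U : Matrix.SpecialLinearGroup (Fin 2) F,
      U = sl2mk (h * (1 + a + b)) (h * (1 + b - a)) (h * (-1 + b - a)) (h * (1 - a - b)) hdetU :=
    ⟨_, rfl⟩
  have hanti : A * B = sl2NegOne * (B * A) := by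
    apply Subtype.ext
    rw [hA, hB]
    simp only [Matrix.SpecialLinearGroup.coe_mul, sl2NegOne, sl2mk_val, Matrix.mul_fin_two]
    apply S5016.mat2_ext <;> ring
  have hUA : U * A = B * U := by
    rw [sl2_mul_eq_iff, hU, hA, hB, sl2mk_val, sl2mk_val, sl2mk_val, Matrix.mul_fin_two,
      Matrix.mul_fin_two]
    apply S5016.mat2_ext <;>
      first | ring1 | linear_combination h * hab | linear_combination (-h) * hab
  have hUB : U * B = (A * B) * U := by
    rw [sl2_mul_eq_iff, Matrix.SpecialLinearGroup.coe_mul, hU, hA, hB, sl2mk_val, sl2mk_val,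
      sl2mk_val, Matrix.mul_fin_two, Matrix.mul_fin_two, Matrix.mul_fin_two]
    apply S5016.mat2_ext <;>
      first | ring1 | linear_combination h * hab | linear_combination (-h) * hab
  obtain ⟨ha1, hb1, hne, haa, hbb, hcomm⟩ := S0807.kpair_of_anti h2 A B hanti
  have hca : (QuotientGroup.mk U : Matrix.ProjectiveSpecialLinearGroup (Fin 2) F) *
      QuotientGroup.mk A * (QuotientGroup.mk U)⁻¹ = QuotientGroup.mk B := by
    rw [mul_inv_eq_iff_eq_mul]
    exact congrArg (QuotientGroup.mk :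
      Matrix.SpecialLinearGroup (Fin 2) F → Matrix.ProjectiveSpecialLinearGroup (Fin 2) F) hUA
  have hcb : (QuotientGroup.mk U : Matrix.ProjectiveSpecialLinearGroup (Fin 2) F) *
      QuotientGroup.mk B * (QuotientGroup.mk U)⁻¹ = QuotientGroup.mk A * QuotientGroup.mk B := by
    rw [mul_inv_eq_iff_eq_mul]
    exact congrArg (QuotientGroup.mk :
      Matrix.SpecialLinearGroup (Fin 2) F → Matrix.ProjectiveSpecialLinearGroup (Fin 2) F) hUB
  have hc1 : (QuotientGroup.mk U : Matrix.ProjectiveSpecialLinearGroup (Fin 2) F) ≠ 1 := by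
    intro h1
    rw [h1, one_mul, inv_one, mul_one] at hca
    exact hne hca
  have htr : (U : Matrix (Fin 2) (Fin 2) F).trace = 1 := by
    rw [hU, sl2mk_val, Matrix.trace_fin_two_of]
    linear_combination hh
  have hM2 : (U : Matrix (Fin 2) (Fin 2) F) * (U : Matrix (Fin 2) (Fin 2) F) =
      (U : Matrix (Fin 2) (Fin 2) F) - 1 := by
    rw [sl2_cayley, htr, one_smul]
  have hM3 : (U : Matrix (Fin 2) (Fin 2) F) ^ 3 = (-1 : F) • (1 : Matrix (Fin 2) (Fin 2) F) := by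
    calc (U : Matrix (Fin 2) (Fin 2) F) ^ 3
        = (U : Matrix (Fin 2) (Fin 2) F) * (U : Matrix (Fin 2) (Fin 2) F) *
          (U : Matrix (Fin 2) (Fin 2) F) := by rw [pow_succ, pow_two]
      _ = ((U : Matrix (Fin 2) (Fin 2) F) - 1) * (U : Matrix (Fin 2) (Fin 2) F) := by rw [hM2]
      _ = (U : Matrix (Fin 2) (Fin 2) F) * (U : Matrix (Fin 2) (Fin 2) F) -
          (U : Matrix (Fin 2) (Fin 2) F) := by rw [sub_mul, one_mul]
      _ = (U : Matrix (Fin 2) (Fin 2) F) - 1 - (U : Matrix (Fin 2) (Fin 2) F) := by rw [hM2]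
      _ = (-1 : F) • (1 : Matrix (Fin 2) (Fin 2) F) := by rw [neg_smul, one_smul]; abel
  have hc3 : (QuotientGroup.mk U : Matrix.ProjectiveSpecialLinearGroup (Fin 2) F) ^ 3 = 1 :=
    psl2_pow_eq_one_of_scalar U 3 (-1) hM3
  have hc : orderOf (QuotientGroup.mk U : Matrix.ProjectiveSpecialLinearGroup (Fin 2) F) = 3 :=
    orderOf_eq_prime hc3 hc1
  exact exists_a4_of_rel _ _ _ haa hbb hcomm ha1 hb1 hne hc hca hcb

/-- `PSL₂(2^n)` for even `n` contains a copy of `A₄`. -/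
theorem psl2_exists_a4_char2 [Fintype F] [CharP F 2] (n : ℕ) (hn : Even n)
    (hF : Fintype.card F = 2 ^ n) :
    ∃ H : Subgroup (Matrix.ProjectiveSpecialLinearGroup (Fin 2) F),
      Nonempty (H ≃* alternatingGroup (Fin 4)) := by
  classical
  have h2 : (2 : F) = 0 := char2_two_eq_zero
  obtain ⟨z, hz⟩ := IsCyclic.exists_generator (α := Fˣ)
  have hzo : orderOf z = Fintype.card F - 1 := by
    rw [orderOf_eq_card_of_forall_mem_zpowers hz, Nat.card_units, Nat.card_eq_fintype_card]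
  have h3 : 3 ∣ orderOf z := by
    rw [hzo, hF]
    obtain ⟨k, rfl⟩ := hn
    have e : 2 ^ (k + k) = 4 ^ k := by
      rw [← two_mul, pow_mul]; norm_num
    rw [e]
    exact three_dvd_four_pow_sub_one k
  have hpos : 0 < orderOf z := orderOf_pos z
  obtain ⟨w, hw⟩ := exists_orderOf_of_dvd z 3 hpos h3
  have hw3 : (w : F) ^ 3 = 1 := by
    have h1 := pow_orderOf_eq_one w
    rw [hw] at h1
    have h4 := congrArg Units.val h1
    rw [Units.val_pow_eq_pow_val, Units.val_one] at h4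
    exact h4
  have hw1 : (w : F) ≠ 1 := by
    intro h1
    have h4 : w = 1 := Units.ext h1
    rw [h4, orderOf_one] at hw
    omega
  have hwq : (w : F) ^ 2 + (w : F) + 1 = 0 := by
    have h1 : ((w : F) - 1) * ((w : F) ^ 2 + (w : F) + 1) = 0 := by linear_combination hw3
    rcases mul_eq_zero.mp h1 with h4 | h4
    · exact absurd (sub_eq_zero.mp h4) hw1
    · exact h4
  have haa : (sl2U (1 : F)) * sl2U 1 = 1 := by
    rw [sl2U_mul]
    have e : (1 : F) + 1 = 0 := by linear_combination h2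
    rw [e, sl2U_zero]
  have hbb : (sl2U ((w : F) ^ 2)) * sl2U ((w : F) ^ 2) = 1 := by
    rw [sl2U_mul]
    have e : (w : F) ^ 2 + (w : F) ^ 2 = 0 := by linear_combination (w : F) ^ 2 * h2
    rw [e, sl2U_zero]
  have hab : (sl2U (1 : F)) * sl2U ((w : F) ^ 2) = sl2U ((w : F) ^ 2) * sl2U 1 := by
    rw [sl2U_mul, sl2U_mul, add_comm]
  have ha : (sl2U (1 : F)) ≠ 1 := sl2U_ne_one one_ne_zero
  have hb : (sl2U ((w : F) ^ 2)) ≠ 1 := sl2U_ne_one (pow_ne_zero 2 w.ne_zero)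
  have hne : (sl2U (1 : F)) ≠ sl2U ((w : F) ^ 2) := by
    intro h1
    have h4 : (1 : F) = (w : F) ^ 2 := sl2U_injective h1
    apply w.ne_zero
    linear_combination hwq + h4 - h2
  have hc : orderOf (sl2diag w) = 3 := by
    rw [← sl2diagHom_apply, orderOf_injective sl2diagHom sl2diagHom_injective, hw]
  have hrel : ∀ t : F, sl2diag w * sl2U t = sl2U ((w : F) ^ 2 * t) * sl2diag w := by
    intro t
    have hu : (w : F) * ((w⁻¹ : Fˣ) : F) = 1 := Units.mul_inv w
    rw [sl2_mul_eq_iff, sl2diag_val, sl2U_val, sl2U_val, Matrix.mul_fin_two, Matrix.mul_fin_two]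
    apply S5016.mat2_ext <;>
      first | ring1 | linear_combination (-(w : F) * t) * hu | linear_combination ((w : F) * t) * hu
  have hca : sl2diag w * sl2U (1 : F) * (sl2diag w)⁻¹ = sl2U ((w : F) ^ 2) := by
    rw [mul_inv_eq_iff_eq_mul, hrel, mul_one]
  have hcb : sl2diag w * sl2U ((w : F) ^ 2) * (sl2diag w)⁻¹ = sl2U (1 : F) * sl2U ((w : F) ^ 2) := by
    have e : (w : F) ^ 2 * (w : F) ^ 2 = 1 + (w : F) ^ 2 := by
      linear_combination (w : F) * hw3 - hwq + (w : F) * h2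
    rw [mul_inv_eq_iff_eq_mul, hrel, sl2U_mul, e]
  obtain ⟨H, ⟨e⟩⟩ := exists_a4_of_rel _ _ _ haa hbb hab ha hb hne hc hca hcb
  have hinj := psl2_mk_injective_char2 (F := F) h2
  exact ⟨H.map (QuotientGroup.mk' (Subgroup.center (Matrix.SpecialLinearGroup (Fin 2) F))),
    ⟨(H.equivMapOfInjective (QuotientGroup.mk' (Subgroup.center (Matrix.SpecialLinearGroup (Fin 2) F)))
      hinj).symm.trans e⟩⟩

/-- In `SL₂(2^n)` with `n` odd, no element of order 3 conjugates an involution to a commuting one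
(auxiliary form with the involution in normal form). -/
theorem no_a4_char2_aux [Fintype F] [CharP F 2] (k : ℕ) (hF : Fintype.card F = 2 ^ (2 * k + 1))
    (C : Matrix.SpecialLinearGroup (Fin 2) F) (hC3 : C * C * C = 1) (hC1 : C ≠ 1)
    (hcomm : (C * sl2U 1 * C⁻¹) * sl2U 1 = sl2U 1 * (C * sl2U 1 * C⁻¹)) : False := by
  have h2 : (2 : F) = 0 := char2_two_eq_zero
  obtain ⟨Y, hY⟩ : ∃ Y : Matrix.SpecialLinearGroup (Fin 2) F, Y = C * sl2U 1 * C⁻¹ := ⟨_, rfl⟩
  rw [← hY] at hcomm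
  obtain ⟨hY10, hY01⟩ := (sl2U_comm_iff (one_ne_zero : (1 : F) ≠ 0) Y).mp hcomm
  have hYC : Y * C = C * sl2U 1 := by rw [hY]; group
  obtain ⟨c0, c1, c2, c3, hCm, hdet⟩ := sl2_eta C
  obtain ⟨y0, y1, y2, y3, hYm, -⟩ := sl2_eta Y
  rw [hYm] at hY10 hY01
  have hy2 : y2 = 0 := hY10
  have hy03 : y0 = y3 := hY01
  rw [sl2_mul_eq_iff, hYm, hCm, sl2U_val, Matrix.mul_fin_two, Matrix.mul_fin_two] at hYC
  obtain ⟨-, -, e10, e11⟩ := S5016.mat2_inj hYC
  have hc2 : c2 = 0 := by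
    have h1 : c2 * c2 = 0 := by
      rw [hy2] at e10 e11
      linear_combination c3 * e10 - c2 * e11
    exact mul_self_eq_zero.mp h1
  subst hc2
  have hC3' := hC3
  rw [← mul_one (1 : Matrix.SpecialLinearGroup (Fin 2) F), sl2_mul_eq_iff,
    Matrix.SpecialLinearGroup.coe_mul, hCm, Matrix.SpecialLinearGroup.coe_one, mul_one,
    Matrix.mul_fin_two, Matrix.mul_fin_two, Matrix.one_fin_two] at hC3'
  obtain ⟨e00, -, -, -⟩ := S5016.mat2_inj hC3'
  have hc03 : c0 ^ 3 = 1 := by linear_combination e00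
  have hc0ne : c0 ≠ 0 := by
    intro h0
    rw [h0] at hc03
    norm_num at hc03
  have hc01 : c0 ≠ 1 := by
    intro h1
    have hc3 : c3 = 1 := by
      rw [h1] at hdet
      linear_combination hdet
    have h01 : (C : Matrix (Fin 2) (Fin 2) F) 0 0 = (C : Matrix (Fin 2) (Fin 2) F) 1 1 := by
      rw [hCm]
      show c0 = c3
      rw [h1, hc3]
    have hCC : C * C = 1 := (sl2_char2_mul_self_eq_one_iff C).mpr h01
    rw [hCC, one_mul] at hC3
    exact hC1 hC3
  have hu3 : (Units.mk0 c0 hc0ne) ^ 3 = 1 := by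
    apply Units.ext
    rw [Units.val_pow_eq_pow_val, Units.val_mk0, Units.val_one]
    exact hc03
  have hu1 : Units.mk0 c0 hc0ne ≠ 1 := by
    intro h1
    apply hc01
    have h4 := congrArg Units.val h1
    rw [Units.val_mk0, Units.val_one] at h4
    exact h4
  have ho : orderOf (Units.mk0 c0 hc0ne) = 3 := orderOf_eq_prime hu3 hu1
  have hd : 3 ∣ 2 ^ (2 * k + 1) - 1 := by
    have h1 := orderOf_dvd_natCard (Units.mk0 c0 hc0ne)
    rw [ho, Nat.card_units, Nat.card_eq_fintype_card, hF] at h1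
    exact h1
  have hm := two_pow_odd_mod_three k
  omega

/-- In `SL₂(2^n)` with `n` odd, no element of order 3 conjugates an involution to a commuting one. -/
theorem no_a4_char2 [Fintype F] [CharP F 2] (k : ℕ) (hF : Fintype.card F = 2 ^ (2 * k + 1))
    (X C : Matrix.SpecialLinearGroup (Fin 2) F) (hXX : X * X = 1) (hX1 : X ≠ 1)
    (hC3 : C * C * C = 1) (hC1 : C ≠ 1)
    (hcomm : (C * X * C⁻¹) * X = X * (C * X * C⁻¹)) : False := by
  have h2 : (2 : F) = 0 := char2_two_eq_zero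
  have hXs : ¬ Sl2Scalar X := fun hs => hX1 (sl2_char2_scalar_eq_one X hs)
  have hUs : ¬ Sl2Scalar (sl2U (1 : F)) := by
    intro hs
    have h1 : ((sl2U (1 : F) : Matrix.SpecialLinearGroup (Fin 2) F) : Matrix (Fin 2) (Fin 2) F) 0 1 = 0 :=
      hs.1
    rw [sl2U_val] at h1
    exact one_ne_zero h1
  have ht : (X : Matrix (Fin 2) (Fin 2) F).trace =
      ((sl2U (1 : F) : Matrix.SpecialLinearGroup (Fin 2) F) : Matrix (Fin 2) (Fin 2) F).trace := by
    have h1 := (sl2_char2_mul_self_eq_one_iff X).mp hXX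
    rw [Matrix.trace_fin_two, Matrix.trace_fin_two, sl2U_val, h1]
    show (X : Matrix (Fin 2) (Fin 2) F) 1 1 + (X : Matrix (Fin 2) (Fin 2) F) 1 1 = 1 + 1
    linear_combination ((X : Matrix (Fin 2) (Fin 2) F) 1 1 - 1) * h2
  obtain ⟨g, hg⟩ := isConj_iff.mp (sl2_char2_isConj_of_trace X (sl2U 1) hXs hUs ht)
  apply no_a4_char2_aux k hF (g * C * g⁻¹)
  · have e : g * C * g⁻¹ * (g * C * g⁻¹) * (g * C * g⁻¹) = g * (C * C * C) * g⁻¹ := by group
    rw [e, hC3]; group
  · intro h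
    apply hC1
    have e : C = g⁻¹ * (g * C * g⁻¹) * g := by group
    rw [e, h]; group
  · have e1 : (g * C * g⁻¹) * (g * X * g⁻¹) * (g * C * g⁻¹)⁻¹ * (g * X * g⁻¹) =
        g * ((C * X * C⁻¹) * X) * g⁻¹ := by group
    have e2 : (g * X * g⁻¹) * ((g * C * g⁻¹) * (g * X * g⁻¹) * (g * C * g⁻¹)⁻¹) =
        g * (X * (C * X * C⁻¹)) * g⁻¹ := by group
    rw [← hg, e1, e2, hcomm]

end Cfsg.Agent.Helper12
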