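import Mathlib
import Cfsg.Prelude.Def_Characters
import Cfsg.Prelude.Def_ParabolicCharacters

set_option autoImplicit false

namespace Cfsg.Agent.Helper12

section generic

variable {G : Type*} [Group G]

theorem extendByZero_mem (H : Subgroup G) (θ : H → ℂ) {g : G} (hg : g ∈ H) :
    Cfsg.extendByZero H θ g = θ ⟨g, hg⟩ :=
  Function.Injective.extend_apply Subtype.val_injective θ 0 ⟨g, hg⟩

theorem extendByZero_not_mem (H : Subgroup G) (θ : H → ℂ) {g : G} (hg : g ∉ H) :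
    Cfsg.extendByZero H θ g = 0 := by
  have h : ¬∃ a : H, (Subtype.val : H → G) a = g := by
    rintro ⟨⟨z, hz⟩, rfl⟩
    exact hg hz
  exact Function.extend_apply' θ (0 : G → ℂ) g h

theorem indFun_def [Fintype G] (H : Subgroup G) (θ : H → ℂ) (g : G) :
    Cfsg.indFun H θ g = (Nat.card H : ℂ)⁻¹ * ∑ x : G, Cfsg.extendByZero H θ (x⁻¹ * g * x) := rfl

theorem indFun_conj [Fintype G] (H : Subgroup G) (θ : H → ℂ) (h g : G) :
    Cfsg.indFun H θ (h * g * h⁻¹) = Cfsg.indFun H θ g := by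
  rw [indFun_def, indFun_def]
  congr 1
  refine Fintype.sum_equiv (Equiv.mulLeft h⁻¹) _ _ (fun x => ?_)
  congr 1
  show x⁻¹ * (h * g * h⁻¹) * x = (h⁻¹ * x)⁻¹ * g * (h⁻¹ * x)
  group

theorem card_subgroup_ne_zero [Finite G] (H : Subgroup G) : (Nat.card H : ℂ) ≠ 0 :=
  Nat.cast_ne_zero.mpr Nat.card_pos.ne'

theorem sum_extendByZero_const [Fintype G] (H : Subgroup G) (c : ℂ) :
    (∑ x : G, Cfsg.extendByZero H (fun _ => c) x) = (Nat.card H : ℂ) * c := by
  classical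
  have h1 : ∀ x : G, Cfsg.extendByZero H (fun _ => c) x = if x ∈ H then c else 0 := by
    intro x
    by_cases hx : x ∈ H
    · rw [if_pos hx, extendByZero_mem H _ hx]
    · rw [if_neg hx, extendByZero_not_mem H _ hx]
  rw [Finset.sum_congr rfl (fun x _ => h1 x), Finset.sum_ite, Finset.sum_const_zero, add_zero,
    Finset.sum_const, nsmul_eq_mul]
  congr 2
  rw [Nat.card_eq_fintype_card, Fintype.card_subtype]

theorem sum_extendByZero_const_mul [Fintype G] (H : Subgroup G) (c : ℂ) (w : G) :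
    (∑ x : G, Cfsg.extendByZero H (fun _ => c) (w * x)) = (Nat.card H : ℂ) * c := by
  rw [← sum_extendByZero_const H c]
  exact Fintype.sum_equiv (Equiv.mulLeft w) _ _ (fun x => rfl)

theorem indFun_central [Fintype G] (H : Subgroup G) (θ : H → ℂ) {z : G}
    (hz : ∀ x : G, x * z = z * x) (hzH : z ∈ H) :
    Cfsg.indFun H θ z = (Nat.card H : ℂ)⁻¹ * ((Fintype.card G : ℂ) * θ ⟨z, hzH⟩) := by
  rw [indFun_def]
  congr 1
  have h1 : ∀ x : G, Cfsg.extendByZero H θ (x⁻¹ * z * x) = θ ⟨z, hzH⟩ := by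
    intro x
    have h2 : x⁻¹ * z * x = z := by rw [mul_assoc, ← hz x, inv_mul_cancel_left]
    rw [h2]
    exact extendByZero_mem H θ hzH
  rw [Finset.sum_congr rfl (fun x _ => h1 x), Finset.sum_const, Finset.card_univ, nsmul_eq_mul]

/-- Frobenius reciprocity, in the form of a sum identity. -/
theorem sum_indFun_mul [Fintype G] (H : Subgroup G) (θ : H → ℂ) (ψ : G → ℂ)
    (hψ : ∀ x g : G, ψ (x * g * x⁻¹) = ψ g) :
    (∑ g : G, Cfsg.indFun H θ g * ψ g) =
      (Nat.card H : ℂ)⁻¹ * ((Fintype.card G : ℂ) * ∑ g : G, Cfsg.extendByZero H θ g * ψ g) := by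
  have h1 : ∀ g : G, Cfsg.indFun H θ g * ψ g =
      (Nat.card H : ℂ)⁻¹ * ∑ x : G, Cfsg.extendByZero H θ (x⁻¹ * g * x) * ψ g := by
    intro g
    rw [indFun_def, mul_assoc, Finset.sum_mul]
  have h2 : ∀ x : G, (∑ g : G, Cfsg.extendByZero H θ (x⁻¹ * g * x) * ψ g) =
      ∑ g : G, Cfsg.extendByZero H θ g * ψ g := by
    intro x
    refine Fintype.sum_equiv (MulAut.conj x⁻¹).toEquiv _ _ (fun g => ?_)
    show Cfsg.extendByZero H θ (x⁻¹ * g * x) * ψ g =
      Cfsg.extendByZero H θ (x⁻¹ * g * x⁻¹⁻¹) * ψ (x⁻¹ * g * x⁻¹⁻¹)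
    have h3 := hψ x⁻¹ g
    rw [h3, inv_inv]
  rw [Finset.sum_congr rfl (fun g _ => h1 g), ← Finset.mul_sum, Finset.sum_comm]
  congr 1
  rw [Finset.sum_congr rfl (fun x _ => h2 x), Finset.sum_const, Finset.card_univ, nsmul_eq_mul]

end generic

section mulchar

variable {F : Type*} [Field F] [Fintype F]

theorem mulChar_sum_self (χ : MulChar F ℂ) :
    (∑ a : F, (χ * χ⁻¹) a) = (Fintype.card F : ℂ) - 1 := by
  classical
  rw [mul_inv_cancel, MulChar.sum_one_eq_card_units, Fintype.card_units,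
    Nat.cast_sub Fintype.card_pos, Nat.cast_one]

theorem mulChar_sum_ne {χ ψ : MulChar F ℂ} (h : χ ≠ ψ) : (∑ a : F, (χ * ψ⁻¹) a) = 0 :=
  MulChar.sum_eq_zero_of_ne_one (fun h' => h (mul_inv_eq_one.mp h'))

theorem card_sub_one_ne_zero : ((Fintype.card F : ℂ) - 1) ≠ 0 := by
  have h2 : Fintype.card F ≠ 1 := (Fintype.one_lt_card).ne'
  exact sub_ne_zero.mpr (by exact_mod_cast h2)

theorem mulChar_pair_eq (α β α' β' : MulChar F ℂ)
    (H : ∀ a b : F, α a * β b + α b * β a = α' a * β' b + α' b * β' a) :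
    (α = α' ∧ β = β') ∨ (α = β' ∧ β = α') := by
  have hN0 : ((Fintype.card F : ℂ) - 1) ≠ 0 := card_sub_one_ne_zero
  have key : (∑ a : F, (α * α⁻¹) a) * (∑ b : F, (β * β⁻¹) b) +
      (∑ a : F, (β * α⁻¹) a) * (∑ b : F, (α * β⁻¹) b) =
      (∑ a : F, (α' * α⁻¹) a) * (∑ b : F, (β' * β⁻¹) b) +
      (∑ a : F, (β' * α⁻¹) a) * (∑ b : F, (α' * β⁻¹) b) := by
    rw [Finset.sum_mul_sum, Finset.sum_mul_sum, Finset.sum_mul_sum, Finset.sum_mul_sum,
      ← Finset.sum_add_distrib, ← Finset.sum_add_distrib]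
    refine Finset.sum_congr rfl (fun a _ => ?_)
    rw [← Finset.sum_add_distrib, ← Finset.sum_add_distrib]
    refine Finset.sum_congr rfl (fun b _ => ?_)
    simp only [MulChar.mul_apply]
    have h := H a b
    linear_combination (α⁻¹ a * β⁻¹ b) * h
  rw [mulChar_sum_self, mulChar_sum_self] at key
  by_cases h1 : α = α' ∧ β = β'
  · exact Or.inl h1
  by_cases h2 : α = β' ∧ β = α'
  · exact Or.inr h2
  exfalso
  have r1 : (∑ a : F, (α' * α⁻¹) a) * (∑ b : F, (β' * β⁻¹) b) = 0 := by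
    by_cases e1 : α' = α
    · by_cases e2 : β' = β
      · exact absurd ⟨e1.symm, e2.symm⟩ h1
      · rw [mulChar_sum_ne e2, mul_zero]
    · rw [mulChar_sum_ne e1, zero_mul]
  have r2 : (∑ a : F, (β' * α⁻¹) a) * (∑ b : F, (α' * β⁻¹) b) = 0 := by
    by_cases e1 : β' = α
    · by_cases e2 : α' = β
      · exact absurd ⟨e1.symm, e2.symm⟩ h2
      · rw [mulChar_sum_ne e2, mul_zero]
    · rw [mulChar_sum_ne e1, zero_mul]
  rw [r1, r2, add_zero] at key
  by_cases e : β = α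
  · subst e
    rw [mulChar_sum_self] at key
    have h3 : ((Fintype.card F : ℂ) - 1) * ((Fintype.card F : ℂ) - 1) = 0 := by
      linear_combination key / 2
    exact hN0 (mul_self_eq_zero.mp h3)
  · rw [mulChar_sum_ne e, zero_mul, add_zero] at key
    exact hN0 (mul_self_eq_zero.mp key)

theorem sum_units_eq [Fintype Fˣ] (f : F → ℂ) (h0 : f 0 = 0) :
    (∑ a : Fˣ, f (a : F)) = ∑ a : F, f a := by
  refine Fintype.sum_of_injective (fun a : Fˣ => (a : F)) Units.val_injective _ _ ?_ (fun _ => rfl)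
  intro i hi
  by_cases h : i = 0
  · rw [h, h0]
  · exact absurd ⟨Units.mk0 i h, rfl⟩ hi

end mulchar

end Cfsg.Agent.Helper12
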