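import Mathlib
import Cfsg.Agent.Helper12.IndFun
import Cfsg.Agent.Helper12.SL2Card
import Cfsg.Agent.Helper12.SL2Unip
import Cfsg.Agent.S5016
import Cfsg.Agent.S2305

set_option autoImplicit false

namespace Cfsg.Agent.Helper12

variable {F : Type*} [Field F]

theorem mem_BS_iff (g : Matrix.SpecialLinearGroup (Fin 2) F) : g ∈ ((Cfsg.upperTriangularGL 2 F).comap Matrix.SpecialLinearGroup.toGL) ↔ (g : Matrix (Fin 2) (Fin 2) F) 1 0 = 0 := by
  rw [Subgroup.mem_comap]
  exact S2305.mem_B_iff (Matrix.SpecialLinearGroup.toGL g)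

noncomputable def thS (α : MulChar F ℂ) : ↥(((Cfsg.upperTriangularGL 2 F).comap Matrix.SpecialLinearGroup.toGL)) → ℂ :=
  fun b => α (((b : Matrix.SpecialLinearGroup (Fin 2) F) : Matrix (Fin 2) (Fin 2) F) 0 0)

theorem ext_thS_mem (α : MulChar F ℂ) (y : Matrix.SpecialLinearGroup (Fin 2) F) (hy : (y : Matrix (Fin 2) (Fin 2) F) 1 0 = 0) :
    Cfsg.extendByZero ((Cfsg.upperTriangularGL 2 F).comap Matrix.SpecialLinearGroup.toGL) (thS α) y = α ((y : Matrix (Fin 2) (Fin 2) F) 0 0) :=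
  extendByZero_mem _ _ ((mem_BS_iff y).mpr hy)

theorem ext_thS_not_mem (α : MulChar F ℂ) (y : Matrix.SpecialLinearGroup (Fin 2) F) (hy : (y : Matrix (Fin 2) (Fin 2) F) 1 0 ≠ 0) :
    Cfsg.extendByZero ((Cfsg.upperTriangularGL 2 F).comap Matrix.SpecialLinearGroup.toGL) (thS α) y = 0 :=
  extendByZero_not_mem _ _ (fun h => hy ((mem_BS_iff y).mp h))

theorem conj_relS (x g : Matrix.SpecialLinearGroup (Fin 2) F) :
    (x : Matrix (Fin 2) (Fin 2) F) * ((x⁻¹ * g * x : Matrix.SpecialLinearGroup (Fin 2) F) : Matrix (Fin 2) (Fin 2) F) = (g : Matrix (Fin 2) (Fin 2) F) * (x : Matrix (Fin 2) (Fin 2) F) :=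
  (sl2_mul_eq_iff x (x⁻¹ * g * x) g x).mp (by group)

theorem conj_dataS (x g : Matrix.SpecialLinearGroup (Fin 2) F) :
    ∃ p q r s y00 y01 y10 y11 : F,
      (x : Matrix (Fin 2) (Fin 2) F) 0 0 = p ∧ (x : Matrix (Fin 2) (Fin 2) F) 1 0 = r ∧
      ((x⁻¹ * g * x : Matrix.SpecialLinearGroup (Fin 2) F) : Matrix (Fin 2) (Fin 2) F) 0 0 = y00 ∧
      ((x⁻¹ * g * x : Matrix.SpecialLinearGroup (Fin 2) F) : Matrix (Fin 2) (Fin 2) F) 1 0 = y10 ∧
      p * s - q * r = 1 ∧
      p * y00 + q * y10 = (g : Matrix (Fin 2) (Fin 2) F) 0 0 * p + (g : Matrix (Fin 2) (Fin 2) F) 0 1 * r ∧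
      p * y01 + q * y11 = (g : Matrix (Fin 2) (Fin 2) F) 0 0 * q + (g : Matrix (Fin 2) (Fin 2) F) 0 1 * s ∧
      r * y00 + s * y10 = (g : Matrix (Fin 2) (Fin 2) F) 1 0 * p + (g : Matrix (Fin 2) (Fin 2) F) 1 1 * r ∧
      r * y01 + s * y11 = (g : Matrix (Fin 2) (Fin 2) F) 1 0 * q + (g : Matrix (Fin 2) (Fin 2) F) 1 1 * s := by
  have h := conj_relS x g
  have e1 := congrFun (congrFun h 0) 0
  have e2 := congrFun (congrFun h 0) 1
  have e3 := congrFun (congrFun h 1) 0
  have e4 := congrFun (congrFun h 1) 1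
  simp only [Matrix.mul_apply, Fin.sum_univ_two] at e1 e2 e3 e4
  have hd := x.det_coe
  rw [Matrix.det_fin_two] at hd
  exact ⟨(x : Matrix (Fin 2) (Fin 2) F) 0 0, (x : Matrix (Fin 2) (Fin 2) F) 0 1, (x : Matrix (Fin 2) (Fin 2) F) 1 0, (x : Matrix (Fin 2) (Fin 2) F) 1 1,
    ((x⁻¹ * g * x : Matrix.SpecialLinearGroup (Fin 2) F) : Matrix (Fin 2) (Fin 2) F) 0 0, ((x⁻¹ * g * x : Matrix.SpecialLinearGroup (Fin 2) F) : Matrix (Fin 2) (Fin 2) F) 0 1,
    ((x⁻¹ * g * x : Matrix.SpecialLinearGroup (Fin 2) F) : Matrix (Fin 2) (Fin 2) F) 1 0, ((x⁻¹ * g * x : Matrix.SpecialLinearGroup (Fin 2) F) : Matrix (Fin 2) (Fin 2) F) 1 1,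
    rfl, rfl, rfl, rfl, hd, e1, e2, e3, e4⟩

/-- The Weyl element. -/
def wS : Matrix.SpecialLinearGroup (Fin 2) F := sl2mk 0 1 (-1) 0 (by ring)

theorem wS_mul_10 (x : Matrix.SpecialLinearGroup (Fin 2) F) : ((wS * x : Matrix.SpecialLinearGroup (Fin 2) F) : Matrix (Fin 2) (Fin 2) F) 1 0 = -(x : Matrix (Fin 2) (Fin 2) F) 0 0 := by
  rw [Matrix.SpecialLinearGroup.coe_mul, Matrix.mul_apply, Fin.sum_univ_two]
  show (-1 : F) * _ + 0 * _ = _
  ring

theorem indFunS_diag [Fintype F] [DecidableEq F] (α : MulChar F ℂ) (g : Matrix.SpecialLinearGroup (Fin 2) F)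
    (h01 : (g : Matrix (Fin 2) (Fin 2) F) 0 1 = 0) (h10 : (g : Matrix (Fin 2) (Fin 2) F) 1 0 = 0)
    (hne : (g : Matrix (Fin 2) (Fin 2) F) 0 0 ≠ (g : Matrix (Fin 2) (Fin 2) F) 1 1) :
    Cfsg.indFun ((Cfsg.upperTriangularGL 2 F).comap Matrix.SpecialLinearGroup.toGL) (thS α) g = α ((g : Matrix (Fin 2) (Fin 2) F) 0 0) + α ((g : Matrix (Fin 2) (Fin 2) F) 1 1) := by
  obtain ⟨a, ha⟩ : ∃ a : F, (g : Matrix (Fin 2) (Fin 2) F) 0 0 = a := ⟨_, rfl⟩
  obtain ⟨b, hb⟩ : ∃ b : F, (g : Matrix (Fin 2) (Fin 2) F) 1 1 = b := ⟨_, rfl⟩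
  rw [ha, hb] at hne ⊢
  have hpt : ∀ x : Matrix.SpecialLinearGroup (Fin 2) F,
      Cfsg.extendByZero ((Cfsg.upperTriangularGL 2 F).comap Matrix.SpecialLinearGroup.toGL) (thS α) (x⁻¹ * g * x) =
      Cfsg.extendByZero ((Cfsg.upperTriangularGL 2 F).comap Matrix.SpecialLinearGroup.toGL) (fun _ => α a) x +
      Cfsg.extendByZero ((Cfsg.upperTriangularGL 2 F).comap Matrix.SpecialLinearGroup.toGL) (fun _ => α b) (wS * x) := by
    intro x
    obtain ⟨p, q, r, s, y00, y01, y10, y11, hp, hr, hy00, hy10, hdet, E1, E2, E3, E4⟩ :=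
      conj_dataS x g
    rw [ha, h01] at E1
    rw [h10, hb] at E3
    have hwx : ((wS * x : Matrix.SpecialLinearGroup (Fin 2) F) : Matrix (Fin 2) (Fin 2) F) 1 0 = -p := by
      rw [wS_mul_10, hp]
    by_cases hr0 : r = 0
    · have hp0 : p ≠ 0 := by
        intro h0
        rw [h0, hr0] at hdet
        simp at hdet
      have hs0 : s ≠ 0 := by
        intro h0
        rw [h0, hr0] at hdet
        simp at hdet
      have hy : y10 = 0 := by
        have h1 : s * y10 = 0 := by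
          rw [hr0] at E3
          linear_combination E3
        exact (mul_eq_zero.mp h1).resolve_left hs0
      have h00 : y00 = a := by
        have h1 : p * (y00 - a) = 0 := by
          rw [hy] at E1
          linear_combination E1
        exact sub_eq_zero.mp ((mul_eq_zero.mp h1).resolve_left hp0)
      rw [ext_thS_mem α _ (hy10.trans hy), hy00, h00,
        extendByZero_mem _ _ ((mem_BS_iff x).mpr (hr.trans hr0)),
        extendByZero_not_mem _ _ (g := wS * x)
          (fun h => hp0 (neg_eq_zero.mp (hwx.symm.trans ((mem_BS_iff _).mp h)))), add_zero]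
    · by_cases hp0 : p = 0
      · have hq0 : q ≠ 0 := by
          intro h0
          rw [h0, hp0] at hdet
          simp at hdet
        have hy : y10 = 0 := by
          have h1 : q * y10 = 0 := by
            rw [hp0] at E1
            linear_combination E1
          exact (mul_eq_zero.mp h1).resolve_left hq0
        have h00 : y00 = b := by
          have h1 : r * (y00 - b) = 0 := by
            rw [hy] at E3
            linear_combination E3
          exact sub_eq_zero.mp ((mul_eq_zero.mp h1).resolve_left hr0)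
        rw [ext_thS_mem α _ (hy10.trans hy), hy00, h00,
          extendByZero_not_mem _ _ (g := x)
            (fun h => hr0 (hr.symm.trans ((mem_BS_iff x).mp h))),
          extendByZero_mem _ _ ((mem_BS_iff (wS * x)).mpr (hwx.trans (by rw [hp0, neg_zero]))),
          zero_add]
      · have hy : y10 ≠ 0 := by
          intro hy
          rw [hy] at E1 E3
          have h1 : p * (y00 - a) = 0 := by linear_combination E1
          have h2 : r * (y00 - b) = 0 := by linear_combination E3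
          have h3 := sub_eq_zero.mp ((mul_eq_zero.mp h1).resolve_left hp0)
          have h4 := sub_eq_zero.mp ((mul_eq_zero.mp h2).resolve_left hr0)
          exact hne (h3.symm.trans h4)
        rw [ext_thS_not_mem α _ (fun h => hy (hy10.symm.trans h)),
          extendByZero_not_mem _ _ (g := x)
            (fun h => hr0 (hr.symm.trans ((mem_BS_iff x).mp h))),
          extendByZero_not_mem _ _ (g := wS * x)
            (fun h => hp0 (neg_eq_zero.mp (hwx.symm.trans ((mem_BS_iff _).mp h)))), add_zero]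
  rw [indFun_def, Finset.sum_congr rfl (fun x _ => hpt x), Finset.sum_add_distrib,
    sum_extendByZero_const, sum_extendByZero_const_mul, ← mul_add, ← mul_assoc,
    inv_mul_cancel₀ (card_subgroup_ne_zero _), one_mul]

theorem mulVec_two (M : Matrix (Fin 2) (Fin 2) F) (p r : F) :
    M.mulVec ![p, r] = ![M 0 0 * p + M 0 1 * r, M 1 0 * p + M 1 1 * r] := by
  funext i
  have h : ∀ j : Fin 2, M.mulVec ![p, r] j = M j 0 * p + M j 1 * r := fun j => by
    show (fun k => M j k) ⬝ᵥ ![p, r] = _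
    rw [Matrix.vec2_dotProduct]
    rfl
  fin_cases i
  · exact h 0
  · exact h 1

theorem indFunS_elliptic [Fintype F] [DecidableEq F] (α : MulChar F ℂ) (g : Matrix.SpecialLinearGroup (Fin 2) F)
    (hg : ∀ (c : F) (v : Fin 2 → F), v ≠ 0 → (g : Matrix (Fin 2) (Fin 2) F).mulVec v ≠ c • v) :
    Cfsg.indFun ((Cfsg.upperTriangularGL 2 F).comap Matrix.SpecialLinearGroup.toGL) (thS α) g = 0 := by
  have hpt : ∀ x : Matrix.SpecialLinearGroup (Fin 2) F, Cfsg.extendByZero ((Cfsg.upperTriangularGL 2 F).comap Matrix.SpecialLinearGroup.toGL) (thS α) (x⁻¹ * g * x) = 0 := by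
    intro x
    obtain ⟨p, q, r, s, y00, y01, y10, y11, hp, hr, hy00, hy10, hdet, E1, E2, E3, E4⟩ :=
      conj_dataS x g
    apply ext_thS_not_mem
    intro hy
    rw [hy10] at hy
    rw [hy] at E1 E3
    apply hg y00 ![p, r]
    · intro hv0
      have h1 : p = 0 := congrFun hv0 0
      have h2 : r = 0 := congrFun hv0 1
      rw [h1, h2] at hdet
      simp at hdet
    · have e1 : (g : Matrix (Fin 2) (Fin 2) F) 0 0 * p + (g : Matrix (Fin 2) (Fin 2) F) 0 1 * r = y00 * p := by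
        linear_combination (-1 : F) * E1
      have e3 : (g : Matrix (Fin 2) (Fin 2) F) 1 0 * p + (g : Matrix (Fin 2) (Fin 2) F) 1 1 * r = y00 * r := by
        linear_combination (-1 : F) * E3
      rw [mulVec_two, Matrix.smul_vec2, e1, e3]
      rfl
  rw [indFun_def, Finset.sum_congr rfl (fun x _ => hpt x), Finset.sum_const_zero, mul_zero]

theorem indFunS_unip [Fintype F] [DecidableEq F] (α : MulChar F ℂ) (g : Matrix.SpecialLinearGroup (Fin 2) F)
    (h10 : (g : Matrix (Fin 2) (Fin 2) F) 1 0 = 0) (heq : (g : Matrix (Fin 2) (Fin 2) F) 0 0 = (g : Matrix (Fin 2) (Fin 2) F) 1 1)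
    (h01 : (g : Matrix (Fin 2) (Fin 2) F) 0 1 ≠ 0) :
    Cfsg.indFun ((Cfsg.upperTriangularGL 2 F).comap Matrix.SpecialLinearGroup.toGL) (thS α) g = α ((g : Matrix (Fin 2) (Fin 2) F) 0 0) := by
  obtain ⟨a, ha⟩ : ∃ a : F, (g : Matrix (Fin 2) (Fin 2) F) 0 0 = a := ⟨_, rfl⟩
  obtain ⟨c, hc⟩ : ∃ c : F, (g : Matrix (Fin 2) (Fin 2) F) 0 1 = c := ⟨_, rfl⟩
  rw [ha] at heq ⊢
  rw [hc] at h01
  have hpt : ∀ x : Matrix.SpecialLinearGroup (Fin 2) F, Cfsg.extendByZero ((Cfsg.upperTriangularGL 2 F).comap Matrix.SpecialLinearGroup.toGL) (thS α) (x⁻¹ * g * x) =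
      Cfsg.extendByZero ((Cfsg.upperTriangularGL 2 F).comap Matrix.SpecialLinearGroup.toGL) (fun _ => α a) x := by
    intro x
    obtain ⟨p, q, r, s, y00, y01, y10, y11, hp, hr, hy00, hy10, hdet, E1, E2, E3, E4⟩ :=
      conj_dataS x g
    rw [ha, hc] at E1
    rw [h10, ← heq] at E3
    by_cases hr0 : r = 0
    · have hp0 : p ≠ 0 := by
        intro h0
        rw [h0, hr0] at hdet
        simp at hdet
      have hs0 : s ≠ 0 := by
        intro h0
        rw [h0, hr0] at hdet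
        simp at hdet
      have hy : y10 = 0 := by
        have h1 : s * y10 = 0 := by
          rw [hr0] at E3
          linear_combination E3
        exact (mul_eq_zero.mp h1).resolve_left hs0
      have h00 : y00 = a := by
        have h1 : p * (y00 - a) = 0 := by
          rw [hy, hr0] at E1
          linear_combination E1
        exact sub_eq_zero.mp ((mul_eq_zero.mp h1).resolve_left hp0)
      rw [ext_thS_mem α _ (hy10.trans hy), hy00, h00,
        extendByZero_mem _ _ ((mem_BS_iff x).mpr (hr.trans hr0))]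
    · have hy : y10 ≠ 0 := by
        intro hy
        rw [hy] at E1 E3
        have h2 : r * (y00 - a) = 0 := by linear_combination E3
        have h3 : y00 = a := sub_eq_zero.mp ((mul_eq_zero.mp h2).resolve_left hr0)
        rw [h3] at E1
        have h4 : c * r = 0 := by linear_combination (-1 : F) * E1
        rcases mul_eq_zero.mp h4 with h5 | h5
        · exact h01 h5
        · exact hr0 h5
      rw [ext_thS_not_mem α _ (fun h => hy (hy10.symm.trans h)),
        extendByZero_not_mem _ _ (g := x)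
          (fun h => hr0 (hr.symm.trans ((mem_BS_iff x).mp h)))]
  rw [indFun_def, Finset.sum_congr rfl (fun x _ => hpt x), sum_extendByZero_const,
    ← mul_assoc, inv_mul_cancel₀ (card_subgroup_ne_zero _), one_mul]

/-- Parametrisation of the Borel subgroup. -/
def bel (a : Fˣ) (c : F) : Matrix.SpecialLinearGroup (Fin 2) F := sl2mk (a : F) c 0 ((a⁻¹ : Fˣ) : F) (by simp)

theorem bel_val (a : Fˣ) (c : F) :
    ((bel a c : Matrix.SpecialLinearGroup (Fin 2) F) : Matrix (Fin 2) (Fin 2) F) = !![(a : F), c; 0, ((a⁻¹ : Fˣ) : F)] := rfl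

theorem bel_mem (a : Fˣ) (c : F) : bel a c ∈ ((Cfsg.upperTriangularGL 2 F).comap Matrix.SpecialLinearGroup.toGL) := (mem_BS_iff _).mpr rfl

theorem bel_injective : Function.Injective (fun t : Fˣ × F => bel t.1 t.2) := by
  rintro ⟨a, c⟩ ⟨a', c'⟩ h
  have h' : bel a c = bel a' c' := h
  have h1 : ((bel a c : Matrix.SpecialLinearGroup (Fin 2) F) : Matrix (Fin 2) (Fin 2) F) = ((bel a' c' : Matrix.SpecialLinearGroup (Fin 2) F) : Matrix (Fin 2) (Fin 2) F) := by rw [h']
  rw [bel_val, bel_val] at h1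
  obtain ⟨e1, e2, -, -⟩ := S5016.mat2_inj h1
  rw [Prod.mk.injEq]
  exact ⟨Units.ext e1, e2⟩

theorem bel_surj (x : Matrix.SpecialLinearGroup (Fin 2) F) (hx : x ∈ ((Cfsg.upperTriangularGL 2 F).comap Matrix.SpecialLinearGroup.toGL)) : x ∈ Set.range (fun t : Fˣ × F => bel t.1 t.2) := by
  have h10 := (mem_BS_iff x).mp hx
  have hd := x.det_coe
  rw [Matrix.det_fin_two, h10, mul_zero, sub_zero] at hd
  have h00 : (x : Matrix (Fin 2) (Fin 2) F) 0 0 ≠ 0 := left_ne_zero_of_mul_eq_one hd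
  refine ⟨(Units.mk0 _ h00, (x : Matrix (Fin 2) (Fin 2) F) 0 1), ?_⟩
  apply Subtype.ext
  have h11 : (((Units.mk0 _ h00)⁻¹ : Fˣ) : F) = (x : Matrix (Fin 2) (Fin 2) F) 1 1 := by
    rw [Units.val_inv_eq_inv_val, Units.val_mk0]
    exact inv_eq_of_mul_eq_one_right hd
  exact (S5016.mat2_ext rfl rfl h10.symm h11).trans (Matrix.eta_fin_two (x : Matrix (Fin 2) (Fin 2) F)).symm

theorem sum_BS [Fintype F] [DecidableEq F] (θ : ↥(((Cfsg.upperTriangularGL 2 F).comap Matrix.SpecialLinearGroup.toGL)) → ℂ) (ψ : Matrix.SpecialLinearGroup (Fin 2) F → ℂ) :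
    (∑ g : Matrix.SpecialLinearGroup (Fin 2) F, Cfsg.extendByZero ((Cfsg.upperTriangularGL 2 F).comap Matrix.SpecialLinearGroup.toGL) θ g * ψ g) =
      ∑ a : Fˣ, ∑ c : F, θ ⟨bel a c, bel_mem a c⟩ * ψ (bel a c) := by
  rw [← Fintype.sum_prod_type'
    (f := fun (a : Fˣ) (c : F) => θ ⟨bel a c, bel_mem a c⟩ * ψ (bel a c))]
  symm
  refine Fintype.sum_of_injective (fun t : Fˣ × F => bel t.1 t.2) bel_injective _ _ ?_ ?_
  · intro x hx
    have hx' : x ∉ ((Cfsg.upperTriangularGL 2 F).comap Matrix.SpecialLinearGroup.toGL) := fun h => hx (bel_surj x h)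
    show Cfsg.extendByZero ((Cfsg.upperTriangularGL 2 F).comap Matrix.SpecialLinearGroup.toGL) θ x * ψ x = 0
    rw [extendByZero_not_mem _ _ hx', zero_mul]
  · intro t
    show θ ⟨bel t.1 t.2, bel_mem t.1 t.2⟩ * ψ (bel t.1 t.2) =
      Cfsg.extendByZero ((Cfsg.upperTriangularGL 2 F).comap Matrix.SpecialLinearGroup.toGL) θ (bel t.1 t.2) * ψ (bel t.1 t.2)
    rw [extendByZero_mem _ _ (bel_mem t.1 t.2)]

theorem card_BS [Fintype F] [DecidableEq F] :
    (Nat.card ↥(((Cfsg.upperTriangularGL 2 F).comap Matrix.SpecialLinearGroup.toGL)) : ℂ) = ((Fintype.card F : ℂ) - 1) * (Fintype.card F : ℂ) := by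
  have h1 := sum_BS (F := F) (fun _ => (1 : ℂ)) (fun _ => (1 : ℂ))
  have h2 := sum_extendByZero_const (((Cfsg.upperTriangularGL 2 F).comap Matrix.SpecialLinearGroup.toGL)) (1 : ℂ)
  simp only [mul_one] at h1 h2
  rw [h2] at h1
  rw [h1]
  simp only [Finset.sum_const, Finset.card_univ, nsmul_eq_mul, mul_one, Fintype.card_units]
  rw [Nat.cast_sub Fintype.card_pos, Nat.cast_one]

theorem card_SL_complex [Fintype F] [DecidableEq F] :
    (Fintype.card (Matrix.SpecialLinearGroup (Fin 2) F) : ℂ) = (Fintype.card F : ℂ) * ((Fintype.card F : ℂ) ^ 2 - 1) := by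
  rw [← Nat.card_eq_fintype_card, sl2_card, Nat.cast_mul,
    Nat.cast_sub (Nat.one_le_pow _ _ Fintype.card_pos), Nat.cast_pow, Nat.cast_one]

theorem indFunS_central [Fintype F] [DecidableEq F] (α : MulChar F ℂ) (g : Matrix.SpecialLinearGroup (Fin 2) F)
    (h01 : (g : Matrix (Fin 2) (Fin 2) F) 0 1 = 0) (h10 : (g : Matrix (Fin 2) (Fin 2) F) 1 0 = 0)
    (heq : (g : Matrix (Fin 2) (Fin 2) F) 0 0 = (g : Matrix (Fin 2) (Fin 2) F) 1 1) :
    Cfsg.indFun ((Cfsg.upperTriangularGL 2 F).comap Matrix.SpecialLinearGroup.toGL) (thS α) g = ((Fintype.card F : ℂ) + 1) * α ((g : Matrix (Fin 2) (Fin 2) F) 0 0) := by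
  have hcen : ∀ x : Matrix.SpecialLinearGroup (Fin 2) F, x * g = g * x := by
    intro x
    apply Subtype.ext
    rw [Matrix.SpecialLinearGroup.coe_mul, Matrix.SpecialLinearGroup.coe_mul]
    obtain ⟨X, hX⟩ : ∃ X : Matrix (Fin 2) (Fin 2) F, X = (x : Matrix (Fin 2) (Fin 2) F) := ⟨_, rfl⟩
    obtain ⟨a, ha⟩ : ∃ a : F, (g : Matrix (Fin 2) (Fin 2) F) 0 0 = a := ⟨_, rfl⟩
    have hG : (g : Matrix (Fin 2) (Fin 2) F) = !![a, 0; 0, a] := by
      rw [Matrix.eta_fin_two (g : Matrix (Fin 2) (Fin 2) F), ← heq, ha, h01, h10]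
    rw [← hX, hG, Matrix.eta_fin_two X, Matrix.mul_fin_two, Matrix.mul_fin_two]
    apply S5016.mat2_ext <;> ring
  rw [indFun_central _ (thS α) hcen ((mem_BS_iff g).mpr h10)]
  show (Nat.card ↥(((Cfsg.upperTriangularGL 2 F).comap Matrix.SpecialLinearGroup.toGL)) : ℂ)⁻¹ * ((Fintype.card (Matrix.SpecialLinearGroup (Fin 2) F) : ℂ) * α ((g : Matrix (Fin 2) (Fin 2) F) 0 0)) = _
  rw [card_BS, card_SL_complex]
  have hq0 : (Fintype.card F : ℂ) ≠ 0 := Nat.cast_ne_zero.mpr Fintype.card_ne_zero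
  have hq1 : (Fintype.card F : ℂ) - 1 ≠ 0 := card_sub_one_ne_zero
  field_simp
  ring

theorem bel_conj (a : Fˣ) (c : F) (hne : (a : F) ≠ ((a⁻¹ : Fˣ) : F)) :
    ∃ u : Matrix.SpecialLinearGroup (Fin 2) F, bel a c = u * bel a 0 * u⁻¹ := by
  have hba : ((a⁻¹ : Fˣ) : F) - (a : F) ≠ 0 := sub_ne_zero.mpr (Ne.symm hne)
  obtain ⟨t, ht⟩ : ∃ t : F, t * (((a⁻¹ : Fˣ) : F) - (a : F)) = c :=
    ⟨c / (((a⁻¹ : Fˣ) : F) - (a : F)), div_mul_cancel₀ c hba⟩
  refine ⟨sl2U t, ?_⟩
  apply eq_mul_inv_of_mul_eq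
  apply Subtype.ext
  rw [Matrix.SpecialLinearGroup.coe_mul, Matrix.SpecialLinearGroup.coe_mul, bel_val, bel_val,
    sl2U_val, Matrix.mul_fin_two, Matrix.mul_fin_two]
  apply S5016.mat2_ext <;> first | ring1 | linear_combination (-1 : F) * ht

theorem indFunS_bel_sum [Fintype F] [DecidableEq F] (β : MulChar F ℂ) (a : Fˣ) :
    (∑ c : F, Cfsg.indFun ((Cfsg.upperTriangularGL 2 F).comap Matrix.SpecialLinearGroup.toGL) (thS β) (bel a c)) =
      (Fintype.card F : ℂ) * (β (a : F) + β ((a⁻¹ : Fˣ) : F)) := by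
  by_cases hne : (a : F) = ((a⁻¹ : Fˣ) : F)
  · have h0 : Cfsg.indFun ((Cfsg.upperTriangularGL 2 F).comap Matrix.SpecialLinearGroup.toGL) (thS β) (bel a 0) = ((Fintype.card F : ℂ) + 1) * β (a : F) :=
      indFunS_central β (bel a 0) rfl rfl hne
    have h1 : ∀ c ∈ (Finset.univ : Finset F).erase 0,
        Cfsg.indFun ((Cfsg.upperTriangularGL 2 F).comap Matrix.SpecialLinearGroup.toGL) (thS β) (bel a c) = β (a : F) := by
      intro c hc
      exact indFunS_unip β (bel a c) rfl hne (Finset.ne_of_mem_erase hc)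
    rw [← Finset.add_sum_erase Finset.univ _ (Finset.mem_univ (0 : F)), h0,
      Finset.sum_congr rfl h1, Finset.sum_const, Finset.card_erase_of_mem (Finset.mem_univ _),
      Finset.card_univ, nsmul_eq_mul, Nat.cast_sub Fintype.card_pos, Nat.cast_one, ← hne]
    ring
  · have h1 : ∀ c : F, Cfsg.indFun ((Cfsg.upperTriangularGL 2 F).comap Matrix.SpecialLinearGroup.toGL) (thS β) (bel a c) =
        β (a : F) + β ((a⁻¹ : Fˣ) : F) := by
      intro c
      obtain ⟨u, hu⟩ := bel_conj a c hne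
      rw [hu, indFun_conj]
      exact indFunS_diag β (bel a 0) rfl rfl hne
    rw [Finset.sum_congr rfl (fun c _ => h1 c), Finset.sum_const, Finset.card_univ, nsmul_eq_mul]

end Cfsg.Agent.Helper12
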