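import Mathlib
import Cfsg.Agent.Helper12.SL2Ind
import Cfsg.Agent.Helper24.CharInd
import Cfsg.Agent.Helper24.CharDecomp

set_option autoImplicit false

namespace Cfsg.Agent.Helper12

/-- A linear character (a homomorphism to `ℂˣ`) is an irreducible character. -/
theorem isIrrCharacter_of_hom' {G : Type*} [Group G] (φ : G →* ℂˣ) :
    Cfsg.IsIrrCharacter G (fun g => ((φ g : ℂˣ) : ℂ)) := by
  refine ⟨1, { toFun := fun g => ((φ g : ℂˣ) : ℂ) • (1 : Module.End ℂ (Fin 1 → ℂ))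
               map_one' := by simp
               map_mul' := fun a b => by
                 rw [map_mul, Units.val_mul, smul_mul_smul_comm, mul_one] },
    Helper24.isIrreducible_of_finrank_eq_one _ (by simp), ?_⟩
  funext g
  show LinearMap.trace ℂ (Fin 1 → ℂ) (((φ g : ℂˣ) : ℂ) • (1 : Module.End ℂ (Fin 1 → ℂ))) = _
  rw [map_smul, LinearMap.trace_one]
  simp

variable {F : Type*} [Field F]

theorem bs_00_ne_zero (b : ↥(((Cfsg.upperTriangularGL 2 F).comap Matrix.SpecialLinearGroup.toGL))) : ((b : Matrix.SpecialLinearGroup (Fin 2) F) : Matrix (Fin 2) (Fin 2) F) 0 0 ≠ 0 := by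
  have hd := (b : Matrix.SpecialLinearGroup (Fin 2) F).det_coe
  rw [Matrix.det_fin_two, (mem_BS_iff _).mp b.2, mul_zero, sub_zero] at hd
  exact left_ne_zero_of_mul_eq_one hd

noncomputable def bsD : ↥(((Cfsg.upperTriangularGL 2 F).comap Matrix.SpecialLinearGroup.toGL)) →* Fˣ where
  toFun b := Units.mk0 _ (bs_00_ne_zero b)
  map_one' := Units.ext (by
    show (((1 : ↥(((Cfsg.upperTriangularGL 2 F).comap Matrix.SpecialLinearGroup.toGL))) : Matrix.SpecialLinearGroup (Fin 2) F) : Matrix (Fin 2) (Fin 2) F) 0 0 = 1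
    rw [Subgroup.coe_one, Matrix.SpecialLinearGroup.coe_one, Matrix.one_apply_eq])
  map_mul' b b' := Units.ext (by
    show (((b * b' : ↥(((Cfsg.upperTriangularGL 2 F).comap Matrix.SpecialLinearGroup.toGL))) : Matrix.SpecialLinearGroup (Fin 2) F) : Matrix (Fin 2) (Fin 2) F) 0 0 =
      ((b : Matrix.SpecialLinearGroup (Fin 2) F) : Matrix (Fin 2) (Fin 2) F) 0 0 * ((b' : Matrix.SpecialLinearGroup (Fin 2) F) : Matrix (Fin 2) (Fin 2) F) 0 0
    rw [Subgroup.coe_mul, Matrix.SpecialLinearGroup.coe_mul, Matrix.mul_apply, Fin.sum_univ_two,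
      (mem_BS_iff _).mp b'.2, mul_zero, add_zero])

theorem thS_isCharacter (α : MulChar F ℂ) : Cfsg.IsCharacter ↥(((Cfsg.upperTriangularGL 2 F).comap Matrix.SpecialLinearGroup.toGL)) (thS α) := by
  have h := isIrrCharacter_of_hom' (α.toUnitHom.comp (bsD (F := F)))
  have e : (fun b : ↥(((Cfsg.upperTriangularGL 2 F).comap Matrix.SpecialLinearGroup.toGL)) => (((α.toUnitHom.comp bsD) b : ℂˣ) : ℂ)) = thS α := by
    funext b
    rw [MonoidHom.comp_apply, MulChar.coe_toUnitHom]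
    rfl
  rw [e] at h
  exact Helper24.isCharacter_of_isIrrCharacter h

theorem classInner_RS [Fintype F] [DecidableEq F] (α β : MulChar F ℂ)
    [Decidable (α = β)] [Decidable (α = β⁻¹)] :
    Cfsg.classInner (Cfsg.indFun ((Cfsg.upperTriangularGL 2 F).comap Matrix.SpecialLinearGroup.toGL) (thS α)) (Cfsg.indFun ((Cfsg.upperTriangularGL 2 F).comap Matrix.SpecialLinearGroup.toGL) (thS β)) =
      (if α = β then 1 else 0) + (if α = β⁻¹ then 1 else 0) := by
  show (Nat.card (Matrix.SpecialLinearGroup (Fin 2) F) : ℂ)⁻¹ * ∑ g : Matrix.SpecialLinearGroup (Fin 2) F, Cfsg.indFun ((Cfsg.upperTriangularGL 2 F).comap Matrix.SpecialLinearGroup.toGL) (thS α) g *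
    (starRingEnd ℂ) (Cfsg.indFun ((Cfsg.upperTriangularGL 2 F).comap Matrix.SpecialLinearGroup.toGL) (thS β) g) = _
  have hG0 : (Fintype.card (Matrix.SpecialLinearGroup (Fin 2) F) : ℂ) ≠ 0 := Nat.cast_ne_zero.mpr Fintype.card_ne_zero
  have hq0 : (Fintype.card F : ℂ) ≠ 0 := Nat.cast_ne_zero.mpr Fintype.card_ne_zero
  have hq1 : (Fintype.card F : ℂ) - 1 ≠ 0 := card_sub_one_ne_zero
  have hψ : ∀ x g : Matrix.SpecialLinearGroup (Fin 2) F,
      (fun g => (starRingEnd ℂ) (Cfsg.indFun ((Cfsg.upperTriangularGL 2 F).comap Matrix.SpecialLinearGroup.toGL) (thS β) g)) (x * g * x⁻¹) =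
      (fun g => (starRingEnd ℂ) (Cfsg.indFun ((Cfsg.upperTriangularGL 2 F).comap Matrix.SpecialLinearGroup.toGL) (thS β) g)) g := by
    intro x g
    show (starRingEnd ℂ) (Cfsg.indFun ((Cfsg.upperTriangularGL 2 F).comap Matrix.SpecialLinearGroup.toGL) (thS β) (x * g * x⁻¹)) =
      (starRingEnd ℂ) (Cfsg.indFun ((Cfsg.upperTriangularGL 2 F).comap Matrix.SpecialLinearGroup.toGL) (thS β) g)
    rw [indFun_conj]
  have h1 := sum_indFun_mul ((Cfsg.upperTriangularGL 2 F).comap Matrix.SpecialLinearGroup.toGL) (thS α)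
    (fun g => (starRingEnd ℂ) (Cfsg.indFun ((Cfsg.upperTriangularGL 2 F).comap Matrix.SpecialLinearGroup.toGL) (thS β) g)) hψ
  have h2 := sum_BS (F := F) (thS α) (fun g => (starRingEnd ℂ) (Cfsg.indFun ((Cfsg.upperTriangularGL 2 F).comap Matrix.SpecialLinearGroup.toGL) (thS β) g))
  beta_reduce at h1 h2
  have h3 : ∀ a : Fˣ, (∑ c : F, thS α ⟨bel a c, bel_mem a c⟩ *
      (starRingEnd ℂ) (Cfsg.indFun ((Cfsg.upperTriangularGL 2 F).comap Matrix.SpecialLinearGroup.toGL) (thS β) (bel a c))) =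
      (Fintype.card F : ℂ) * ((α * β⁻¹) (a : F) + (α * β) (a : F)) := by
    intro a
    have e4 : ∀ c : F, thS α ⟨bel a c, bel_mem a c⟩ *
        (starRingEnd ℂ) (Cfsg.indFun ((Cfsg.upperTriangularGL 2 F).comap Matrix.SpecialLinearGroup.toGL) (thS β) (bel a c)) =
        α (a : F) * (starRingEnd ℂ) (Cfsg.indFun ((Cfsg.upperTriangularGL 2 F).comap Matrix.SpecialLinearGroup.toGL) (thS β) (bel a c)) := fun c => rfl
    rw [Finset.sum_congr rfl (fun c _ => e4 c), ← Finset.mul_sum, ← map_sum, indFunS_bel_sum,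
      map_mul, map_add, map_natCast]
    have e2 : (starRingEnd ℂ) (β (a : F)) = β⁻¹ (a : F) := MulChar.star_apply' β _
    have e3 : (starRingEnd ℂ) (β ((a⁻¹ : Fˣ) : F)) = β (a : F) := by
      have h := MulChar.star_apply' β ((a⁻¹ : Fˣ) : F)
      have h' : β⁻¹ ((a⁻¹ : Fˣ) : F) = β (a : F) := by
        rw [MulChar.inv_apply', Units.val_inv_eq_inv_val, inv_inv]
      exact h.trans h'
    rw [e2, e3, MulChar.mul_apply, MulChar.mul_apply]
    ring
  have hS1 : α = β → (∑ a : F, (α * β⁻¹) a) = (Fintype.card F : ℂ) - 1 := by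
    intro h
    rw [h]
    exact mulChar_sum_self β
  have hS1' : α ≠ β → (∑ a : F, (α * β⁻¹) a) = 0 := fun h => mulChar_sum_ne h
  have hS2 : α = β⁻¹ → (∑ a : F, (α * β) a) = (Fintype.card F : ℂ) - 1 := by
    intro h
    rw [h]
    have h5 := mulChar_sum_self β⁻¹
    rwa [inv_inv] at h5
  have hS2' : α ≠ β⁻¹ → (∑ a : F, (α * β) a) = 0 := by
    intro h
    have h5 := mulChar_sum_ne h
    rwa [inv_inv] at h5
  rw [h1, h2, Finset.sum_congr rfl (fun a _ => h3 a), ← Finset.mul_sum, Finset.sum_add_distrib,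
    sum_units_eq (⇑(α * β⁻¹)) (MulChar.map_zero _), sum_units_eq (⇑(α * β)) (MulChar.map_zero _),
    card_BS, Nat.card_eq_fintype_card]
  by_cases hab : α = β
  · by_cases hab' : α = β⁻¹
    · rw [if_pos hab, if_pos hab', hS1 hab, hS2 hab']
      field_simp
    · rw [if_pos hab, if_neg hab', hS1 hab, hS2' hab']
      field_simp
      ring
  · by_cases hab' : α = β⁻¹
    · rw [if_neg hab, if_pos hab', hS1' hab, hS2 hab']
      field_simp
      ring
    · rw [if_neg hab, if_neg hab', hS1' hab, hS2' hab']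
      simp

end Cfsg.Agent.Helper12
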