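import Mathlib
import Cfsg.Agent.S2307
import Cfsg.Agent.Helper5.CentralChar
import Cfsg.Agent.Helper5.Isom

set_option autoImplicit false
open Cfsg

namespace Cfsg.Agent.Helper12

open Cfsg.Agent.S2305 (th)
open Cfsg.Agent.S2308 (belG)

section generic12

universe u

theorem irr_central_aux {G : Type u} [Group G] (χ : Cfsg.IrrCharacter G) (z g : G)
    (hz : ∀ x : G, x * z = z * x) (A B : Finset G) (hA : ∀ x, x ∈ A ↔ IsConj z x)
    (hB : ∀ y, y ∈ B ↔ IsConj g y)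
    (h : ∑ x ∈ A, ∑ y ∈ B, (χ : G → ℂ) (x * y) =
      (A.card : ℂ) * (B.card : ℂ) * (χ : G → ℂ) z * (χ : G → ℂ) g / (χ : G → ℂ) 1) :
    (χ : G → ℂ) (z * g) = (χ : G → ℂ) z * (χ : G → ℂ) g / (χ : G → ℂ) 1 := by
  classical
  have hAz : A = {z} := by
    ext x
    rw [hA, Finset.mem_singleton]
    constructor
    · intro hx
      obtain ⟨k, hk⟩ := isConj_iff.mp hx
      rw [← hk, hz k, mul_inv_cancel_right]
    · intro hx
      subst hx
      exact IsConj.refl _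
  rw [hAz, Finset.sum_singleton, Finset.card_singleton, Nat.cast_one, one_mul] at h
  have h2 : ∀ y ∈ B, (χ : G → ℂ) (z * y) = (χ : G → ℂ) (z * g) := by
    intro y hy
    obtain ⟨k, hk⟩ := isConj_iff.mp ((hB y).mp hy)
    have e : z * y = k * (z * g) * k⁻¹ := by
      rw [← hk, ← mul_assoc k z g, hz k]
      group
    rw [e]
    exact Helper24.irr_conj χ _ k
  rw [Finset.sum_congr rfl h2, Finset.sum_const, nsmul_eq_mul] at h
  have hcard : (B.card : ℂ) ≠ 0 := by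
    apply Nat.cast_ne_zero.mpr
    exact Finset.card_ne_zero.mpr ⟨g, (hB g).mpr (IsConj.refl g)⟩
  apply mul_left_cancel₀ hcard
  rw [h]
  ring

theorem irr_central_mul {G : Type u} [Group G] [Fintype G] (χ : Cfsg.IrrCharacter G) (z : G)
    (hz : ∀ x : G, x * z = z * x) (g : G) :
    (χ : G → ℂ) (z * g) = (χ : G → ℂ) z * (χ : G → ℂ) g / (χ : G → ℂ) 1 := by
  classical
  refine irr_central_aux χ z g hz _ _ ?_ ?_ (Helper5.sum_class_mul χ z g)
  · intro x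
    rw [Finset.mem_filter]
    exact ⟨fun h => h.2, fun h => ⟨Finset.mem_univ _, h⟩⟩
  · intro y
    rw [Finset.mem_filter]
    exact ⟨fun h => h.2, fun h => ⟨Finset.mem_univ _, h⟩⟩

theorem irr_central_normSq {G : Type u} [Group G] [Fintype G] (χ : Cfsg.IrrCharacter G) (z : G)
    (hz : ∀ x : G, x * z = z * x) :
    (χ : G → ℂ) z * (starRingEnd ℂ) ((χ : G → ℂ) z) = (χ : G → ℂ) 1 ^ 2 := by
  have h1 := irr_central_mul χ z hz z⁻¹
  rw [mul_inv_cancel, Helper24.irr_inv χ z] at h1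
  have hne := Helper5.irr_one_ne_zero χ
  rw [eq_div_iff hne] at h1
  rw [← h1]
  ring

theorem linear_mul_irr12 {G : Type u} [Group G] [Fintype G] (lam ψ : G → ℂ)
    (hlam : Cfsg.IsIrrCharacter G lam) (hlam1 : lam 1 = 1) (hψ : Cfsg.IsIrrCharacter G ψ) :
    Cfsg.IsIrrCharacter G (lam * ψ) := by
  classical
  apply Helper24.isIrrCharacter_of_inner_self (Helper5.isCharacter_mul
    (Helper24.isCharacter_of_isIrrCharacter hlam) (Helper24.isCharacter_of_isIrrCharacter hψ))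
  have hnorm : ∀ g : G, lam g * starRingEnd ℂ (lam g) = 1 := by
    intro g
    have h1 : lam g⁻¹ = starRingEnd ℂ (lam g) :=
      Helper24.irr_inv (⟨lam, hlam⟩ : Cfsg.IrrCharacter G) g
    have h2 : lam (g * g⁻¹) = lam g * lam g⁻¹ :=
      Helper24.irr_linear_mul (⟨lam, hlam⟩ : Cfsg.IrrCharacter G) hlam1 g g⁻¹
    rw [← h1, ← h2, mul_inv_cancel, hlam1]
  have h3 : Cfsg.classInner ψ ψ = 1 := Helper24.irr_inner_self (⟨ψ, hψ⟩ : Cfsg.IrrCharacter G)
  refine Eq.trans ?_ h3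
  show (Nat.card G : ℂ)⁻¹ * ∑ g : G, (lam * ψ) g * starRingEnd ℂ ((lam * ψ) g) =
    (Nat.card G : ℂ)⁻¹ * ∑ g : G, ψ g * starRingEnd ℂ (ψ g)
  congr 1
  refine Finset.sum_congr rfl fun g _ => ?_
  show lam g * ψ g * starRingEnd ℂ (lam g * ψ g) = ψ g * starRingEnd ℂ (ψ g)
  rw [map_mul]
  linear_combination (ψ g * starRingEnd ℂ (ψ g)) * hnorm g

theorem irr_eq_of_inner_ne_zero {G : Type u} [Group G] [Fintype G] (χ ψ : Cfsg.IrrCharacter G)
    (h : Cfsg.classInner (χ : G → ℂ) (ψ : G → ℂ) ≠ 0) : χ = ψ := by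
  by_contra hne
  exact h (Helper24.irr_inner_ne hne)

end generic12

section fourier12

variable {F : Type*} [Field F] [Fintype F]

theorem mulChar_sum_all_eq_zero [Fintype (MulChar F ℂ)] {x : F} (hx : x ≠ 1) :
    (∑ α : MulChar F ℂ, α x) = 0 := by
  have : NeZero (Monoid.exponent Fˣ) := ⟨Monoid.exponent_ne_zero_of_finite⟩
  obtain ⟨χ, hχ⟩ := MulChar.exists_apply_ne_one_of_hasEnoughRootsOfUnity F ℂ hx
  refine eq_zero_of_mul_eq_self_left hχ ?_
  simp only [Finset.mul_sum, ← MulChar.mul_apply]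
  exact Fintype.sum_bijective _ (Group.mulLeft_bijective χ) _ _ fun χ' => rfl

theorem fourier_units [Fintype (MulChar F ℂ)] [Fintype Fˣ] (h : Fˣ → ℂ)
    (H : ∀ α : MulChar F ℂ, (∑ a : Fˣ, α (a : F) * h a) = 0) : ∀ a, h a = 0 := by
  intro a₀
  have h1 : (∑ α : MulChar F ℂ, α⁻¹ (a₀ : F) * ∑ a : Fˣ, α (a : F) * h a) = 0 := by
    refine Finset.sum_eq_zero (fun α _ => ?_)
    rw [H α, mul_zero]
  have h2 : (∑ α : MulChar F ℂ, α⁻¹ (a₀ : F) * ∑ a : Fˣ, α (a : F) * h a) =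
      ∑ a : Fˣ, h a * ∑ α : MulChar F ℂ, α ((a₀⁻¹ * a : Fˣ) : F) := by
    simp only [Finset.mul_sum]
    rw [Finset.sum_comm]
    refine Finset.sum_congr rfl (fun a _ => Finset.sum_congr rfl (fun α _ => ?_))
    have e : α ((a₀⁻¹ * a : Fˣ) : F) = α⁻¹ (a₀ : F) * α (a : F) := by
      rw [Units.val_mul, Units.val_inv_eq_inv_val, map_mul, MulChar.inv_apply']
    rw [e]
    ring
  rw [h2] at h1
  rw [Finset.sum_eq_single a₀] at h1
  · rw [inv_mul_cancel, Units.val_one] at h1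
    simp only [map_one, Finset.sum_const, Finset.card_univ, nsmul_eq_mul, mul_one] at h1
    rcases mul_eq_zero.mp h1 with h3 | h3
    · exact h3
    · exact absurd h3 (Nat.cast_ne_zero.mpr Fintype.card_ne_zero)
  · intro a _ ha
    have hne : ((a₀⁻¹ * a : Fˣ) : F) ≠ 1 := by
      intro h'
      apply ha
      have h'' : a₀⁻¹ * a = 1 := Units.ext h'
      exact (inv_mul_eq_one.mp h'').symm
    rw [mulChar_sum_all_eq_zero hne, mul_zero]
  · intro h'
    exact absurd (Finset.mem_univ _) h'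

theorem fourier_units2 [Fintype (MulChar F ℂ)] [Fintype Fˣ] (H : Fˣ → Fˣ → ℂ)
    (h : ∀ α β : MulChar F ℂ, (∑ a : Fˣ, ∑ b : Fˣ, α (a : F) * β (b : F) * H a b) = 0) :
    ∀ a b, H a b = 0 := by
  intro a b
  have h1 : ∀ β : MulChar F ℂ, ∀ a : Fˣ, (∑ b : Fˣ, β (b : F) * H a b) = 0 := by
    intro β
    apply fourier_units (fun a => ∑ b : Fˣ, β (b : F) * H a b)
    intro α
    refine Eq.trans ?_ (h α β)
    refine Finset.sum_congr rfl (fun a _ => ?_)
    show α (a : F) * ∑ b : Fˣ, β (b : F) * H a b = _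
    rw [Finset.mul_sum]
    refine Finset.sum_congr rfl (fun b _ => ?_)
    ring
  exact fourier_units (fun b => H a b) (fun β => h1 β a) b

theorem norm_mulChar (α : MulChar F ℂ) {x : F} (hx : x ≠ 0) : ‖α x‖ = 1 := by
  apply Complex.norm_eq_one_of_pow_eq_one (n := Fintype.card F - 1)
  · rw [← map_pow, FiniteField.pow_card_sub_one_eq_one x hx, map_one]
  · have := Fintype.one_lt_card (α := F)
    omega

end fourier12

section gl2

variable {F : Type*} [Field F]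

noncomputable def RG [Fintype F] [DecidableEq F] (α β : MulChar F ℂ) : (Matrix.GeneralLinearGroup (Fin 2) F) → ℂ :=
  Cfsg.indFun (Cfsg.upperTriangularGL 2 F) (th α β)

def IsCusp [Fintype F] (χ : (Matrix.GeneralLinearGroup (Fin 2) F) → ℂ) : Prop :=
  ∀ a b : Fˣ, (∑ c : F, χ (belG a b c)) = 0

noncomputable def detChar (α : MulChar F ℂ) : (Matrix.GeneralLinearGroup (Fin 2) F) → ℂ :=
  fun g => α ((g : (Matrix (Fin 2) (Fin 2) F)).det)

theorem det_ne_zero12 (g : (Matrix.GeneralLinearGroup (Fin 2) F)) : (g : (Matrix (Fin 2) (Fin 2) F)).det ≠ 0 := by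
  rw [Matrix.det_fin_two]
  exact S2305.det_ne_zero' g

theorem det_conj12 (x g : (Matrix.GeneralLinearGroup (Fin 2) F)) : ((x⁻¹ * g * x : (Matrix.GeneralLinearGroup (Fin 2) F)) : (Matrix (Fin 2) (Fin 2) F)).det = (g : (Matrix (Fin 2) (Fin 2) F)).det := by
  have h1 : Matrix.GeneralLinearGroup.det (x⁻¹ * g * x) = Matrix.GeneralLinearGroup.det g := by
    rw [map_mul, map_mul, map_inv, mul_comm, mul_inv_cancel_left]
  have h2 := congrArg Units.val h1
  rw [Matrix.GeneralLinearGroup.val_det_apply, Matrix.GeneralLinearGroup.val_det_apply] at h2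
  exact h2

theorem detChar_irr (α : MulChar F ℂ) : Cfsg.IsIrrCharacter (Matrix.GeneralLinearGroup (Fin 2) F) (detChar α) := by
  have h := isIrrCharacter_of_hom'
    (α.toUnitHom.comp (Matrix.GeneralLinearGroup.det : (Matrix.GeneralLinearGroup (Fin 2) F) →* Fˣ))
  have e : (fun g : (Matrix.GeneralLinearGroup (Fin 2) F) =>
      (((α.toUnitHom.comp (Matrix.GeneralLinearGroup.det : (Matrix.GeneralLinearGroup (Fin 2) F) →* Fˣ)) g : ℂˣ) : ℂ)) =
      detChar α := by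
    funext g
    rw [MonoidHom.comp_apply, MulChar.coe_toUnitHom, Matrix.GeneralLinearGroup.val_det_apply]
    rfl
  rw [e] at h
  exact h

theorem detChar_one (α : MulChar F ℂ) : detChar α (1 : (Matrix.GeneralLinearGroup (Fin 2) F)) = 1 := by
  show α ((1 : (Matrix (Fin 2) (Fin 2) F)).det) = 1
  rw [Matrix.det_one, map_one]

theorem detChar_mul_inv (α : MulChar F ℂ) (g : (Matrix.GeneralLinearGroup (Fin 2) F)) : detChar α g * detChar α⁻¹ g = 1 := by
  show α ((g : (Matrix (Fin 2) (Fin 2) F)).det) * α⁻¹ ((g : (Matrix (Fin 2) (Fin 2) F)).det) = 1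
  rw [← MulChar.mul_apply, mul_inv_cancel,
    MulChar.one_apply (isUnit_iff_ne_zero.mpr (det_ne_zero12 g))]

theorem detChar_conj [Fintype F] (α : MulChar F ℂ) (g : (Matrix.GeneralLinearGroup (Fin 2) F)) :
    (starRingEnd ℂ) (detChar α g) = detChar α⁻¹ g :=
  MulChar.star_apply' α _

theorem detChar_norm [Fintype F] (α : MulChar F ℂ) (g : (Matrix.GeneralLinearGroup (Fin 2) F)) : ‖detChar α g‖ = 1 :=
  norm_mulChar α (det_ne_zero12 g)

theorem th_one_one : th (1 : MulChar F ℂ) 1 = fun _ => (1 : ℂ) := by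
  funext b
  have hb := S2304.b_ne_zero b
  show (1 : MulChar F ℂ) _ * (1 : MulChar F ℂ) _ = 1
  rw [MulChar.one_apply (isUnit_iff_ne_zero.mpr (left_ne_zero_of_mul hb)),
    MulChar.one_apply (isUnit_iff_ne_zero.mpr (right_ne_zero_of_mul hb)), one_mul]

theorem RG_one_one [Fintype F] [DecidableEq F] :
    RG (1 : MulChar F ℂ) 1 = Cfsg.indFun (Cfsg.upperTriangularGL 2 F) (fun _ => (1 : ℂ)) := by
  show Cfsg.indFun (Cfsg.upperTriangularGL 2 F) (th 1 1) = _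
  rw [th_one_one]

theorem RG_self [Fintype F] [DecidableEq F] (α : MulChar F ℂ) (g : (Matrix.GeneralLinearGroup (Fin 2) F)) :
    RG α α g = detChar α g * RG 1 1 g := by
  show Cfsg.indFun (Cfsg.upperTriangularGL 2 F) (th α α) g = detChar α g * Cfsg.indFun (Cfsg.upperTriangularGL 2 F) (th 1 1) g
  rw [indFun_def, indFun_def]
  conv_rhs => rw [mul_left_comm, Finset.mul_sum]
  congr 1
  refine Finset.sum_congr rfl (fun x _ => ?_)
  by_cases hx : ((x⁻¹ * g * x : (Matrix.GeneralLinearGroup (Fin 2) F)) : (Matrix (Fin 2) (Fin 2) F)) 1 0 = 0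
  · rw [S2305.ext_th_mem α α _ hx, S2305.ext_th_mem 1 1 _ hx]
    have hdet := det_conj12 x g
    have hd2 : ((x⁻¹ * g * x : (Matrix.GeneralLinearGroup (Fin 2) F)) : (Matrix (Fin 2) (Fin 2) F)).det =
        ((x⁻¹ * g * x : (Matrix.GeneralLinearGroup (Fin 2) F)) : (Matrix (Fin 2) (Fin 2) F)) 0 0 * ((x⁻¹ * g * x : (Matrix.GeneralLinearGroup (Fin 2) F)) : (Matrix (Fin 2) (Fin 2) F)) 1 1 := by
      rw [Matrix.det_fin_two, hx, mul_zero, sub_zero]
    have hne := S2305.det_ne_zero' (x⁻¹ * g * x)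
    rw [hx, mul_zero, sub_zero] at hne
    rw [MulChar.one_apply (isUnit_iff_ne_zero.mpr (left_ne_zero_of_mul hne)),
      MulChar.one_apply (isUnit_iff_ne_zero.mpr (right_ne_zero_of_mul hne)), mul_one, mul_one,
      ← map_mul, ← hd2, hdet]
    rfl
  · rw [S2305.ext_th_not_mem α α _ hx, S2305.ext_th_not_mem 1 1 _ hx, mul_zero]

theorem sum_RG_mul [Fintype F] [DecidableEq F] (α β : MulChar F ℂ) (ψ : (Matrix.GeneralLinearGroup (Fin 2) F) → ℂ)
    (hψ : ∀ x g : (Matrix.GeneralLinearGroup (Fin 2) F), ψ (x * g * x⁻¹) = ψ g) :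
    (∑ g : (Matrix.GeneralLinearGroup (Fin 2) F), RG α β g * ψ g) = (Nat.card ↥(Cfsg.upperTriangularGL 2 F) : ℂ)⁻¹ * ((Fintype.card (Matrix.GeneralLinearGroup (Fin 2) F) : ℂ) *
      ∑ a : Fˣ, ∑ b : Fˣ, α (a : F) * β (b : F) * ∑ c : F, ψ (belG a b c)) := by
  have h1 := sum_indFun_mul (Cfsg.upperTriangularGL 2 F) (th α β) ψ hψ
  have h2 := S2304.sum_B (F := F) (th α β) ψ
  have h3 : ∀ a b : Fˣ, (∑ c : F, th α β ⟨belG a b c, S2308.belG_mem a b c⟩ * ψ (belG a b c)) =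
      α (a : F) * β (b : F) * ∑ c : F, ψ (belG a b c) := by
    intro a b
    rw [Finset.mul_sum]
    exact Finset.sum_congr rfl (fun c _ => rfl)
  show (∑ g : (Matrix.GeneralLinearGroup (Fin 2) F), Cfsg.indFun (Cfsg.upperTriangularGL 2 F) (th α β) g * ψ g) = _
  rw [h1, h2]
  congr 2
  exact Finset.sum_congr rfl (fun a _ => Finset.sum_congr rfl (fun b _ => h3 a b))

theorem cusp_of_inner_zero [Fintype F] [DecidableEq F] (χ : (Matrix.GeneralLinearGroup (Fin 2) F) → ℂ)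
    (hχ : ∀ x g : (Matrix.GeneralLinearGroup (Fin 2) F), χ (x * g * x⁻¹) = χ g)
    (h : ∀ α β : MulChar F ℂ, Cfsg.classInner (RG α β) χ = 0) : IsCusp χ := by
  classical
  have : Fintype (MulChar F ℂ) := Fintype.ofFinite _
  have hG0 : (Fintype.card (Matrix.GeneralLinearGroup (Fin 2) F) : ℂ) ≠ 0 := Nat.cast_ne_zero.mpr Fintype.card_ne_zero
  have hψ : ∀ x g : (Matrix.GeneralLinearGroup (Fin 2) F), (fun g => (starRingEnd ℂ) (χ g)) (x * g * x⁻¹) =
      (fun g => (starRingEnd ℂ) (χ g)) g := by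
    intro x g
    show (starRingEnd ℂ) (χ (x * g * x⁻¹)) = (starRingEnd ℂ) (χ g)
    rw [hχ]
  have key : ∀ α β : MulChar F ℂ, (∑ a : Fˣ, ∑ b : Fˣ, α (a : F) * β (b : F) *
      ∑ c : F, (starRingEnd ℂ) (χ (belG a b c))) = 0 := by
    intro α β
    have h3 : (Nat.card (Matrix.GeneralLinearGroup (Fin 2) F) : ℂ)⁻¹ * ∑ g : (Matrix.GeneralLinearGroup (Fin 2) F), RG α β g * (starRingEnd ℂ) (χ g) = 0 := h α β
    have h2 : (∑ g : (Matrix.GeneralLinearGroup (Fin 2) F), RG α β g * (starRingEnd ℂ) (χ g)) = 0 := by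
      rcases mul_eq_zero.mp h3 with h4 | h4
      · exact absurd h4 (inv_ne_zero (Nat.cast_ne_zero.mpr Nat.card_pos.ne'))
      · exact h4
    have h5 : (∑ g : (Matrix.GeneralLinearGroup (Fin 2) F), RG α β g * (starRingEnd ℂ) (χ g)) = (Nat.card ↥(Cfsg.upperTriangularGL 2 F) : ℂ)⁻¹ *
        ((Fintype.card (Matrix.GeneralLinearGroup (Fin 2) F) : ℂ) * ∑ a : Fˣ, ∑ b : Fˣ, α (a : F) * β (b : F) *
          ∑ c : F, (starRingEnd ℂ) (χ (belG a b c))) :=
      sum_RG_mul α β (fun g => (starRingEnd ℂ) (χ g)) hψ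
    rw [h2] at h5
    have h6 := h5.symm
    rcases mul_eq_zero.mp h6 with h7 | h7
    · exact absurd h7 (inv_ne_zero (card_subgroup_ne_zero _))
    · rcases mul_eq_zero.mp h7 with h8 | h8
      · exact absurd h8 hG0
      · exact h8
  have hF := fourier_units2 (fun a b : Fˣ => ∑ c : F, (starRingEnd ℂ) (χ (belG a b c))) key
  intro a b
  have h9 : (∑ c : F, (starRingEnd ℂ) (χ (belG a b c))) = 0 := hF a b
  rw [← map_sum] at h9
  have h10 := congrArg (starRingEnd ℂ) h9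
  rw [Complex.conj_conj, map_zero] at h10
  exact h10

theorem classInner_pi [Fintype F] [DecidableEq F] :
    Cfsg.classInner (RG (1 : MulChar F ℂ) 1) (RG (1 : MulChar F ℂ) 1) = 2 := by
  have hG0 : (Fintype.card (Matrix.GeneralLinearGroup (Fin 2) F) : ℂ) ≠ 0 := Nat.cast_ne_zero.mpr Fintype.card_ne_zero
  have hq0 : (Fintype.card F : ℂ) ≠ 0 := Nat.cast_ne_zero.mpr Fintype.card_ne_zero
  have hq1 : (Fintype.card F : ℂ) - 1 ≠ 0 := card_sub_one_ne_zero
  have hψ : ∀ x g : (Matrix.GeneralLinearGroup (Fin 2) F), (fun g => (starRingEnd ℂ) (RG (1 : MulChar F ℂ) 1 g)) (x * g * x⁻¹) =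
      (fun g => (starRingEnd ℂ) (RG (1 : MulChar F ℂ) 1 g)) g := by
    intro x g
    show (starRingEnd ℂ) (Cfsg.indFun (Cfsg.upperTriangularGL 2 F) (th 1 1) (x * g * x⁻¹)) =
      (starRingEnd ℂ) (Cfsg.indFun (Cfsg.upperTriangularGL 2 F) (th 1 1) g)
    rw [indFun_conj]
  have h1 : (∑ g : (Matrix.GeneralLinearGroup (Fin 2) F), RG (1 : MulChar F ℂ) 1 g * (starRingEnd ℂ) (RG (1 : MulChar F ℂ) 1 g)) =
      (Nat.card ↥(Cfsg.upperTriangularGL 2 F) : ℂ)⁻¹ * ((Fintype.card (Matrix.GeneralLinearGroup (Fin 2) F) : ℂ) * ∑ a : Fˣ, ∑ b : Fˣ,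
        (1 : MulChar F ℂ) (a : F) * (1 : MulChar F ℂ) (b : F) *
          ∑ c : F, (starRingEnd ℂ) (RG (1 : MulChar F ℂ) 1 (belG a b c))) :=
    sum_RG_mul (1 : MulChar F ℂ) 1 (fun g => (starRingEnd ℂ) (RG (1 : MulChar F ℂ) 1 g)) hψ
  have h3 : ∀ a b : Fˣ, (1 : MulChar F ℂ) (a : F) * (1 : MulChar F ℂ) (b : F) *
      (∑ c : F, (starRingEnd ℂ) (RG (1 : MulChar F ℂ) 1 (belG a b c))) =
      2 * (Fintype.card F : ℂ) := by
    intro a b
    rw [← map_sum]
    have h5 : (∑ c : F, RG (1 : MulChar F ℂ) 1 (belG a b c)) = (Fintype.card F : ℂ) *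
        ((1 : MulChar F ℂ) (a : F) * (1 : MulChar F ℂ) (b : F) +
          (1 : MulChar F ℂ) (b : F) * (1 : MulChar F ℂ) (a : F)) :=
      S2304.indFunG_bel_sum (1 : MulChar F ℂ) 1 a b
    rw [h5, MulChar.one_apply_coe, MulChar.one_apply_coe]
    simp only [one_mul, mul_one, map_mul, map_add, map_one, map_natCast]
    ring
  show (Nat.card (Matrix.GeneralLinearGroup (Fin 2) F) : ℂ)⁻¹ * ∑ g : (Matrix.GeneralLinearGroup (Fin 2) F), RG (1 : MulChar F ℂ) 1 g *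
    (starRingEnd ℂ) (RG (1 : MulChar F ℂ) 1 g) = 2
  rw [h1, Finset.sum_congr rfl (fun a _ => Finset.sum_congr rfl (fun b _ => h3 a b))]
  simp only [Finset.sum_const, Finset.card_univ, nsmul_eq_mul, Fintype.card_units]
  rw [S2308.card_B, Nat.card_eq_fintype_card, Nat.cast_sub Fintype.card_pos, Nat.cast_one]
  field_simp

theorem classInner_pi_one [Fintype F] [DecidableEq F] :
    Cfsg.classInner (RG (1 : MulChar F ℂ) 1) (fun _ : (Matrix.GeneralLinearGroup (Fin 2) F) => (1 : ℂ)) = 1 := by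
  have hG0 : (Fintype.card (Matrix.GeneralLinearGroup (Fin 2) F) : ℂ) ≠ 0 := Nat.cast_ne_zero.mpr Fintype.card_ne_zero
  have hq0 : (Fintype.card F : ℂ) ≠ 0 := Nat.cast_ne_zero.mpr Fintype.card_ne_zero
  have hq1 : (Fintype.card F : ℂ) - 1 ≠ 0 := card_sub_one_ne_zero
  have h2 : (∑ g : (Matrix.GeneralLinearGroup (Fin 2) F), RG (1 : MulChar F ℂ) 1 g * (starRingEnd ℂ) (1 : ℂ)) =
      (Nat.card ↥(Cfsg.upperTriangularGL 2 F) : ℂ)⁻¹ * ((Fintype.card (Matrix.GeneralLinearGroup (Fin 2) F) : ℂ) * ∑ a : Fˣ, ∑ b : Fˣ,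
        (1 : MulChar F ℂ) (a : F) * (1 : MulChar F ℂ) (b : F) * ∑ _c : F, (1 : ℂ)) := by
    have e : ∀ g : (Matrix.GeneralLinearGroup (Fin 2) F), RG (1 : MulChar F ℂ) 1 g * (starRingEnd ℂ) (1 : ℂ) =
        RG (1 : MulChar F ℂ) 1 g * 1 := fun g => by rw [map_one]
    rw [Finset.sum_congr rfl (fun g _ => e g)]
    exact sum_RG_mul (1 : MulChar F ℂ) 1 (fun _ : (Matrix.GeneralLinearGroup (Fin 2) F) => (1 : ℂ)) (fun _ _ => rfl)
  show (Nat.card (Matrix.GeneralLinearGroup (Fin 2) F) : ℂ)⁻¹ * ∑ g : (Matrix.GeneralLinearGroup (Fin 2) F), RG (1 : MulChar F ℂ) 1 g * (starRingEnd ℂ) (1 : ℂ) = 1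
  rw [h2]
  simp only [MulChar.one_apply_coe, Finset.sum_const, Finset.card_univ, nsmul_eq_mul,
    Fintype.card_units, mul_one, one_mul]
  rw [S2308.card_B, Nat.card_eq_fintype_card, Nat.cast_sub Fintype.card_pos, Nat.cast_one]
  field_simp

theorem exists_St [Fintype F] [DecidableEq F] :
    ∃ St : Cfsg.IrrCharacter (Matrix.GeneralLinearGroup (Fin 2) F),
      RG (1 : MulChar F ℂ) 1 = (fun _ => (1 : ℂ)) + (St : (Matrix.GeneralLinearGroup (Fin 2) F) → ℂ) := by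
  have hchar : Cfsg.IsCharacter (Matrix.GeneralLinearGroup (Fin 2) F) (RG (1 : MulChar F ℂ) 1) :=
    Helper24.isCharacter_induced _ _ (S2304.th_isCharacter 1 1)
  obtain ⟨χ₁, χ₂, hne, hdec⟩ := S2307.exists_two_irr_of_norm_two hchar classInner_pi
  obtain ⟨triv, htriv⟩ : ∃ t : Cfsg.IrrCharacter (Matrix.GeneralLinearGroup (Fin 2) F), (t : (Matrix.GeneralLinearGroup (Fin 2) F) → ℂ) = fun _ => (1 : ℂ) :=
    ⟨⟨_, Helper24.isIrrCharacter_one⟩, rfl⟩
  have h1 : Cfsg.classInner ((χ₁ : (Matrix.GeneralLinearGroup (Fin 2) F) → ℂ) + (χ₂ : (Matrix.GeneralLinearGroup (Fin 2) F) → ℂ)) (triv : (Matrix.GeneralLinearGroup (Fin 2) F) → ℂ) = 1 := by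
    rw [← hdec, htriv]
    exact classInner_pi_one
  rw [Helper24.classInner_add_left, Helper24.irr_orthonormal, Helper24.irr_orthonormal] at h1
  by_cases e1 : χ₁ = triv
  · refine ⟨χ₂, ?_⟩
    rw [hdec, e1, htriv]
  · by_cases e2 : χ₂ = triv
    · refine ⟨χ₁, ?_⟩
      rw [hdec, e2, htriv, add_comm]
    · rw [if_neg e1, if_neg e2] at h1
      norm_num at h1

theorem RG_self_constituent [Fintype F] [DecidableEq F] (St : Cfsg.IrrCharacter (Matrix.GeneralLinearGroup (Fin 2) F))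
    (hSt : RG (1 : MulChar F ℂ) 1 = (fun _ => (1 : ℂ)) + (St : (Matrix.GeneralLinearGroup (Fin 2) F) → ℂ))
    (α : MulChar F ℂ) (χ : Cfsg.IrrCharacter (Matrix.GeneralLinearGroup (Fin 2) F))
    (h : Cfsg.classInner (RG α α) (χ : (Matrix.GeneralLinearGroup (Fin 2) F) → ℂ) ≠ 0) :
    (χ : (Matrix.GeneralLinearGroup (Fin 2) F) → ℂ) = detChar α ∨ (χ : (Matrix.GeneralLinearGroup (Fin 2) F) → ℂ) = detChar α * (St : (Matrix.GeneralLinearGroup (Fin 2) F) → ℂ) := by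
  have hψirr : Cfsg.IsIrrCharacter (Matrix.GeneralLinearGroup (Fin 2) F) (detChar α⁻¹ * (χ : (Matrix.GeneralLinearGroup (Fin 2) F) → ℂ)) :=
    linear_mul_irr12 _ _ (detChar_irr α⁻¹) (detChar_one α⁻¹) χ.2
  obtain ⟨ψ, hψ⟩ : ∃ ψ : Cfsg.IrrCharacter (Matrix.GeneralLinearGroup (Fin 2) F),
      (ψ : (Matrix.GeneralLinearGroup (Fin 2) F) → ℂ) = detChar α⁻¹ * (χ : (Matrix.GeneralLinearGroup (Fin 2) F) → ℂ) := ⟨⟨_, hψirr⟩, rfl⟩
  have hχ : (χ : (Matrix.GeneralLinearGroup (Fin 2) F) → ℂ) = detChar α * (ψ : (Matrix.GeneralLinearGroup (Fin 2) F) → ℂ) := by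
    funext g
    rw [hψ]
    show (χ : (Matrix.GeneralLinearGroup (Fin 2) F) → ℂ) g = detChar α g * (detChar α⁻¹ g * (χ : (Matrix.GeneralLinearGroup (Fin 2) F) → ℂ) g)
    rw [← mul_assoc, detChar_mul_inv, one_mul]
  have hinner : Cfsg.classInner (RG α α) (χ : (Matrix.GeneralLinearGroup (Fin 2) F) → ℂ) =
      Cfsg.classInner (RG (1 : MulChar F ℂ) 1) (ψ : (Matrix.GeneralLinearGroup (Fin 2) F) → ℂ) := by
    show (Nat.card (Matrix.GeneralLinearGroup (Fin 2) F) : ℂ)⁻¹ * ∑ g : (Matrix.GeneralLinearGroup (Fin 2) F), RG α α g * (starRingEnd ℂ) ((χ : (Matrix.GeneralLinearGroup (Fin 2) F) → ℂ) g) =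
      (Nat.card (Matrix.GeneralLinearGroup (Fin 2) F) : ℂ)⁻¹ * ∑ g : (Matrix.GeneralLinearGroup (Fin 2) F), RG (1 : MulChar F ℂ) 1 g *
        (starRingEnd ℂ) ((ψ : (Matrix.GeneralLinearGroup (Fin 2) F) → ℂ) g)
    congr 1
    refine Finset.sum_congr rfl (fun g _ => ?_)
    rw [RG_self, hψ]
    show detChar α g * RG 1 1 g * (starRingEnd ℂ) ((χ : (Matrix.GeneralLinearGroup (Fin 2) F) → ℂ) g) =
      RG 1 1 g * (starRingEnd ℂ) (detChar α⁻¹ g * (χ : (Matrix.GeneralLinearGroup (Fin 2) F) → ℂ) g)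
    rw [map_mul, detChar_conj, inv_inv]
    ring
  obtain ⟨triv, htriv⟩ : ∃ t : Cfsg.IrrCharacter (Matrix.GeneralLinearGroup (Fin 2) F), (t : (Matrix.GeneralLinearGroup (Fin 2) F) → ℂ) = fun _ => (1 : ℂ) :=
    ⟨⟨_, Helper24.isIrrCharacter_one⟩, rfl⟩
  have h' : Cfsg.classInner ((triv : (Matrix.GeneralLinearGroup (Fin 2) F) → ℂ) + (St : (Matrix.GeneralLinearGroup (Fin 2) F) → ℂ)) (ψ : (Matrix.GeneralLinearGroup (Fin 2) F) → ℂ) ≠ 0 := by
    rw [htriv, ← hSt, ← hinner]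
    exact h
  rw [Helper24.classInner_add_left, Helper24.irr_orthonormal, Helper24.irr_orthonormal] at h'
  by_cases e1 : triv = ψ
  · left
    rw [hχ, ← e1, htriv]
    funext g
    show detChar α g * 1 = detChar α g
    rw [mul_one]
  · by_cases e2 : St = ψ
    · right
      rw [hχ, e2]
    · rw [if_neg e1, if_neg e2, add_zero] at h'
      exact absurd rfl h'

theorem RG_ne_constituent [Fintype F] [DecidableEq F] (α β : MulChar F ℂ) (hαβ : α ≠ β)
    (χ : Cfsg.IrrCharacter (Matrix.GeneralLinearGroup (Fin 2) F)) (h : Cfsg.classInner (RG α β) (χ : (Matrix.GeneralLinearGroup (Fin 2) F) → ℂ) ≠ 0) :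
    (χ : (Matrix.GeneralLinearGroup (Fin 2) F) → ℂ) = RG α β := by
  have hirr : Cfsg.IsIrrCharacter (Matrix.GeneralLinearGroup (Fin 2) F) (RG α β) := Helper24.isIrrCharacter_of_inner_self
      (Helper24.isCharacter_induced _ _ (S2304.th_isCharacter α β)) (S2304.classInner_RG α β hαβ)
  have h2 := irr_eq_of_inner_ne_zero ⟨RG α β, hirr⟩ χ h
  exact (congrArg Subtype.val h2).symm

theorem gl2_dichotomy [Fintype F] [DecidableEq F] (St : Cfsg.IrrCharacter (Matrix.GeneralLinearGroup (Fin 2) F))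
    (hSt : RG (1 : MulChar F ℂ) 1 = (fun _ => (1 : ℂ)) + (St : (Matrix.GeneralLinearGroup (Fin 2) F) → ℂ))
    (χ : Cfsg.IrrCharacter (Matrix.GeneralLinearGroup (Fin 2) F)) :
    IsCusp (χ : (Matrix.GeneralLinearGroup (Fin 2) F) → ℂ) ∨ (∃ α β : MulChar F ℂ, α ≠ β ∧ (χ : (Matrix.GeneralLinearGroup (Fin 2) F) → ℂ) = RG α β) ∨
      (∃ α : MulChar F ℂ, (χ : (Matrix.GeneralLinearGroup (Fin 2) F) → ℂ) = detChar α) ∨
      (∃ α : MulChar F ℂ, (χ : (Matrix.GeneralLinearGroup (Fin 2) F) → ℂ) = detChar α * (St : (Matrix.GeneralLinearGroup (Fin 2) F) → ℂ)) := by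
  by_cases hall : ∀ α β : MulChar F ℂ, Cfsg.classInner (RG α β) (χ : (Matrix.GeneralLinearGroup (Fin 2) F) → ℂ) = 0
  · left
    exact cusp_of_inner_zero _ (fun x g => Helper24.irr_conj χ g x) hall
  · right
    have hex : ∃ α β : MulChar F ℂ, Cfsg.classInner (RG α β) (χ : (Matrix.GeneralLinearGroup (Fin 2) F) → ℂ) ≠ 0 := by
      by_contra hcon
      apply hall
      intro α β
      by_contra hne
      exact hcon ⟨α, β, hne⟩
    obtain ⟨α, β, hne⟩ := hex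
    by_cases hαβ : α = β
    · subst hαβ
      rcases RG_self_constituent St hSt α χ hne with h1 | h1
      · exact Or.inr (Or.inl ⟨α, h1⟩)
      · exact Or.inr (Or.inr ⟨α, h1⟩)
    · exact Or.inl ⟨α, β, hαβ, RG_ne_constituent α β hαβ χ hne⟩

theorem St_val [Fintype F] [DecidableEq F] (St : Cfsg.IrrCharacter (Matrix.GeneralLinearGroup (Fin 2) F))
    (hSt : RG (1 : MulChar F ℂ) 1 = (fun _ => (1 : ℂ)) + (St : (Matrix.GeneralLinearGroup (Fin 2) F) → ℂ)) (g : (Matrix.GeneralLinearGroup (Fin 2) F)) :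
    (St : (Matrix.GeneralLinearGroup (Fin 2) F) → ℂ) g = Cfsg.indFun (Cfsg.upperTriangularGL 2 F) (fun _ => (1 : ℂ)) g - 1 := by
  have h := congrFun hSt g
  rw [RG_one_one] at h
  have h' : Cfsg.indFun (Cfsg.upperTriangularGL 2 F) (fun _ => (1 : ℂ)) g = 1 + (St : (Matrix.GeneralLinearGroup (Fin 2) F) → ℂ) g := h
  rw [h']
  ring

theorem belG_one : belG (1 : Fˣ) 1 0 = (1 : (Matrix.GeneralLinearGroup (Fin 2) F)) := by
  apply Units.ext
  show !![(1 : F), 0; 0, 1] = (1 : (Matrix (Fin 2) (Fin 2) F))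
  exact Matrix.one_fin_two.symm

theorem belG_conj_one (a : Fˣ) (c : F) (hc : c ≠ 0) :
    ∃ d : (Matrix.GeneralLinearGroup (Fin 2) F), belG a a c = d * belG a a 1 * d⁻¹ := by
  refine ⟨belG (Units.mk0 c hc) 1 0, ?_⟩
  apply eq_mul_inv_of_mul_eq
  apply Units.ext
  rw [Units.val_mul, Units.val_mul]
  show !![(a : F), c; 0, (a : F)] * !![c, 0; 0, 1] = !![c, 0; 0, 1] * !![(a : F), 1; 0, (a : F)]
  rw [Matrix.mul_fin_two, Matrix.mul_fin_two]
  apply S5016.mat2_ext <;> ring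

theorem RG_one [Fintype F] [DecidableEq F] (α β : MulChar F ℂ) :
    RG α β 1 = (Fintype.card F : ℂ) + 1 := by
  have h := S2304.indFun_th_scalar α β (1 : Fˣ)
  rw [belG_one, Units.val_one, map_one, map_one, mul_one, mul_one] at h
  exact h

theorem RG_unip [Fintype F] [DecidableEq F] (α β : MulChar F ℂ) :
    RG α β (belG 1 1 1) = 1 := by
  have h := S2304.indFun_th_unip α β (belG (1 : Fˣ) 1 1) rfl rfl one_ne_zero
  have h' : Cfsg.indFun (Cfsg.upperTriangularGL 2 F) (th α β) (belG (1 : Fˣ) 1 1) = α (1 : F) * β (1 : F) := h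
  rw [map_one, map_one, mul_one] at h'
  exact h'

theorem detChar_unip (α : MulChar F ℂ) : detChar α (belG (1 : Fˣ) 1 1) = 1 := by
  show α (Matrix.det !![(1 : F), 1; 0, 1]) = 1
  rw [Matrix.det_fin_two_of, mul_one, mul_zero, sub_zero, map_one]

theorem cusp_split [Fintype F] [DecidableEq F] (χ : Cfsg.IrrCharacter (Matrix.GeneralLinearGroup (Fin 2) F))
    (hc : IsCusp (χ : (Matrix.GeneralLinearGroup (Fin 2) F) → ℂ)) (a b : Fˣ) (hab : (a : F) ≠ (b : F)) (c : F) :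
    (χ : (Matrix.GeneralLinearGroup (Fin 2) F) → ℂ) (belG a b c) = 0 := by
  have h1 : ∀ c' : F, (χ : (Matrix.GeneralLinearGroup (Fin 2) F) → ℂ) (belG a b c') =
      (χ : (Matrix.GeneralLinearGroup (Fin 2) F) → ℂ) (S2305.dg (a : F) (b : F) a.ne_zero b.ne_zero) := by
    intro c'
    obtain ⟨u, hu⟩ := S2305.conj_dg (belG a b c') rfl (a := (a : F)) (b := (b : F)) rfl rfl
      a.ne_zero b.ne_zero hab
    rw [hu]
    exact Helper24.irr_conj χ _ u
  have h2 := hc a b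
  rw [Finset.sum_congr rfl (fun c' _ => h1 c'), Finset.sum_const, Finset.card_univ,
    nsmul_eq_mul] at h2
  rw [h1 c]
  rcases mul_eq_zero.mp h2 with h3 | h3
  · exact absurd h3 (Nat.cast_ne_zero.mpr Fintype.card_ne_zero)
  · exact h3

theorem cusp_unip [Fintype F] [DecidableEq F] (χ : Cfsg.IrrCharacter (Matrix.GeneralLinearGroup (Fin 2) F))
    (hc : IsCusp (χ : (Matrix.GeneralLinearGroup (Fin 2) F) → ℂ)) (a : Fˣ) :
    (χ : (Matrix.GeneralLinearGroup (Fin 2) F) → ℂ) (belG a a 0) + ((Fintype.card F : ℂ) - 1) * (χ : (Matrix.GeneralLinearGroup (Fin 2) F) → ℂ) (belG a a 1) = 0 := by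
  have h1 : ∀ c ∈ (Finset.univ : Finset F).erase 0,
      (χ : (Matrix.GeneralLinearGroup (Fin 2) F) → ℂ) (belG a a c) = (χ : (Matrix.GeneralLinearGroup (Fin 2) F) → ℂ) (belG a a 1) := by
    intro c hc'
    obtain ⟨d, hd⟩ := belG_conj_one a c (Finset.ne_of_mem_erase hc')
    rw [hd]
    exact Helper24.irr_conj χ _ d
  have h2 := hc a a
  rw [← Finset.add_sum_erase Finset.univ _ (Finset.mem_univ (0 : F)), Finset.sum_congr rfl h1,
    Finset.sum_const, Finset.card_erase_of_mem (Finset.mem_univ _), Finset.card_univ, nsmul_eq_mul,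
    Nat.cast_sub Fintype.card_pos, Nat.cast_one] at h2
  exact h2

theorem cusp_main [Fintype F] [DecidableEq F] (χ : Cfsg.IrrCharacter (Matrix.GeneralLinearGroup (Fin 2) F))
    (hc : IsCusp (χ : (Matrix.GeneralLinearGroup (Fin 2) F) → ℂ)) (m n : ℕ) (hm : Fintype.card F = m + 1)
    (hn : (χ : (Matrix.GeneralLinearGroup (Fin 2) F) → ℂ) 1 = n) :
    (χ : (Matrix.GeneralLinearGroup (Fin 2) F) → ℂ) (belG 1 1 1) = -((n : ℂ) / (m : ℂ)) ∧ m ∣ n ∧
      n ^ 2 * ((m + 1) * m ^ 2 + 1) ≤ (m + 1) * m ^ 4 * (m + 2) := by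
  have hm1 : 1 ≤ m := by
    have := Fintype.one_lt_card (α := F)
    omega
  have hm0 : m ≠ 0 := by omega
  have hmC : (m : ℂ) ≠ 0 := Nat.cast_ne_zero.mpr hm0
  have hQ : (Fintype.card F : ℂ) - 1 = (m : ℂ) := by
    rw [hm]
    push_cast
    ring
  have hcen : ∀ (a : Fˣ) (x : (Matrix.GeneralLinearGroup (Fin 2) F)), x * belG a a 0 = belG a a 0 * x :=
    fun a x => S2305.dg_central (a : F) a.ne_zero x
  have hu : (χ : (Matrix.GeneralLinearGroup (Fin 2) F) → ℂ) (belG 1 1 1) = -((n : ℂ) / (m : ℂ)) := by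
    have h := cusp_unip χ hc 1
    rw [belG_one, hn, hQ] at h
    have e : ((n : ℂ) + (m : ℂ) * (χ : (Matrix.GeneralLinearGroup (Fin 2) F) → ℂ) (belG 1 1 1)) / (m : ℂ) = 0 := by
      rw [h, zero_div]
    rw [add_div, mul_div_cancel_left₀ _ hmC] at e
    linear_combination e
  have hdvd : m ∣ n := by
    apply Helper24.dvd_of_isIntegral_div hm0
    have h1 : IsIntegral ℤ ((χ : (Matrix.GeneralLinearGroup (Fin 2) F) → ℂ) (belG 1 1 1)) := Helper24.irr_isIntegral χ _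
    rw [hu] at h1
    have h2 := h1.neg
    rw [neg_neg] at h2
    exact h2
  refine ⟨hu, hdvd, ?_⟩
  classical
  have hnsq1 : ∀ a : Fˣ, Complex.normSq ((χ : (Matrix.GeneralLinearGroup (Fin 2) F) → ℂ) (belG a a 0)) = (n : ℝ) ^ 2 := by
    intro a
    have h := irr_central_normSq χ (belG a a 0) (hcen a)
    rw [Complex.mul_conj, hn] at h
    exact_mod_cast h
  have hnsq2 : ∀ a : Fˣ, (m : ℝ) ^ 2 * Complex.normSq ((χ : (Matrix.GeneralLinearGroup (Fin 2) F) → ℂ) (belG a a 1)) =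
      (n : ℝ) ^ 2 := by
    intro a
    have h := cusp_unip χ hc a
    rw [hQ] at h
    have h1 : (χ : (Matrix.GeneralLinearGroup (Fin 2) F) → ℂ) (belG a a 0) = -((m : ℂ) * (χ : (Matrix.GeneralLinearGroup (Fin 2) F) → ℂ) (belG a a 1)) := by
      linear_combination h
    have h2 := hnsq1 a
    rw [h1, Complex.normSq_neg, Complex.normSq_mul, Complex.normSq_natCast] at h2
    linear_combination h2
  have hsum : (∑ g : (Matrix.GeneralLinearGroup (Fin 2) F), Complex.normSq ((χ : (Matrix.GeneralLinearGroup (Fin 2) F) → ℂ) g)) = (Fintype.card (Matrix.GeneralLinearGroup (Fin 2) F) : ℝ) := by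
    have h' : (Nat.card (Matrix.GeneralLinearGroup (Fin 2) F) : ℂ)⁻¹ * ∑ g : (Matrix.GeneralLinearGroup (Fin 2) F), (χ : (Matrix.GeneralLinearGroup (Fin 2) F) → ℂ) g *
        (starRingEnd ℂ) ((χ : (Matrix.GeneralLinearGroup (Fin 2) F) → ℂ) g) = 1 := Helper24.irr_inner_self χ
    have hG0 : (Nat.card (Matrix.GeneralLinearGroup (Fin 2) F) : ℂ) ≠ 0 := Nat.cast_ne_zero.mpr Nat.card_pos.ne'
    rw [inv_mul_eq_iff_eq_mul₀ hG0, mul_one, Nat.card_eq_fintype_card] at h'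
    have h3 : (∑ g : (Matrix.GeneralLinearGroup (Fin 2) F), ((Complex.normSq ((χ : (Matrix.GeneralLinearGroup (Fin 2) F) → ℂ) g) : ℝ) : ℂ)) =
        (Fintype.card (Matrix.GeneralLinearGroup (Fin 2) F) : ℂ) := by
      rw [← h']
      exact Finset.sum_congr rfl (fun g _ => (Complex.mul_conj _).symm)
    exact_mod_cast h3
  obtain ⟨l, hl⟩ : ∃ l : (Matrix.GeneralLinearGroup (Fin 2) F), (l : (Matrix (Fin 2) (Fin 2) F)) = !![1, 0; 1, 1] :=
    ⟨Matrix.GeneralLinearGroup.mkOfDetNeZero !![1, 0; 1, 1]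
      (by rw [Matrix.det_fin_two_of]; simp), rfl⟩
  have hlconj : l = S2305.wG * belG 1 1 1 * S2305.wG⁻¹ := by
    apply eq_mul_inv_of_mul_eq
    apply Units.ext
    rw [Units.val_mul, Units.val_mul, hl]
    show !![(1 : F), 0; 1, 1] * !![0, 1; 1, 0] = !![0, 1; 1, 0] * !![1, 1; 0, 1]
    rw [Matrix.mul_fin_two, Matrix.mul_fin_two]
    apply S5016.mat2_ext <;> ring
  have hχl : (χ : (Matrix.GeneralLinearGroup (Fin 2) F) → ℂ) l = (χ : (Matrix.GeneralLinearGroup (Fin 2) F) → ℂ) (belG 1 1 1) := by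
    rw [hlconj]
    exact Helper24.irr_conj χ _ _
  have hfl : (m : ℝ) ^ 2 * Complex.normSq ((χ : (Matrix.GeneralLinearGroup (Fin 2) F) → ℂ) l) = (n : ℝ) ^ 2 := by
    rw [hχl]
    exact hnsq2 1
  have hinj : Function.Injective (fun t : Fˣ × F => belG t.1 t.1 t.2) := by
    rintro ⟨a, c⟩ ⟨a', c'⟩ h
    have h' : (fun t : Fˣ × Fˣ × F => belG t.1 t.2.1 t.2.2) (a, a, c) =
        (fun t : Fˣ × Fˣ × F => belG t.1 t.2.1 t.2.2) (a', a', c') := h
    have h2 := S2308.belG_injective h'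
    rw [Prod.mk.injEq, Prod.mk.injEq] at h2
    rw [Prod.mk.injEq]
    exact ⟨h2.1, h2.2.2⟩
  obtain ⟨S, hS⟩ : ∃ S : Finset (Matrix.GeneralLinearGroup (Fin 2) F),
      S = (Finset.univ : Finset (Fˣ × F)).image (fun t : Fˣ × F => belG t.1 t.1 t.2) := ⟨_, rfl⟩
  have hlS : l ∉ S := by
    rw [hS]
    intro hmem
    obtain ⟨t, -, ht⟩ := Finset.mem_image.mp hmem
    have h1 : (l : (Matrix (Fin 2) (Fin 2) F)) 1 0 = 0 := by
      rw [← ht]
      rfl
    rw [hl] at h1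
    exact one_ne_zero h1
  have himg : (∑ g ∈ S, Complex.normSq ((χ : (Matrix.GeneralLinearGroup (Fin 2) F) → ℂ) g)) =
      ∑ t : Fˣ × F, Complex.normSq ((χ : (Matrix.GeneralLinearGroup (Fin 2) F) → ℂ) (belG t.1 t.1 t.2)) := by
    rw [hS]
    exact Finset.sum_image (fun x _ y _ hxy => hinj hxy)
  have hins : (∑ g ∈ insert l S, Complex.normSq ((χ : (Matrix.GeneralLinearGroup (Fin 2) F) → ℂ) g)) =
      Complex.normSq ((χ : (Matrix.GeneralLinearGroup (Fin 2) F) → ℂ) l) + ∑ g ∈ S, Complex.normSq ((χ : (Matrix.GeneralLinearGroup (Fin 2) F) → ℂ) g) :=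
    Finset.sum_insert hlS
  have hle : (∑ g ∈ insert l S, Complex.normSq ((χ : (Matrix.GeneralLinearGroup (Fin 2) F) → ℂ) g)) ≤
      ∑ g : (Matrix.GeneralLinearGroup (Fin 2) F), Complex.normSq ((χ : (Matrix.GeneralLinearGroup (Fin 2) F) → ℂ) g) :=
    Finset.sum_le_sum_of_subset_of_nonneg (Finset.subset_univ _)
      (fun g _ _ => Complex.normSq_nonneg _)
  rw [hins, himg, hsum] at hle
  have hpart : (m : ℝ) ^ 2 * (∑ t : Fˣ × F, Complex.normSq ((χ : (Matrix.GeneralLinearGroup (Fin 2) F) → ℂ) (belG t.1 t.1 t.2))) =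
      (m : ℝ) * ((m : ℝ) ^ 2 * (n : ℝ) ^ 2 + (m : ℝ) * (n : ℝ) ^ 2) := by
    have h1 : ∀ a : Fˣ, (m : ℝ) ^ 2 * (∑ c : F, Complex.normSq ((χ : (Matrix.GeneralLinearGroup (Fin 2) F) → ℂ) (belG a a c))) =
        (m : ℝ) ^ 2 * (n : ℝ) ^ 2 + (m : ℝ) * (n : ℝ) ^ 2 := by
      intro a
      have h2 : ∀ c ∈ (Finset.univ : Finset F).erase 0,
          Complex.normSq ((χ : (Matrix.GeneralLinearGroup (Fin 2) F) → ℂ) (belG a a c)) =
          Complex.normSq ((χ : (Matrix.GeneralLinearGroup (Fin 2) F) → ℂ) (belG a a 1)) := by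
        intro c hc'
        obtain ⟨d, hd⟩ := belG_conj_one a c (Finset.ne_of_mem_erase hc')
        rw [hd, Helper24.irr_conj χ _ d]
      rw [← Finset.add_sum_erase Finset.univ _ (Finset.mem_univ (0 : F)), Finset.sum_congr rfl h2,
        Finset.sum_const, Finset.card_erase_of_mem (Finset.mem_univ _), Finset.card_univ,
        nsmul_eq_mul, hm, Nat.add_sub_cancel, hnsq1 a]
      linear_combination (m : ℝ) * hnsq2 a
    rw [Fintype.sum_prod_type, Finset.mul_sum]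
    rw [Finset.sum_congr rfl (fun a _ => h1 a), Finset.sum_const, Finset.card_univ, nsmul_eq_mul,
      Fintype.card_units, hm, Nat.add_sub_cancel]
  have hcardN : Fintype.card (Matrix.GeneralLinearGroup (Fin 2) F) = m ^ 2 * (m + 1) * (m + 2) := by
    have h := S2308.card_GL_complex (F := F)
    rw [hm] at h
    have h2 : (Fintype.card (Matrix.GeneralLinearGroup (Fin 2) F) : ℂ) = ((m ^ 2 * (m + 1) * (m + 2) : ℕ) : ℂ) := by
      rw [h]
      push_cast
      ring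
    exact_mod_cast h2
  have hcardR : (Fintype.card (Matrix.GeneralLinearGroup (Fin 2) F) : ℝ) = (m : ℝ) ^ 2 * ((m : ℝ) + 1) * ((m : ℝ) + 2) := by
    rw [hcardN]
    push_cast
    ring
  have hfin : (n : ℝ) ^ 2 * (((m : ℝ) + 1) * (m : ℝ) ^ 2 + 1) ≤
      ((m : ℝ) + 1) * (m : ℝ) ^ 4 * ((m : ℝ) + 2) := by
    have h1 := mul_le_mul_of_nonneg_left hle (sq_nonneg (m : ℝ))
    rw [mul_add, hfl, hpart, hcardR] at h1
    nlinarith [h1]
  exact_mod_cast hfin

/-- Classification of the irreducible characters of `GL₂(F)` by type, with the values needed. -/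
theorem gl2_classify [Fintype F] [DecidableEq F] (χ : (Matrix.GeneralLinearGroup (Fin 2) F) → ℂ)
    (hχ : Cfsg.IsIrrCharacter (Matrix.GeneralLinearGroup (Fin 2) F) χ) (m : ℕ) (hm : Fintype.card F = m + 1) :
    (∃ n : ℕ, χ 1 = n ∧ m ∣ n ∧ n ^ 2 * ((m + 1) * m ^ 2 + 1) ≤ (m + 1) * m ^ 4 * (m + 2) ∧
        χ (belG 1 1 1) = -((n : ℂ) / (m : ℂ)) ∧
        (∀ g : (Matrix.GeneralLinearGroup (Fin 2) F), (g : (Matrix (Fin 2) (Fin 2) F)) 0 1 = 0 → (g : (Matrix (Fin 2) (Fin 2) F)) 1 0 = 0 →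
          (g : (Matrix (Fin 2) (Fin 2) F)) 0 0 ≠ (g : (Matrix (Fin 2) (Fin 2) F)) 1 1 → χ g = 0)) ∨
    (χ 1 = (m : ℂ) + 2 ∧ χ (belG 1 1 1) = 1 ∧
        (∀ g : (Matrix.GeneralLinearGroup (Fin 2) F), (∀ (c : F) (v : Fin 2 → F), v ≠ 0 → (g : (Matrix (Fin 2) (Fin 2) F)).mulVec v ≠ c • v) →
          χ g = 0)) ∨
    (χ 1 = 1 ∧ χ (belG 1 1 1) = 1 ∧ (∀ g : (Matrix.GeneralLinearGroup (Fin 2) F), ‖χ g‖ = 1)) ∨
    (χ 1 = (m : ℂ) + 1 ∧ χ (belG 1 1 1) = 0 ∧
        (∀ g : (Matrix.GeneralLinearGroup (Fin 2) F), (g : (Matrix (Fin 2) (Fin 2) F)) 0 1 = 0 → (g : (Matrix (Fin 2) (Fin 2) F)) 1 0 = 0 →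
          (g : (Matrix (Fin 2) (Fin 2) F)) 0 0 ≠ (g : (Matrix (Fin 2) (Fin 2) F)) 1 1 → ‖χ g‖ = 1) ∧
        (∀ g : (Matrix.GeneralLinearGroup (Fin 2) F), (∀ (c : F) (v : Fin 2 → F), v ≠ 0 → (g : (Matrix (Fin 2) (Fin 2) F)).mulVec v ≠ c • v) →
          ‖χ g‖ = 1)) := by
  obtain ⟨St, hSt⟩ := exists_St (F := F)
  obtain ⟨χ', hχ'⟩ : ∃ χ' : Cfsg.IrrCharacter (Matrix.GeneralLinearGroup (Fin 2) F), (χ' : (Matrix.GeneralLinearGroup (Fin 2) F) → ℂ) = χ := ⟨⟨χ, hχ⟩, rfl⟩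
  have hQ : (Fintype.card F : ℂ) = (m : ℂ) + 1 := by
    rw [hm]
    push_cast
    ring
  have hone : ((1 : (Matrix.GeneralLinearGroup (Fin 2) F)) : (Matrix (Fin 2) (Fin 2) F)) = (1 : F) • (1 : (Matrix (Fin 2) (Fin 2) F)) := (one_smul _ _).symm
  rcases gl2_dichotomy St hSt χ' with hc | ⟨α, β, hαβ, h⟩ | ⟨α, h⟩ | ⟨α, h⟩
  · left
    obtain ⟨n, hn⟩ := Helper24.irr_one_eq_natCast χ'
    obtain ⟨hu, hdvd, hineq⟩ := cusp_main χ' hc m n hm hn
    rw [hχ'] at hn hu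
    refine ⟨n, hn, hdvd, hineq, hu, ?_⟩
    intro g h01 h10 hne
    have hd := S2305.det_ne_zero' g
    rw [h01, zero_mul, sub_zero] at hd
    have h00 : (g : (Matrix (Fin 2) (Fin 2) F)) 0 0 ≠ 0 := left_ne_zero_of_mul hd
    have h11 : (g : (Matrix (Fin 2) (Fin 2) F)) 1 1 ≠ 0 := right_ne_zero_of_mul hd
    have hg : belG (Units.mk0 _ h00) (Units.mk0 _ h11) 0 = g :=
      Units.ext ((S5016.mat2_ext rfl h01.symm h10.symm rfl).trans
        (Matrix.eta_fin_two (g : (Matrix (Fin 2) (Fin 2) F))).symm)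
    have h := cusp_split χ' hc (Units.mk0 _ h00) (Units.mk0 _ h11) hne 0
    rw [hg, hχ'] at h
    exact h
  · right
    left
    rw [hχ'] at h
    rw [h]
    refine ⟨?_, RG_unip α β, fun g hg => S2307.indFun_th_elliptic α β g hg⟩
    rw [RG_one, hQ]
    ring
  · right
    right
    left
    rw [hχ'] at h
    rw [h]
    exact ⟨detChar_one α, detChar_unip α, fun g => detChar_norm α g⟩
  · right
    right
    right
    rw [hχ'] at h
    rw [h]
    refine ⟨?_, ?_, ?_, ?_⟩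
    · show detChar α 1 * (St : (Matrix.GeneralLinearGroup (Fin 2) F) → ℂ) 1 = (m : ℂ) + 1
      rw [detChar_one, St_val St hSt, S2308.indFun1_scalar 1 1 hone, hQ]
      ring
    · show detChar α (belG 1 1 1) * (St : (Matrix.GeneralLinearGroup (Fin 2) F) → ℂ) (belG 1 1 1) = 0
      rw [St_val St hSt, S2308.indFun1_unip (belG (1 : Fˣ) 1 1) rfl rfl one_ne_zero, sub_self,
        mul_zero]
    · intro g h01 h10 hne
      show ‖detChar α g * (St : (Matrix.GeneralLinearGroup (Fin 2) F) → ℂ) g‖ = 1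
      rw [St_val St hSt, S2308.indFun1_diag g h01 h10 hne, norm_mul, detChar_norm]
      norm_num
    · intro g hg
      show ‖detChar α g * (St : (Matrix.GeneralLinearGroup (Fin 2) F) → ℂ) g‖ = 1
      rw [St_val St hSt, S2308.indFun1_elliptic g hg, norm_mul, detChar_norm]
      norm_num

end gl2

end Cfsg.Agent.Helper12
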