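import Mathlib
import Cfsg.Agent.Helper14.PrimeOrdSp
import Cfsg.Agent.Helper14.PslAdj2

set_option autoImplicit false

namespace Cfsg.Agent.Helper12.PSpRS

open Polynomial

/-- Adjoint identity: if `C` preserves `f` and `C * D = 1` then `P(C)` is adjoint to `P(D)`. -/
theorem adj_aeval {F V : Type*} [Field F] [AddCommGroup V] [Module F V]
    (f : LinearMap.BilinForm F V) (C D : Module.End F V)
    (hC : ∀ u v, f (C u) (C v) = f u v) (hCD : C * D = 1) (P : F[X]) (x y : V) :
    f (aeval C P x) y = f x (aeval D P y) := by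
  have h1 : ∀ u v, f (C u) v = f u (D v) := by
    intro u v
    have h2 : C (D v) = v := by
      have h3 := congrArg (fun T : Module.End F V => T v) hCD
      simpa using h3
    calc f (C u) v = f (C u) (C (D v)) := by rw [h2]
      _ = f u (D v) := hC _ _
  have hpow : ∀ n : ℕ, ∀ u v, f ((C ^ n) u) v = f u ((D ^ n) v) := by
    intro n
    induction n with
    | zero => intro u v; simp
    | succ n ih =>
      intro u v
      rw [pow_succ, Module.End.mul_apply, ih, h1, pow_succ', Module.End.mul_apply]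
  induction P using Polynomial.induction_on' with
  | add p q hp hq => simp only [map_add, LinearMap.add_apply, hp, hq]
  | monomial n a =>
    simp only [aeval_monomial, Module.End.mul_apply, Module.algebraMap_end_apply, map_smul,
      LinearMap.smul_apply]
    rw [hpow]

/-- Some irreducible factor of `P` has a nonzero kernel when `P(B)` does. -/
theorem exists_irr_ker {F V : Type*} [Field F] [AddCommGroup V] [Module F V]
    (B : Module.End F V) (P : F[X]) (hP : P ≠ 0) (h : LinearMap.ker (aeval B P) ≠ ⊥) :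
    ∃ φ : F[X], Irreducible φ ∧ φ ∣ P ∧ LinearMap.ker (aeval B φ) ≠ ⊥ := by
  revert hP h
  refine UniqueFactorizationMonoid.induction_on_prime P ?_ ?_ ?_
  · intro h0; exact absurd rfl h0
  · intro x hx _ h
    exfalso
    apply h
    have hu : IsUnit (aeval B x) := hx.map (aeval B)
    rw [LinearMap.ker_eq_bot]
    exact ((Module.End.isUnit_iff _).mp hu).injective
  · intro a p ha hp ih _ h
    by_cases hk : LinearMap.ker (aeval B p) = ⊥
    · have ha' : LinearMap.ker (aeval B a) ≠ ⊥ := by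
        intro hka
        apply h
        rw [Submodule.eq_bot_iff]
        intro v hv
        rw [LinearMap.mem_ker, map_mul, Module.End.mul_apply] at hv
        have h1 : aeval B a v ∈ LinearMap.ker (aeval B p) := hv
        rw [hk, Submodule.mem_bot] at h1
        have h2 : v ∈ LinearMap.ker (aeval B a) := h1
        rw [hka, Submodule.mem_bot] at h2
        exact h2
      obtain ⟨φ, h1, h2, h3⟩ := ih ha ha'
      exact ⟨φ, h1, h2.mul_left p, h3⟩
    · exact ⟨p, hp.irreducible, dvd_mul_right p a, hk⟩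

/-- A fixed vector is an eigenvector of `P(C)` with eigenvalue `P(1)`. -/
theorem aeval_fix {F V : Type*} [Field F] [AddCommGroup V] [Module F V]
    (C : Module.End F V) (P : F[X]) (e : V) (he : C e = e) : aeval C P e = eval 1 P • e := by
  by_cases he0 : e = 0
  · rw [he0, map_zero, smul_zero]
  · exact Module.End.aeval_apply_of_hasEigenvector
      ⟨Module.End.mem_eigenspace_iff.mpr (by rw [one_smul]; exact he), he0⟩

/-- Polynomial part: a monic irreducible `φ ∣ X ^ s - 1` with `φ(1) ≠ 0`, of odd degree,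
cannot divide `φ ∘ X ^ (s - 1)`. -/
theorem no_self_dual {F : Type*} [Field F] (s : ℕ) (hs : s.Prime) (hs2 : s ≠ 2) (φ : F[X])
    (hirr : Irreducible φ) (hmon : φ.Monic) (hd : φ ∣ X ^ s - 1) (he1 : eval 1 φ ≠ 0)
    (hodd : Odd φ.natDegree) (hcomp : φ ∣ φ.comp (X ^ (s - 1))) : False := by
  haveI : Fact (Irreducible φ) := ⟨hirr⟩
  obtain ⟨β, hβ⟩ : ∃ β : AdjoinRoot φ, β = AdjoinRoot.root φ := ⟨_, rfl⟩
  have hβs : β ^ s = 1 := by
    have h1 : aeval β (X ^ s - 1 : F[X]) = 0 := by
      rw [hβ, AdjoinRoot.aeval_eq, AdjoinRoot.mk_eq_zero]; exact hd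
    rw [map_sub, map_pow, aeval_X, map_one, sub_eq_zero] at h1
    exact h1
  have hs1 : s - 1 + 1 = s := Nat.sub_add_cancel hs.one_le
  have hinv1 : β * β ^ (s - 1) = 1 := by rw [← pow_succ', hs1, hβs]
  have hinv2 : β ^ (s - 1) * β = 1 := by rw [← pow_succ, hs1, hβs]
  have h2 : aeval (β ^ (s - 1)) φ = 0 := by
    have h3 : aeval β (φ.comp (X ^ (s - 1))) = 0 := by
      rw [hβ, AdjoinRoot.aeval_eq, AdjoinRoot.mk_eq_zero]; exact hcomp
    rw [aeval_comp, map_pow, aeval_X] at h3
    exact h3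
  letI inst : Invertible (β ^ (s - 1)) := ⟨β, hinv1, hinv2⟩
  have h4 : eval₂ (algebraMap F (AdjoinRoot φ)) (⅟(β ^ (s - 1))) (reverse φ) = 0 :=
    (eval₂_reverse_eq_zero_iff (algebraMap F (AdjoinRoot φ)) (β ^ (s - 1)) φ).mpr
      (by rw [← aeval_def]; exact h2)
  have h5 : aeval β (reverse φ) = 0 := by
    rw [aeval_def]; exact h4
  have hrev : φ ∣ reverse φ := by
    rw [hβ, AdjoinRoot.aeval_eq, AdjoinRoot.mk_eq_zero] at h5
    exact h5
  have h0 := Cfsg.Agent.Helper14.PrimeOrdSp.coeff_zero_ne hs.ne_zero φ hd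
  have hstar : Cfsg.Agent.Helper14.PrimeOrdSp.star φ = φ := by
    refine Polynomial.eq_of_monic_of_dvd_of_natDegree_le hmon
      (Cfsg.Agent.Helper14.PrimeOrdSp.star_monic φ h0) ?_
      (le_of_eq (Cfsg.Agent.Helper14.PrimeOrdSp.star_natDegree φ h0))
    exact Dvd.dvd.mul_left hrev _
  exact Cfsg.Agent.Helper14.PrimeOrdSp.star_ne_of_odd hs hs2 hodd φ rfl hd he1 hstar

/-- (P4) the `l`-odd structural lemma. -/
theorem x2 {F V : Type*} [Field F] [Fintype F] [AddCommGroup V] [Module F V] [Finite V]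
    (f : LinearMap.BilinForm F V) (halt : ∀ v, f v v = 0) (hnd : ∀ v, (∀ w, f v w = 0) → v = 0)
    (r s : ℕ) [Fact r.Prime] [Fact s.Prime] (hs2 : s ≠ 2) (hrq : ¬ r ∣ Fintype.card F)
    (hsq : ¬ s ∣ Fintype.card F) (A B : Module.End F V)
    (hAf : ∀ u v, f (A u) (A v) = f u v) (hBf : ∀ u v, f (B u) (B v) = f u v)
    (hA : A ^ r = 1) (hB : B ^ s = 1) (hAB : A * B = B * A)
    (hker : LinearMap.ker (A - 1) = LinearMap.ker (B - 1)) (l : ℕ)
    (hl : l = orderOf ((Fintype.card F : ℕ) : ZMod s)) (hlo : Odd l)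
    (hdim : Module.finrank F ↥(LinearMap.ker (B - 1)) + 2 * l = Module.finrank F V) :
    orderOf ((Fintype.card F : ℕ) : ZMod r) ∣ l := by
  classical
  have hsP : s.Prime := Fact.out
  have hl1 : 1 ≤ l := by
    obtain ⟨u, hu⟩ := hlo
    omega
  have hs0 : (s : F) ≠ 0 := by
    intro h0
    have h1 : addOrderOf (1 : F) ∣ s := by
      rw [addOrderOf_dvd_iff_nsmul_eq_zero, nsmul_one]; exact h0
    rcases (Nat.dvd_prime hsP).mp h1 with h | h
    · rw [AddMonoid.addOrderOf_eq_one_iff] at h
      exact one_ne_zero h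
    · apply hsq
      rw [← h]
      exact addOrderOf_dvd_card
  obtain ⟨E, hE⟩ : ∃ E : Submodule F V, E = LinearMap.ker (B - 1) := ⟨_, rfl⟩
  have hEmem : ∀ v, v ∈ E ↔ B v = v := by
    intro v
    rw [hE, LinearMap.mem_ker, LinearMap.sub_apply, Module.End.one_apply, sub_eq_zero]
  obtain ⟨Φ, hΦ⟩ : ∃ Φ : F[X], Φ = ∑ i ∈ Finset.range s, X ^ i := ⟨_, rfl⟩
  have hΦmul : (X - 1) * Φ = X ^ s - 1 := by rw [hΦ]; exact mul_geom_sum X s
  have hΦ1 : eval 1 Φ = (s : F) := by rw [hΦ]; simp [eval_finset_sum]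
  have hΦ0 : Φ ≠ 0 := by
    intro h
    rw [h, eval_zero] at hΦ1
    exact hs0 hΦ1.symm
  have hBne : B ≠ 1 := by
    intro h
    rw [h, sub_self, LinearMap.ker_zero, finrank_top] at hdim
    omega
  have hΦker : LinearMap.ker (aeval B Φ) ≠ ⊥ := by
    intro hbot
    apply hBne
    have h1 : aeval B Φ * (B - 1) = 0 := by
      have h2 : aeval B (Φ * (X - 1)) = 0 := by
        rw [mul_comm, hΦmul, map_sub, map_pow, aeval_X, map_one, hB, sub_self]
      rw [map_mul, map_sub, aeval_X, map_one] at h2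
      exact h2
    refine LinearMap.ext (fun v => ?_)
    have h3 : (B - 1) v ∈ LinearMap.ker (aeval B Φ) := by
      rw [LinearMap.mem_ker, ← Module.End.mul_apply, h1, LinearMap.zero_apply]
    rw [hbot, Submodule.mem_bot, LinearMap.sub_apply, sub_eq_zero] at h3
    exact h3
  obtain ⟨φ0, hφ0irr, hφ0dvd, hφ0ker⟩ := exists_irr_ker B Φ hΦ0 hΦker
  -- normalise to a monic polynomial
  have hφ00 : φ0 ≠ 0 := hφ0irr.ne_zero
  have hc0 : φ0.leadingCoeff ≠ 0 := mt leadingCoeff_eq_zero.1 hφ00
  have hCu : IsUnit (C (φ0.leadingCoeff)⁻¹ : F[X]) :=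
    Polynomial.isUnit_C.mpr (IsUnit.mk0 _ (inv_ne_zero hc0))
  obtain ⟨φ, hφdef⟩ : ∃ φ : F[X], φ = φ0 * C (φ0.leadingCoeff)⁻¹ := ⟨_, rfl⟩
  have hφmon : φ.Monic := by rw [hφdef]; exact monic_mul_leadingCoeff_inv hφ00
  have hφirr : Irreducible φ := by
    rw [hφdef]
    obtain ⟨u, hu⟩ := hCu
    rw [← hu]
    exact (irreducible_mul_units u).mpr hφ0irr
  have hφdvd : φ ∣ Φ := by
    rw [hφdef]; exact (IsUnit.mul_right_dvd hCu).mpr hφ0dvd
  have hφker : LinearMap.ker (aeval B φ) ≠ ⊥ := by
    intro hbot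
    apply hφ0ker
    rw [Submodule.eq_bot_iff]
    intro v hv
    have h1 : v ∈ LinearMap.ker (aeval B φ) := by
      rw [LinearMap.mem_ker] at hv ⊢
      rw [hφdef, map_mul, Module.End.mul_apply, aeval_C, Module.algebraMap_end_apply, map_smul,
        hv, smul_zero]
    rw [hbot, Submodule.mem_bot] at h1
    exact h1
  have hφ1 : eval 1 φ ≠ 0 := by
    intro h0
    obtain ⟨g, hg⟩ := hφdvd
    have h1 : eval 1 Φ = 0 := by rw [hg, eval_mul, h0, zero_mul]
    rw [hΦ1] at h1
    exact hs0 h1
  have hφXs : φ ∣ X ^ s - 1 := by rw [← hΦmul]; exact hφdvd.mul_left _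
  obtain ⟨W, hW⟩ : ∃ W : Submodule F V, W = LinearMap.ker (aeval B φ) := ⟨_, rfl⟩
  have hWmem : ∀ v, v ∈ W ↔ aeval B φ v = 0 := by
    intro v
    rw [hW, LinearMap.mem_ker]
  have hWne : W ≠ ⊥ := by rw [hW]; exact hφker
  have hBc : ∀ P : F[X], Commute B (aeval B P) := by
    intro P
    have h1 : aeval B (X * P) = aeval B (P * X) := by rw [mul_comm]
    rw [map_mul, map_mul, aeval_X] at h1
    exact h1
  have hAc : ∀ P : F[X], Commute A (aeval B P) := by
    intro P
    induction P using Polynomial.induction_on' with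
    | add p q hp hq => rw [map_add]; exact hp.add_right hq
    | monomial n a =>
      rw [aeval_monomial]
      exact (Algebra.commute_algebraMap_right a A).mul_right (Commute.pow_right hAB n)
  have hWB : ∀ w ∈ W, B w ∈ W := by
    intro w hw
    rw [hWmem] at hw ⊢
    have h1 := congrArg (fun T : Module.End F V => T w) (hBc φ).eq
    simp only [Module.End.mul_apply] at h1
    rw [← h1, hw, map_zero]
  have hWA : ∀ w ∈ W, A w ∈ W := by
    intro w hw
    rw [hWmem] at hw ⊢
    have h1 := congrArg (fun T : Module.End F V => T w) (hAc φ).eq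
    simp only [Module.End.mul_apply] at h1
    rw [← h1, hw, map_zero]
  have hWE : W ⊓ E = ⊥ := by
    rw [Submodule.eq_bot_iff]
    intro w hw
    have h1 := aeval_fix B φ w ((hEmem w).mp hw.2)
    rw [(hWmem w).mp hw.1] at h1
    rcases smul_eq_zero.mp h1.symm with h | h
    · exact absurd h hφ1
    · exact h
  have hfW := Cfsg.Agent.Helper14.PslAdj2.fix_dvd s hsq B hB W hWB
  rw [← hE, hWE, finrank_bot, Nat.sub_zero, ← hl] at hfW
  have hWpos : 0 < Module.finrank F W := by
    by_contra h0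
    have h0' : Module.finrank F W = 0 := by omega
    exact hWne (Submodule.finrank_eq_zero.mp h0')
  have hsup := Submodule.finrank_sup_add_finrank_inf_eq W E
  rw [hWE, finrank_bot, add_zero] at hsup
  have hle := Submodule.finrank_le (W ⊔ E)
  rw [← hE] at hdim
  obtain ⟨t, ht⟩ := hfW
  have ht12 : t = 1 ∨ t = 2 := by
    have h1 : l * t ≤ l * 2 := by omega
    have h2 : t ≤ 2 := Nat.le_of_mul_le_mul_left h1 hl1
    have h3 : t ≠ 0 := by
      rintro rfl
      rw [mul_zero] at ht
      omega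
    omega
  rcases ht12 with ht1 | ht2
  · have hfA := Cfsg.Agent.Helper14.PslAdj2.fix_dvd r hrq A hA W hWA
    rw [hker, ← hE, hWE, finrank_bot, Nat.sub_zero, ht, ht1, mul_one] at hfA
    exact hfA
  · exfalso
    rw [ht2] at ht
    have hWtop : W ⊔ E = ⊤ := by
      apply Submodule.eq_top_of_finrank_eq
      omega
    have hs1 : s - 1 + 1 = s := Nat.sub_add_cancel hsP.one_le
    have hB' : B * B ^ (s - 1) = 1 := by rw [← pow_succ', hs1, hB]
    have hB'' : B ^ (s - 1) * B = 1 := by rw [← pow_succ, hs1, hB]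
    have hBpf : ∀ n : ℕ, ∀ u v, f ((B ^ n) u) ((B ^ n) v) = f u v := by
      intro n
      induction n with
      | zero => intro u v; simp
      | succ n ih =>
        intro u v
        rw [pow_succ, Module.End.mul_apply, Module.End.mul_apply, ih, hBf]
    have adj1 := adj_aeval f B (B ^ (s - 1)) hBf hB'
    have adj2 := adj_aeval f (B ^ (s - 1)) B (hBpf (s - 1)) hB''
    have hB'e : ∀ e ∈ E, (B ^ (s - 1)) e = e := by
      intro e he
      have h1 : B e = e := (hEmem e).mp he
      have h2 := congrArg (fun T : Module.End F V => T e) hB''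
      simp only [Module.End.mul_apply, Module.End.one_apply] at h2
      rw [h1] at h2
      exact h2
    have hWperp : ∀ w ∈ W, ∀ e ∈ E, f w e = 0 := by
      intro w hw e he
      have h1 := adj1 φ w e
      rw [(hWmem w).mp hw, map_zero, LinearMap.zero_apply,
        aeval_fix (B ^ (s - 1)) φ e (hB'e e he), map_smul, smul_eq_mul] at h1
      rcases mul_eq_zero.mp h1.symm with h | h
      · exact absurd h hφ1
      · exact h
    have hkill : ∀ w ∈ W, aeval (B ^ (s - 1)) φ w = 0 := by
      intro w hw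
      apply hnd
      intro v
      have hv : v ∈ W ⊔ E := by rw [hWtop]; exact Submodule.mem_top
      obtain ⟨w', hw', e, he, rfl⟩ := Submodule.mem_sup.mp hv
      rw [adj2 φ w (w' + e), map_add, (hWmem w').mp hw', zero_add,
        aeval_fix B φ e ((hEmem e).mp he), map_smul, hWperp w hw e he, smul_zero]
    -- φ divides φ ∘ X^(s-1)
    have hcomp : φ ∣ φ.comp (X ^ (s - 1)) := by
      rcases hφirr.isCoprime_or_dvd (φ.comp (X ^ (s - 1))) with hco | hdv
      · exfalso
        obtain ⟨a, b, hab⟩ := hco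
        apply hWne
        rw [Submodule.eq_bot_iff]
        intro w hw
        have h1 : aeval B (a * φ + b * φ.comp (X ^ (s - 1))) w = w := by
          rw [hab, map_one, Module.End.one_apply]
        rw [map_add, map_mul, map_mul, LinearMap.add_apply, Module.End.mul_apply,
          Module.End.mul_apply, (hWmem w).mp hw, aeval_comp, map_pow, aeval_X, hkill w hw,
          map_zero, map_zero, add_zero] at h1
        exact h1.symm
      · exact hdv
    -- the degree of φ is odd
    have hsdvd : s ∣ Fintype.card F ^ l - 1 := by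
      rw [← ZMod.natCast_eq_zero_iff, Nat.cast_sub (Nat.one_le_pow _ _ Fintype.card_pos),
        Nat.cast_pow, Nat.cast_one, hl, pow_orderOf_eq_one, sub_self]
    obtain ⟨m, hm⟩ := hsdvd
    have hd1 : (X ^ s - 1 : F[X]) ∣ X ^ (Fintype.card F ^ l - 1) - 1 := by
      rw [hm, pow_mul]
      have h1 := sub_dvd_pow_sub_pow (X ^ s : F[X]) 1 m
      rwa [one_pow] at h1
    have hd2 : (X ^ (Fintype.card F ^ l) - X : F[X]) =
        X * (X ^ (Fintype.card F ^ l - 1) - 1) := by
      rw [mul_sub, mul_one, ← pow_succ',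
        Nat.sub_add_cancel (Nat.one_le_pow _ _ Fintype.card_pos)]
    have hd3 : φ ∣ X ^ (Nat.card F) ^ l - X := by
      rw [Nat.card_eq_fintype_card, hd2]
      exact (hφXs.trans hd1).mul_left _
    have hdeg : φ.natDegree ∣ l := hφirr.natDegree_dvd_of_dvd_X_pow_card_pow_sub_X hd3
    exact no_self_dual s hsP hs2 φ hφirr hφmon hφXs hφ1 (hlo.of_dvd_nat hdeg) hcomp

end Cfsg.Agent.Helper12.PSpRS
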