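import Mathlib
import Cfsg.Agent.S2298
import Cfsg.Agent.Helper24.CharRegular

set_option autoImplicit false
open Cfsg

namespace Cfsg.Agent.Helper12

open Cfsg.Agent.S2305 (th)
open Cfsg.Agent.S2308 (belG)

section cliffgeneric

universe u v

theorem isCharacter_comp_hom {G : Type u} {H : Type v} [Group G] [Group H] (f : G →* H) {χ : H → ℂ}
    (hχ : Cfsg.IsCharacter H χ) : Cfsg.IsCharacter G (fun g => χ (f g)) := by
  obtain ⟨n, ρ, rfl⟩ := hχ
  exact ⟨n, MonoidHom.comp ρ f, rfl⟩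

end cliffgeneric

section mulchar2

variable {F : Type*} [Field F] [Fintype F]

theorem mulChar_eq_of_gen (ζ : Fˣ) (hζ : ∀ x : Fˣ, x ∈ Subgroup.zpowers ζ) (α β : MulChar F ℂ)
    (h : α (ζ : F) = β (ζ : F)) : α = β := by
  have h1 : α.toUnitHom ζ = β.toUnitHom ζ := by
    apply Units.ext
    rw [MulChar.coe_toUnitHom, MulChar.coe_toUnitHom]
    exact h
  apply MulChar.ext
  intro x
  obtain ⟨k, hk⟩ := Subgroup.mem_zpowers_iff.mp (hζ x)
  have h2 : α.toUnitHom x = β.toUnitHom x := by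
    rw [← hk, map_zpow, map_zpow, h1]
  have h3 := congrArg Units.val h2
  rw [MulChar.coe_toUnitHom, MulChar.coe_toUnitHom] at h3
  exact h3

theorem mulChar_gen_val (ζ : Fˣ) (hζ : ∀ x : Fˣ, x ∈ Subgroup.zpowers ζ) (γ : MulChar F ℂ)
    (hγ : γ * γ = 1) (hγ1 : γ ≠ 1) : γ (ζ : F) = -1 := by
  have h : (γ * γ) (ζ : F) = (1 : MulChar F ℂ) (ζ : F) := by rw [hγ]
  rw [MulChar.mul_apply, MulChar.one_apply_coe] at h
  rcases mul_self_eq_one_iff.mp h with h2 | h2
  · exfalso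
    apply hγ1
    apply mulChar_eq_of_gen ζ hζ
    rw [h2, MulChar.one_apply_coe]
  · exact h2

theorem mulChar_invol_unique (α β : MulChar F ℂ) (hα : α * α = 1) (hβ : β * β = 1) (hα1 : α ≠ 1)
    (hβ1 : β ≠ 1) : α = β := by
  obtain ⟨ζ, hζ⟩ := IsCyclic.exists_generator (α := Fˣ)
  exact mulChar_eq_of_gen ζ hζ α β
    ((mulChar_gen_val ζ hζ α hα hα1).trans (mulChar_gen_val ζ hζ β hβ hβ1).symm)

theorem odd_card_of_mulChar_invol (α : MulChar F ℂ) (hα : α * α = 1) (hα1 : α ≠ 1) :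
    Odd (Fintype.card F) := by
  obtain ⟨ζ, hζ⟩ := IsCyclic.exists_generator (α := Fˣ)
  have hz := mulChar_gen_val ζ hζ α hα hα1
  by_contra hodd
  have heven : Even (Fintype.card F) := Nat.not_odd_iff_even.mp hodd
  have hoddm : Odd (Fintype.card F - 1) := by
    have hpos := Fintype.card_pos (α := F)
    obtain ⟨k, hk⟩ := heven
    exact ⟨k - 1, by omega⟩
  have h3 : α (ζ : F) ^ (Fintype.card F - 1) = 1 := by
    rw [← map_pow, FiniteField.pow_card_sub_one_eq_one (ζ : F) ζ.ne_zero, map_one]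
  rw [hz, hoddm.neg_one_pow] at h3
  norm_num at h3

end mulchar2

section gl2type

variable {F : Type*} [Field F]

/-- Types of irreducible characters of `GL₂(F)` with exact degrees. -/
theorem gl2_type [Fintype F] [DecidableEq F] (Θ : (Matrix.GeneralLinearGroup (Fin 2) F) → ℂ) (hΘ : Cfsg.IsIrrCharacter (Matrix.GeneralLinearGroup (Fin 2) F) Θ) (m : ℕ)
    (hm : Fintype.card F = m + 1) :
    (Θ 1 = (m : ℂ) ∧ Θ (belG 1 1 1) = -1 ∧
        (∀ a b : Fˣ, (a : F) ≠ (b : F) → ∀ c : F, Θ (belG a b c) = 0)) ∨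
    (Θ 1 = (m : ℂ) + 2 ∧ Θ (belG 1 1 1) = 1 ∧
        (∀ g : (Matrix.GeneralLinearGroup (Fin 2) F), (∀ (c : F) (v : Fin 2 → F), v ≠ 0 → (g : (Matrix (Fin 2) (Fin 2) F)).mulVec v ≠ c • v) → Θ g = 0) ∧
        ∃ α β : MulChar F ℂ, α ≠ β ∧ Θ = RG α β) ∨
    (Θ 1 = 1 ∧ ∃ α : MulChar F ℂ, Θ = detChar α) ∨
    (Θ 1 = (m : ℂ) + 1 ∧ ∃ α : MulChar F ℂ, ∀ g : (Matrix.GeneralLinearGroup (Fin 2) F),
        Θ g = detChar α g * (Cfsg.indFun (Cfsg.upperTriangularGL 2 F) (fun _ => (1 : ℂ)) g - 1)) := by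
  obtain ⟨St, hSt⟩ := exists_St (F := F)
  obtain ⟨χ', hχ'⟩ : ∃ χ' : Cfsg.IrrCharacter (Matrix.GeneralLinearGroup (Fin 2) F), (χ' : (Matrix.GeneralLinearGroup (Fin 2) F) → ℂ) = Θ := ⟨⟨Θ, hΘ⟩, rfl⟩
  have hm1 : 1 ≤ m := by
    have := Fintype.one_lt_card (α := F)
    omega
  have hQ : (Fintype.card F : ℂ) = (m : ℂ) + 1 := by
    rw [hm]
    push_cast
    ring
  have hone : ((1 : (Matrix.GeneralLinearGroup (Fin 2) F)) : (Matrix (Fin 2) (Fin 2) F)) = (1 : F) • (1 : (Matrix (Fin 2) (Fin 2) F)) := (one_smul _ _).symm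
  rcases gl2_dichotomy St hSt χ' with hc | ⟨α, β, hαβ, h⟩ | ⟨α, h⟩ | ⟨α, h⟩
  · left
    obtain ⟨n, hn⟩ := Helper24.irr_one_eq_natCast χ'
    obtain ⟨hu, hdvd, hineq⟩ := cusp_main χ' hc m n hm hn
    have hn' : Θ 1 = (n : ℂ) := by
      rw [← hχ']
      exact hn
    have hdeg := (S2298.result (F := F)).1 Θ hΘ
    have hnm : n = m := by
      rcases hdeg with h1 | h1 | h1 | h1
      · have e : (n : ℂ) = 1 := hn'.symm.trans h1
        have e' : n = 1 := by exact_mod_cast e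
        rw [e'] at hdvd
        have h3 := Nat.dvd_one.mp hdvd
        omega
      · have e : (n : ℂ) = (m : ℂ) := by
          rw [← hn', h1, hQ]
          ring
        exact_mod_cast e
      · have e : (n : ℂ) = (m : ℂ) + 1 := by
          rw [← hn', h1, hQ]
        have e' : n = m + 1 := by exact_mod_cast e
        rw [e'] at hdvd hineq
        have h2 : m ∣ 1 := (Nat.dvd_add_right (dvd_refl m)).mp hdvd
        have h3 := Nat.dvd_one.mp h2
        subst h3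
        norm_num at hineq
      · have e : (n : ℂ) = (m : ℂ) + 2 := by
          rw [← hn', h1, hQ]
          ring
        have e' : n = m + 2 := by exact_mod_cast e
        rw [e'] at hdvd hineq
        have h2 : m ∣ 2 := (Nat.dvd_add_right (dvd_refl m)).mp hdvd
        have h3 : m ≤ 2 := Nat.le_of_dvd (by norm_num) h2
        interval_cases m
        · norm_num at hineq
        · norm_num at hineq
    have hmC : (m : ℂ) ≠ 0 := Nat.cast_ne_zero.mpr (by omega)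
    refine ⟨?_, ?_, ?_⟩
    · rw [hn', hnm]
    · rw [← hχ', hu, hnm, div_self hmC]
    · intro a b hab c
      rw [← hχ']
      exact cusp_split χ' hc a b hab c
  · right
    left
    rw [hχ'] at h
    refine ⟨?_, ?_, ?_, α, β, hαβ, h⟩
    · rw [h, RG_one, hQ]
      ring
    · rw [h]
      exact RG_unip α β
    · intro g hg
      rw [h]
      exact S2307.indFun_th_elliptic α β g hg
  · right
    right
    left
    rw [hχ'] at h
    refine ⟨?_, α, h⟩
    rw [h]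
    exact detChar_one α
  · right
    right
    right
    rw [hχ'] at h
    have hval : ∀ g : (Matrix.GeneralLinearGroup (Fin 2) F), Θ g = detChar α g * (Cfsg.indFun (Cfsg.upperTriangularGL 2 F) (fun _ => (1 : ℂ)) g - 1) := by
      intro g
      rw [h]
      show detChar α g * (St : (Matrix.GeneralLinearGroup (Fin 2) F) → ℂ) g = _
      rw [St_val St hSt]
    refine ⟨?_, α, hval⟩
    rw [hval 1, detChar_one, S2308.indFun1_scalar 1 1 hone, hQ]
    ring

theorem gl2_type_nat [Fintype F] [DecidableEq F] (Θ : (Matrix.GeneralLinearGroup (Fin 2) F) → ℂ) (hΘ : Cfsg.IsIrrCharacter (Matrix.GeneralLinearGroup (Fin 2) F) Θ) (m : ℕ)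
    (hm : Fintype.card F = m + 1) (k : ℕ) (hk : Θ 1 = (k : ℂ)) :
    (k = m ∧ Θ (belG 1 1 1) = -1 ∧
        (∀ a b : Fˣ, (a : F) ≠ (b : F) → ∀ c : F, Θ (belG a b c) = 0)) ∨
    (k = m + 2 ∧ Θ (belG 1 1 1) = 1 ∧
        (∀ g : (Matrix.GeneralLinearGroup (Fin 2) F), (∀ (c : F) (v : Fin 2 → F), v ≠ 0 → (g : (Matrix (Fin 2) (Fin 2) F)).mulVec v ≠ c • v) → Θ g = 0) ∧
        ∃ α β : MulChar F ℂ, α ≠ β ∧ Θ = RG α β) ∨
    (k = 1 ∧ ∃ α : MulChar F ℂ, Θ = detChar α) ∨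
    (k = m + 1 ∧ ∃ α : MulChar F ℂ, ∀ g : (Matrix.GeneralLinearGroup (Fin 2) F),
        Θ g = detChar α g * (Cfsg.indFun (Cfsg.upperTriangularGL 2 F) (fun _ => (1 : ℂ)) g - 1)) := by
  rcases gl2_type Θ hΘ m hm with ⟨t1, h⟩ | ⟨t1, h⟩ | ⟨t1, h⟩ | ⟨t1, h⟩
  · left
    refine ⟨?_, h⟩
    have e : (k : ℂ) = (m : ℂ) := hk.symm.trans t1
    exact_mod_cast e
  · right
    left
    refine ⟨?_, h⟩
    have e : (k : ℂ) = (m : ℂ) + 2 := hk.symm.trans t1
    exact_mod_cast e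
  · right
    right
    left
    refine ⟨?_, h⟩
    have e : (k : ℂ) = 1 := hk.symm.trans t1
    exact_mod_cast e
  · right
    right
    right
    refine ⟨?_, h⟩
    have e : (k : ℂ) = (m : ℂ) + 1 := hk.symm.trans t1
    exact_mod_cast e

theorem sum_belG_unip [Fintype F] [DecidableEq F] (Θ : Cfsg.IrrCharacter (Matrix.GeneralLinearGroup (Fin 2) F)) :
    (∑ c : F, (Θ : (Matrix.GeneralLinearGroup (Fin 2) F) → ℂ) (belG 1 1 c)) =
      (Θ : (Matrix.GeneralLinearGroup (Fin 2) F) → ℂ) 1 + ((Fintype.card F : ℂ) - 1) * (Θ : (Matrix.GeneralLinearGroup (Fin 2) F) → ℂ) (belG 1 1 1) := by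
  have h1 : ∀ c ∈ (Finset.univ : Finset F).erase 0,
      (Θ : (Matrix.GeneralLinearGroup (Fin 2) F) → ℂ) (belG 1 1 c) = (Θ : (Matrix.GeneralLinearGroup (Fin 2) F) → ℂ) (belG 1 1 1) := by
    intro c hc'
    obtain ⟨d, hd⟩ := belG_conj_one (1 : Fˣ) c (Finset.ne_of_mem_erase hc')
    rw [hd]
    exact Helper24.irr_conj Θ _ d
  rw [← Finset.add_sum_erase Finset.univ _ (Finset.mem_univ (0 : F)), Finset.sum_congr rfl h1,
    Finset.sum_const, Finset.card_erase_of_mem (Finset.mem_univ _), Finset.card_univ, nsmul_eq_mul,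
    Nat.cast_sub Fintype.card_pos, Nat.cast_one, belG_one]

end gl2type

section sl2cliff

variable {F : Type*} [Field F]

theorem toGL_bel (a : Fˣ) (c : F) : Matrix.SpecialLinearGroup.toGL (bel a c) = belG a a⁻¹ c := Units.ext rfl

theorem toGL_unip (u : (Matrix.SpecialLinearGroup (Fin 2) F)) (hu : (u : (Matrix (Fin 2) (Fin 2) F)) = !![1, 1; 0, 1]) : Matrix.SpecialLinearGroup.toGL u = belG 1 1 1 := by
  apply Units.ext
  show (u : (Matrix (Fin 2) (Fin 2) F)) = !![((1 : Fˣ) : F), 1; 0, ((1 : Fˣ) : F)]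
  rw [hu, Units.val_one]

theorem detChar_toGL (α : MulChar F ℂ) (g : (Matrix.SpecialLinearGroup (Fin 2) F)) : detChar α (Matrix.SpecialLinearGroup.toGL g) = 1 := by
  show α ((g : (Matrix (Fin 2) (Fin 2) F)).det) = 1
  rw [g.det_coe, map_one]

theorem toGL_bel_twist (a d : Fˣ) (c : F) :
    Matrix.SpecialLinearGroup.toGL (bel a ((d : F) * c)) = belG d 1 0 * Matrix.SpecialLinearGroup.toGL (bel a c) * (belG d 1 0)⁻¹ := by
  apply eq_mul_inv_of_mul_eq
  rw [toGL_bel, toGL_bel]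
  apply Units.ext
  rw [Units.val_mul, Units.val_mul]
  show !![(a : F), (d : F) * c; 0, ((a⁻¹ : Fˣ) : F)] * !![(d : F), 0; 0, ((1 : Fˣ) : F)] =
    !![(d : F), 0; 0, ((1 : Fˣ) : F)] * !![(a : F), c; 0, ((a⁻¹ : Fˣ) : F)]
  rw [Matrix.mul_fin_two, Matrix.mul_fin_two, Units.val_one]
  apply S5016.mat2_ext <;> ring

theorem sum_unipU [Fintype F] [DecidableEq F] (χ : (Matrix.SpecialLinearGroup (Fin 2) F) → ℂ) :
    (∑ g : (Matrix.SpecialLinearGroup (Fin 2) F), if (g : (Matrix (Fin 2) (Fin 2) F)) 1 0 = 0 ∧ (g : (Matrix (Fin 2) (Fin 2) F)) 0 0 = 1 ∧ (g : (Matrix (Fin 2) (Fin 2) F)) 1 1 = 1 then χ g else 0) =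
      ∑ c : F, χ (bel 1 c) := by
  symm
  refine Fintype.sum_of_injective (fun c : F => bel (1 : Fˣ) c) ?_ _ _ ?_ ?_
  · intro c c' h
    have h' : bel (1 : Fˣ) c = bel 1 c' := h
    have h1 : ((bel (1 : Fˣ) c : (Matrix.SpecialLinearGroup (Fin 2) F)) : (Matrix (Fin 2) (Fin 2) F)) = ((bel (1 : Fˣ) c' : (Matrix.SpecialLinearGroup (Fin 2) F)) : (Matrix (Fin 2) (Fin 2) F)) := by rw [h']
    rw [bel_val, bel_val] at h1
    exact (S5016.mat2_inj h1).2.1
  · intro g hg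
    refine if_neg (fun hcond : (g : (Matrix (Fin 2) (Fin 2) F)) 1 0 = 0 ∧ (g : (Matrix (Fin 2) (Fin 2) F)) 0 0 = 1 ∧ (g : (Matrix (Fin 2) (Fin 2) F)) 1 1 = 1 =>
      hg ⟨(g : (Matrix (Fin 2) (Fin 2) F)) 0 1, ?_⟩)
    obtain ⟨h10, h00, h11⟩ := hcond
    apply Subtype.ext
    show !![((1 : Fˣ) : F), (g : (Matrix (Fin 2) (Fin 2) F)) 0 1; 0, (((1 : Fˣ)⁻¹ : Fˣ) : F)] = (g : (Matrix (Fin 2) (Fin 2) F))
    rw [inv_one, Units.val_one]
    exact (S5016.mat2_ext h00.symm rfl h10.symm h11.symm).trans (Matrix.eta_fin_two (g : (Matrix (Fin 2) (Fin 2) F))).symm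
  · intro c
    have hcond : ((bel (1 : Fˣ) c : (Matrix.SpecialLinearGroup (Fin 2) F)) : (Matrix (Fin 2) (Fin 2) F)) 1 0 = 0 ∧ ((bel (1 : Fˣ) c : (Matrix.SpecialLinearGroup (Fin 2) F)) : (Matrix (Fin 2) (Fin 2) F)) 0 0 = 1 ∧
        ((bel (1 : Fˣ) c : (Matrix.SpecialLinearGroup (Fin 2) F)) : (Matrix (Fin 2) (Fin 2) F)) 1 1 = 1 := by
      refine ⟨rfl, ?_, ?_⟩
      · show ((1 : Fˣ) : F) = 1
        exact Units.val_one
      · show (((1 : Fˣ)⁻¹ : Fˣ) : F) = 1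
        rw [inv_one, Units.val_one]
    exact (if_pos hcond).symm

theorem exists_gl2_over [Fintype F] [DecidableEq F] (χ : Cfsg.IrrCharacter (Matrix.SpecialLinearGroup (Fin 2) F)) :
    ∃ Θ : Cfsg.IrrCharacter (Matrix.GeneralLinearGroup (Fin 2) F),
      Cfsg.classInner (fun g : (Matrix.SpecialLinearGroup (Fin 2) F) => (Θ : (Matrix.GeneralLinearGroup (Fin 2) F) → ℂ) (Matrix.SpecialLinearGroup.toGL g)) (χ : (Matrix.SpecialLinearGroup (Fin 2) F) → ℂ) ≠ 0 := by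
  classical
  by_contra hcon
  have hall : ∀ Θ : Cfsg.IrrCharacter (Matrix.GeneralLinearGroup (Fin 2) F),
      Cfsg.classInner (fun g : (Matrix.SpecialLinearGroup (Fin 2) F) => (Θ : (Matrix.GeneralLinearGroup (Fin 2) F) → ℂ) (Matrix.SpecialLinearGroup.toGL g)) (χ : (Matrix.SpecialLinearGroup (Fin 2) F) → ℂ) = 0 := by
    intro Θ
    by_contra h
    exact hcon ⟨Θ, h⟩
  have h2 : ∀ g : (Matrix.SpecialLinearGroup (Fin 2) F), (∑ Θ : Cfsg.IrrCharacter (Matrix.GeneralLinearGroup (Fin 2) F), (Θ : (Matrix.GeneralLinearGroup (Fin 2) F) → ℂ) 1 * (Θ : (Matrix.GeneralLinearGroup (Fin 2) F) → ℂ) (Matrix.SpecialLinearGroup.toGL g)) =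
      if g = 1 then (Nat.card (Matrix.GeneralLinearGroup (Fin 2) F) : ℂ) else 0 := by
    intro g
    rw [Helper24.sum_irr_one_mul (Matrix.SpecialLinearGroup.toGL g)]
    by_cases hg : g = 1
    · have hg' : Matrix.SpecialLinearGroup.toGL g = 1 := by rw [hg, map_one]
      rw [if_pos hg, if_pos hg']
    · have hg' : ¬ (Matrix.SpecialLinearGroup.toGL g = 1) := fun h =>
        hg (Matrix.SpecialLinearGroup.toGL_injective (h.trans (map_one _).symm))
      rw [if_neg hg, if_neg hg']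
  have h1 : Cfsg.classInner (fun g : (Matrix.SpecialLinearGroup (Fin 2) F) => ∑ Θ : Cfsg.IrrCharacter (Matrix.GeneralLinearGroup (Fin 2) F),
      (Θ : (Matrix.GeneralLinearGroup (Fin 2) F) → ℂ) 1 * (Θ : (Matrix.GeneralLinearGroup (Fin 2) F) → ℂ) (Matrix.SpecialLinearGroup.toGL g)) (χ : (Matrix.SpecialLinearGroup (Fin 2) F) → ℂ) = 0 := by
    have e : (fun g : (Matrix.SpecialLinearGroup (Fin 2) F) => ∑ Θ : Cfsg.IrrCharacter (Matrix.GeneralLinearGroup (Fin 2) F), (Θ : (Matrix.GeneralLinearGroup (Fin 2) F) → ℂ) 1 * (Θ : (Matrix.GeneralLinearGroup (Fin 2) F) → ℂ) (Matrix.SpecialLinearGroup.toGL g)) =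
        ∑ Θ : Cfsg.IrrCharacter (Matrix.GeneralLinearGroup (Fin 2) F), (Θ : (Matrix.GeneralLinearGroup (Fin 2) F) → ℂ) 1 • (fun g : (Matrix.SpecialLinearGroup (Fin 2) F) => (Θ : (Matrix.GeneralLinearGroup (Fin 2) F) → ℂ) (Matrix.SpecialLinearGroup.toGL g)) := by
      funext g
      rw [Finset.sum_apply]
      rfl
    rw [e, Helper24.classInner_sum_left]
    refine Finset.sum_eq_zero (fun Θ _ => ?_)
    rw [Helper24.classInner_smul_left, hall Θ, mul_zero]
  have h3 : Cfsg.classInner (fun g : (Matrix.SpecialLinearGroup (Fin 2) F) => ∑ Θ : Cfsg.IrrCharacter (Matrix.GeneralLinearGroup (Fin 2) F),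
      (Θ : (Matrix.GeneralLinearGroup (Fin 2) F) → ℂ) 1 * (Θ : (Matrix.GeneralLinearGroup (Fin 2) F) → ℂ) (Matrix.SpecialLinearGroup.toGL g)) (χ : (Matrix.SpecialLinearGroup (Fin 2) F) → ℂ) =
      (Nat.card (Matrix.SpecialLinearGroup (Fin 2) F) : ℂ)⁻¹ * ((Nat.card (Matrix.GeneralLinearGroup (Fin 2) F) : ℂ) * (starRingEnd ℂ) ((χ : (Matrix.SpecialLinearGroup (Fin 2) F) → ℂ) 1)) := by
    show (Nat.card (Matrix.SpecialLinearGroup (Fin 2) F) : ℂ)⁻¹ * ∑ g : (Matrix.SpecialLinearGroup (Fin 2) F), (∑ Θ : Cfsg.IrrCharacter (Matrix.GeneralLinearGroup (Fin 2) F),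
      (Θ : (Matrix.GeneralLinearGroup (Fin 2) F) → ℂ) 1 * (Θ : (Matrix.GeneralLinearGroup (Fin 2) F) → ℂ) (Matrix.SpecialLinearGroup.toGL g)) * (starRingEnd ℂ) ((χ : (Matrix.SpecialLinearGroup (Fin 2) F) → ℂ) g) = _
    congr 1
    rw [Finset.sum_eq_single (1 : (Matrix.SpecialLinearGroup (Fin 2) F))]
    · rw [h2 1, if_pos rfl]
    · intro g _ hg
      rw [h2 g, if_neg hg, zero_mul]
    · intro h
      exact absurd (Finset.mem_univ _) h
  rw [h3] at h1
  exact mul_ne_zero (inv_ne_zero (Nat.cast_ne_zero.mpr Nat.card_pos.ne'))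
    (mul_ne_zero (Nat.cast_ne_zero.mpr Nat.card_pos.ne')
      ((map_ne_zero (starRingEnd ℂ)).mpr (Helper5.irr_one_ne_zero χ))) h1

theorem res_inner_eq [Fintype F] [DecidableEq F] [Fintype (MulChar F ℂ)] (Θ : (Matrix.GeneralLinearGroup (Fin 2) F) → ℂ) :
    Cfsg.classInner (fun g : (Matrix.SpecialLinearGroup (Fin 2) F) => Θ (Matrix.SpecialLinearGroup.toGL g)) (fun g : (Matrix.SpecialLinearGroup (Fin 2) F) => Θ (Matrix.SpecialLinearGroup.toGL g)) =
      ∑ α : MulChar F ℂ, Cfsg.classInner (detChar α * Θ) Θ := by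
  have hcardM : (Fintype.card (MulChar F ℂ) : ℂ) = (Fintype.card F : ℂ) - 1 := by
    have : NeZero (Monoid.exponent Fˣ) := ⟨Monoid.exponent_ne_zero_of_finite⟩
    have h := MulChar.card_eq_card_units_of_hasEnoughRootsOfUnity F ℂ
    rw [Nat.card_eq_fintype_card, Nat.card_eq_fintype_card, Fintype.card_units] at h
    rw [h, Nat.cast_sub Fintype.card_pos, Nat.cast_one]
  have hsumα : ∀ x : (Matrix.GeneralLinearGroup (Fin 2) F), (∑ α : MulChar F ℂ, detChar α x) =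
      if (x : (Matrix (Fin 2) (Fin 2) F)).det = 1 then ((Fintype.card F : ℂ) - 1) else 0 := by
    intro x
    by_cases hx : (x : (Matrix (Fin 2) (Fin 2) F)).det = 1
    · rw [if_pos hx]
      have e : ∀ α : MulChar F ℂ, detChar α x = 1 := fun α => by
        show α ((x : (Matrix (Fin 2) (Fin 2) F)).det) = 1
        rw [hx, map_one]
      rw [Finset.sum_congr rfl (fun α _ => e α), Finset.sum_const, Finset.card_univ, nsmul_eq_mul,
        mul_one, hcardM]
    · rw [if_neg hx]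
      exact mulChar_sum_all_eq_zero hx
  have hR : ∀ α : MulChar F ℂ, Cfsg.classInner (detChar α * Θ) Θ =
      (Nat.card (Matrix.GeneralLinearGroup (Fin 2) F) : ℂ)⁻¹ * ∑ x : (Matrix.GeneralLinearGroup (Fin 2) F), detChar α x * (Θ x * (starRingEnd ℂ) (Θ x)) := by
    intro α
    show (Nat.card (Matrix.GeneralLinearGroup (Fin 2) F) : ℂ)⁻¹ * ∑ x : (Matrix.GeneralLinearGroup (Fin 2) F), (detChar α * Θ) x * (starRingEnd ℂ) (Θ x) = _
    congr 1
    refine Finset.sum_congr rfl (fun x _ => ?_)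
    show detChar α x * Θ x * (starRingEnd ℂ) (Θ x) = _
    ring
  have h2 : ∀ x : (Matrix.GeneralLinearGroup (Fin 2) F), (∑ α : MulChar F ℂ, detChar α x * (Θ x * (starRingEnd ℂ) (Θ x))) =
      (if (x : (Matrix (Fin 2) (Fin 2) F)).det = 1 then ((Fintype.card F : ℂ) - 1) else 0) *
        (Θ x * (starRingEnd ℂ) (Θ x)) := by
    intro x
    rw [← Finset.sum_mul, hsumα x]
  have h3 : (∑ g : (Matrix.SpecialLinearGroup (Fin 2) F), ((Fintype.card F : ℂ) - 1) *
      (Θ (Matrix.SpecialLinearGroup.toGL g) * (starRingEnd ℂ) (Θ (Matrix.SpecialLinearGroup.toGL g)))) =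
      ∑ x : (Matrix.GeneralLinearGroup (Fin 2) F), (if (x : (Matrix (Fin 2) (Fin 2) F)).det = 1 then ((Fintype.card F : ℂ) - 1) else 0) *
        (Θ x * (starRingEnd ℂ) (Θ x)) := by
    refine Fintype.sum_of_injective (fun g : (Matrix.SpecialLinearGroup (Fin 2) F) => Matrix.SpecialLinearGroup.toGL g)
      Matrix.SpecialLinearGroup.toGL_injective _ _ ?_ ?_
    · intro x hx
      have hdet : ¬ ((x : (Matrix (Fin 2) (Fin 2) F)).det = 1) := by
        intro h
        exact hx ⟨⟨(x : (Matrix (Fin 2) (Fin 2) F)), h⟩, Units.ext rfl⟩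
      show (if (x : (Matrix (Fin 2) (Fin 2) F)).det = 1 then ((Fintype.card F : ℂ) - 1) else 0) *
        (Θ x * (starRingEnd ℂ) (Θ x)) = 0
      rw [if_neg hdet, zero_mul]
    · intro g
      have hdet : ((Matrix.SpecialLinearGroup.toGL g : (Matrix.GeneralLinearGroup (Fin 2) F)) : (Matrix (Fin 2) (Fin 2) F)).det = 1 := g.det_coe
      show ((Fintype.card F : ℂ) - 1) * (Θ (Matrix.SpecialLinearGroup.toGL g) * (starRingEnd ℂ) (Θ (Matrix.SpecialLinearGroup.toGL g))) =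
        (if ((Matrix.SpecialLinearGroup.toGL g : (Matrix.GeneralLinearGroup (Fin 2) F)) : (Matrix (Fin 2) (Fin 2) F)).det = 1 then ((Fintype.card F : ℂ) - 1) else 0) *
          (Θ (Matrix.SpecialLinearGroup.toGL g) * (starRingEnd ℂ) (Θ (Matrix.SpecialLinearGroup.toGL g)))
      rw [if_pos hdet]
  have hRHS : (∑ α : MulChar F ℂ, Cfsg.classInner (detChar α * Θ) Θ) =
      (Nat.card (Matrix.GeneralLinearGroup (Fin 2) F) : ℂ)⁻¹ * (((Fintype.card F : ℂ) - 1) *
        ∑ g : (Matrix.SpecialLinearGroup (Fin 2) F), Θ (Matrix.SpecialLinearGroup.toGL g) * (starRingEnd ℂ) (Θ (Matrix.SpecialLinearGroup.toGL g))) := by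
    rw [Finset.sum_congr rfl (fun α _ => hR α), ← Finset.mul_sum, Finset.sum_comm,
      Finset.sum_congr rfl (fun x _ => h2 x), ← h3, ← Finset.mul_sum]
  rw [hRHS]
  show (Nat.card (Matrix.SpecialLinearGroup (Fin 2) F) : ℂ)⁻¹ * ∑ g : (Matrix.SpecialLinearGroup (Fin 2) F), Θ (Matrix.SpecialLinearGroup.toGL g) * (starRingEnd ℂ) (Θ (Matrix.SpecialLinearGroup.toGL g)) = _
  have hq1 : (Fintype.card F : ℂ) - 1 ≠ 0 := card_sub_one_ne_zero
  have hG : (Nat.card (Matrix.GeneralLinearGroup (Fin 2) F) : ℂ) = ((Fintype.card F : ℂ) - 1) * (Nat.card (Matrix.SpecialLinearGroup (Fin 2) F) : ℂ) := by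
    rw [Nat.card_eq_fintype_card, Nat.card_eq_fintype_card, S2308.card_GL_complex, card_SL_complex]
    ring
  have hS0 : (Nat.card (Matrix.SpecialLinearGroup (Fin 2) F) : ℂ) ≠ 0 := Nat.cast_ne_zero.mpr Nat.card_pos.ne'
  rw [hG]
  first | (field_simp; ring) | field_simp

theorem res_norm_cases [Fintype F] [DecidableEq F] (Θ : Cfsg.IrrCharacter (Matrix.GeneralLinearGroup (Fin 2) F)) :
    Cfsg.classInner (fun g : (Matrix.SpecialLinearGroup (Fin 2) F) => (Θ : (Matrix.GeneralLinearGroup (Fin 2) F) → ℂ) (Matrix.SpecialLinearGroup.toGL g))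
        (fun g : (Matrix.SpecialLinearGroup (Fin 2) F) => (Θ : (Matrix.GeneralLinearGroup (Fin 2) F) → ℂ) (Matrix.SpecialLinearGroup.toGL g)) = 1 ∨
    (Cfsg.classInner (fun g : (Matrix.SpecialLinearGroup (Fin 2) F) => (Θ : (Matrix.GeneralLinearGroup (Fin 2) F) → ℂ) (Matrix.SpecialLinearGroup.toGL g))
        (fun g : (Matrix.SpecialLinearGroup (Fin 2) F) => (Θ : (Matrix.GeneralLinearGroup (Fin 2) F) → ℂ) (Matrix.SpecialLinearGroup.toGL g)) = 2 ∧ Odd (Fintype.card F)) := by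
  classical
  have : Fintype (MulChar F ℂ) := Fintype.ofFinite _
  rw [res_inner_eq]
  have hterm : ∀ α : MulChar F ℂ, Cfsg.classInner (detChar α * (Θ : (Matrix.GeneralLinearGroup (Fin 2) F) → ℂ)) (Θ : (Matrix.GeneralLinearGroup (Fin 2) F) → ℂ) =
      if detChar α * (Θ : (Matrix.GeneralLinearGroup (Fin 2) F) → ℂ) = (Θ : (Matrix.GeneralLinearGroup (Fin 2) F) → ℂ) then 1 else 0 := by
    intro α
    have hirr : Cfsg.IsIrrCharacter (Matrix.GeneralLinearGroup (Fin 2) F) (detChar α * (Θ : (Matrix.GeneralLinearGroup (Fin 2) F) → ℂ)) :=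
      linear_mul_irr12 _ _ (detChar_irr α) (detChar_one α) Θ.2
    have h := Helper24.irr_orthonormal (⟨_, hirr⟩ : Cfsg.IrrCharacter (Matrix.GeneralLinearGroup (Fin 2) F)) Θ
    refine h.trans ?_
    by_cases hh : detChar α * (Θ : (Matrix.GeneralLinearGroup (Fin 2) F) → ℂ) = (Θ : (Matrix.GeneralLinearGroup (Fin 2) F) → ℂ)
    · rw [if_pos hh, if_pos (Subtype.ext hh)]
    · have hh' : ¬ ((⟨_, hirr⟩ : Cfsg.IrrCharacter (Matrix.GeneralLinearGroup (Fin 2) F)) = Θ) := fun h' => hh (congrArg Subtype.val h')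
      rw [if_neg hh, if_neg hh']
  have h1Θ : detChar (1 : MulChar F ℂ) * (Θ : (Matrix.GeneralLinearGroup (Fin 2) F) → ℂ) = (Θ : (Matrix.GeneralLinearGroup (Fin 2) F) → ℂ) := by
    funext g
    show (1 : MulChar F ℂ) ((g : (Matrix (Fin 2) (Fin 2) F)).det) * (Θ : (Matrix.GeneralLinearGroup (Fin 2) F) → ℂ) g = (Θ : (Matrix.GeneralLinearGroup (Fin 2) F) → ℂ) g
    rw [MulChar.one_apply (isUnit_iff_ne_zero.mpr (det_ne_zero12 g)), one_mul]
  have hsq : ∀ α : MulChar F ℂ, detChar α * (Θ : (Matrix.GeneralLinearGroup (Fin 2) F) → ℂ) = (Θ : (Matrix.GeneralLinearGroup (Fin 2) F) → ℂ) → α * α = 1 := by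
    intro α hα
    apply MulChar.ext
    intro a
    have hz : detChar α (belG a a 0) * (Θ : (Matrix.GeneralLinearGroup (Fin 2) F) → ℂ) (belG a a 0) = (Θ : (Matrix.GeneralLinearGroup (Fin 2) F) → ℂ) (belG a a 0) :=
      congrFun hα (belG a a 0)
    have hne : (Θ : (Matrix.GeneralLinearGroup (Fin 2) F) → ℂ) (belG a a 0) ≠ 0 := by
      intro h0
      have h := irr_central_normSq Θ (belG a a 0) (fun x => S2305.dg_central (a : F) a.ne_zero x)
      rw [h0, zero_mul] at h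
      exact Helper5.irr_one_ne_zero Θ ((pow_eq_zero_iff two_ne_zero).mp h.symm)
    have h1 : detChar α (belG a a 0) = 1 := mul_right_cancel₀ hne (hz.trans (one_mul _).symm)
    rw [S2298.detChar_belG] at h1
    rw [MulChar.mul_apply, MulChar.one_apply_coe]
    exact h1
  rw [Finset.sum_congr rfl (fun α _ => hterm α)]
  by_cases hex : ∃ η : MulChar F ℂ, η ≠ 1 ∧ detChar η * (Θ : (Matrix.GeneralLinearGroup (Fin 2) F) → ℂ) = (Θ : (Matrix.GeneralLinearGroup (Fin 2) F) → ℂ)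
  · obtain ⟨η, hη1, hη⟩ := hex
    right
    refine ⟨?_, odd_card_of_mulChar_invol η (hsq η hη) hη1⟩
    rw [Finset.sum_eq_add (1 : MulChar F ℂ) η (Ne.symm hη1)]
    · rw [if_pos h1Θ, if_pos hη]
      norm_num
    · intro α _ hα
      exact if_neg (fun hh : detChar α * (Θ : (Matrix.GeneralLinearGroup (Fin 2) F) → ℂ) = (Θ : (Matrix.GeneralLinearGroup (Fin 2) F) → ℂ) =>
        hα.2 (mulChar_invol_unique α η (hsq α hh) (hsq η hη) hα.1 hη1))
    · intro h
      exact absurd (Finset.mem_univ _) h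
    · intro h
      exact absurd (Finset.mem_univ _) h
  · left
    rw [Finset.sum_eq_single (1 : MulChar F ℂ)]
    · rw [if_pos h1Θ]
    · intro α _ hα
      exact if_neg (fun hh : detChar α * (Θ : (Matrix.GeneralLinearGroup (Fin 2) F) → ℂ) = (Θ : (Matrix.GeneralLinearGroup (Fin 2) F) → ℂ) => hex ⟨α, hα, hh⟩)
    · intro h
      exact absurd (Finset.mem_univ _) h

theorem conj_diag_of_conj (χ χ' : (Matrix.SpecialLinearGroup (Fin 2) F) → ℂ) (hχ : ∀ s g : (Matrix.SpecialLinearGroup (Fin 2) F), χ (s * g * s⁻¹) = χ g) (x : (Matrix.GeneralLinearGroup (Fin 2) F))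
    (hx : ∀ g h : (Matrix.SpecialLinearGroup (Fin 2) F), Matrix.SpecialLinearGroup.toGL h = x * Matrix.SpecialLinearGroup.toGL g * x⁻¹ → χ' h = χ g) :
    ∃ d : Fˣ, ∀ g h : (Matrix.SpecialLinearGroup (Fin 2) F), Matrix.SpecialLinearGroup.toGL h = belG d 1 0 * Matrix.SpecialLinearGroup.toGL g * (belG d 1 0)⁻¹ → χ' h = χ g := by
  refine ⟨Matrix.GeneralLinearGroup.det x, fun g h hgh => ?_⟩
  obtain ⟨s, hs⟩ : ∃ s : (Matrix.SpecialLinearGroup (Fin 2) F), Matrix.SpecialLinearGroup.toGL s = x⁻¹ * belG (Matrix.GeneralLinearGroup.det x) 1 0 := by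
    have h2 : Matrix.GeneralLinearGroup.det (belG (Matrix.GeneralLinearGroup.det x) 1 0) =
        Matrix.GeneralLinearGroup.det x := by
      apply Units.ext
      rw [Matrix.GeneralLinearGroup.val_det_apply]
      show Matrix.det !![((Matrix.GeneralLinearGroup.det x : Fˣ) : F), 0; 0, ((1 : Fˣ) : F)] = _
      rw [Matrix.det_fin_two_of, Units.val_one]
      ring
    have h1 : Matrix.GeneralLinearGroup.det (x⁻¹ * belG (Matrix.GeneralLinearGroup.det x) 1 0) = 1 := by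
      rw [map_mul, map_inv, h2, inv_mul_cancel]
    have hdet : ((x⁻¹ * belG (Matrix.GeneralLinearGroup.det x) 1 0 : (Matrix.GeneralLinearGroup (Fin 2) F)) : (Matrix (Fin 2) (Fin 2) F)).det = 1 := by
      have h3 := congrArg Units.val h1
      rw [Matrix.GeneralLinearGroup.val_det_apply, Units.val_one] at h3
      exact h3
    exact ⟨⟨_, hdet⟩, Units.ext rfl⟩
  have h1 : Matrix.SpecialLinearGroup.toGL h = x * Matrix.SpecialLinearGroup.toGL (s * g * s⁻¹) * x⁻¹ := by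
    rw [hgh, map_mul, map_mul, map_inv, hs]
    group
  rw [hx (s * g * s⁻¹) h h1, hχ]

/-- Clifford theory for `SL₂ ≤ GL₂`: an irreducible character of `SL₂` is the restriction of an
irreducible character of `GL₂`, or one of two constituents of such a restriction, which are
interchanged by a diagonal matrix. -/
theorem sl2_cliff [Fintype F] [DecidableEq F] (χ : Cfsg.IrrCharacter (Matrix.SpecialLinearGroup (Fin 2) F)) :
    ∃ Θ : Cfsg.IrrCharacter (Matrix.GeneralLinearGroup (Fin 2) F),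
      (∀ g : (Matrix.SpecialLinearGroup (Fin 2) F), (χ : (Matrix.SpecialLinearGroup (Fin 2) F) → ℂ) g = (Θ : (Matrix.GeneralLinearGroup (Fin 2) F) → ℂ) (Matrix.SpecialLinearGroup.toGL g)) ∨
      (Odd (Fintype.card F) ∧ ∃ χ₂ : Cfsg.IrrCharacter (Matrix.SpecialLinearGroup (Fin 2) F), χ₂ ≠ χ ∧
        (∀ g : (Matrix.SpecialLinearGroup (Fin 2) F), (Θ : (Matrix.GeneralLinearGroup (Fin 2) F) → ℂ) (Matrix.SpecialLinearGroup.toGL g) = (χ : (Matrix.SpecialLinearGroup (Fin 2) F) → ℂ) g + (χ₂ : (Matrix.SpecialLinearGroup (Fin 2) F) → ℂ) g) ∧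
        ∃ d : Fˣ,
          (∀ g h : (Matrix.SpecialLinearGroup (Fin 2) F), Matrix.SpecialLinearGroup.toGL h = belG d 1 0 * Matrix.SpecialLinearGroup.toGL g * (belG d 1 0)⁻¹ →
            (χ₂ : (Matrix.SpecialLinearGroup (Fin 2) F) → ℂ) h = (χ : (Matrix.SpecialLinearGroup (Fin 2) F) → ℂ) g) ∧
          (∀ g h : (Matrix.SpecialLinearGroup (Fin 2) F), Matrix.SpecialLinearGroup.toGL h = belG d 1 0 * Matrix.SpecialLinearGroup.toGL g * (belG d 1 0)⁻¹ →
            (χ : (Matrix.SpecialLinearGroup (Fin 2) F) → ℂ) h = (χ₂ : (Matrix.SpecialLinearGroup (Fin 2) F) → ℂ) g)) := by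
  obtain ⟨Θ, hΘ⟩ := exists_gl2_over χ
  refine ⟨Θ, ?_⟩
  have hchar : Cfsg.IsCharacter (Matrix.SpecialLinearGroup (Fin 2) F) (fun g : (Matrix.SpecialLinearGroup (Fin 2) F) => (Θ : (Matrix.GeneralLinearGroup (Fin 2) F) → ℂ) (Matrix.SpecialLinearGroup.toGL g)) :=
    isCharacter_comp_hom Matrix.SpecialLinearGroup.toGL (Helper24.isCharacter_of_isIrrCharacter Θ.2)
  rcases res_norm_cases Θ with h1 | ⟨h2, hodd⟩
  · left
    have hirr := Helper24.isIrrCharacter_of_inner_self hchar h1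
    have he := irr_eq_of_inner_ne_zero ⟨_, hirr⟩ χ hΘ
    intro g
    exact (congrFun (congrArg Subtype.val he) g).symm
  · right
    refine ⟨hodd, ?_⟩
    obtain ⟨χ₁, χ₂, hne, hdec⟩ := S2307.exists_two_irr_of_norm_two hchar h2
    have hc1 : Cfsg.classInner (fun g : (Matrix.SpecialLinearGroup (Fin 2) F) => (Θ : (Matrix.GeneralLinearGroup (Fin 2) F) → ℂ) (Matrix.SpecialLinearGroup.toGL g)) (χ₁ : (Matrix.SpecialLinearGroup (Fin 2) F) → ℂ) ≠ 0 := by
      rw [hdec, Helper24.classInner_add_left, Helper24.irr_inner_self,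
        Helper24.irr_inner_ne hne.symm]
      norm_num
    have hc2 : Cfsg.classInner (fun g : (Matrix.SpecialLinearGroup (Fin 2) F) => (Θ : (Matrix.GeneralLinearGroup (Fin 2) F) → ℂ) (Matrix.SpecialLinearGroup.toGL g)) (χ₂ : (Matrix.SpecialLinearGroup (Fin 2) F) → ℂ) ≠ 0 := by
      rw [hdec, Helper24.classInner_add_left, Helper24.irr_inner_self, Helper24.irr_inner_ne hne]
      norm_num
    have hχ : χ = χ₁ ∨ χ = χ₂ := by
      by_contra hcon
      rw [not_or] at hcon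
      apply hΘ
      rw [hdec, Helper24.classInner_add_left, Helper24.irr_inner_ne (Ne.symm hcon.1),
        Helper24.irr_inner_ne (Ne.symm hcon.2), add_zero]
    obtain ⟨χ', hne', hdec', hc, hc'⟩ : ∃ χ' : Cfsg.IrrCharacter (Matrix.SpecialLinearGroup (Fin 2) F), χ' ≠ χ ∧
        (fun g : (Matrix.SpecialLinearGroup (Fin 2) F) => (Θ : (Matrix.GeneralLinearGroup (Fin 2) F) → ℂ) (Matrix.SpecialLinearGroup.toGL g)) = (χ : (Matrix.SpecialLinearGroup (Fin 2) F) → ℂ) + (χ' : (Matrix.SpecialLinearGroup (Fin 2) F) → ℂ) ∧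
        Cfsg.classInner (fun g : (Matrix.SpecialLinearGroup (Fin 2) F) => (Θ : (Matrix.GeneralLinearGroup (Fin 2) F) → ℂ) (Matrix.SpecialLinearGroup.toGL g)) (χ : (Matrix.SpecialLinearGroup (Fin 2) F) → ℂ) ≠ 0 ∧
        Cfsg.classInner (fun g : (Matrix.SpecialLinearGroup (Fin 2) F) => (Θ : (Matrix.GeneralLinearGroup (Fin 2) F) → ℂ) (Matrix.SpecialLinearGroup.toGL g)) (χ' : (Matrix.SpecialLinearGroup (Fin 2) F) → ℂ) ≠ 0 := by
      rcases hχ with h | h
      · refine ⟨χ₂, ?_, ?_, hΘ, hc2⟩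
        · rw [h]
          exact hne.symm
        · rw [h]
          exact hdec
      · refine ⟨χ₁, ?_, ?_, hΘ, hc1⟩
        · rw [h]
          exact hne
        · rw [h, add_comm]
          exact hdec
    have hinv : ∀ (D : (Matrix.GeneralLinearGroup (Fin 2) F)) (g h : (Matrix.SpecialLinearGroup (Fin 2) F)), Matrix.SpecialLinearGroup.toGL h = D * Matrix.SpecialLinearGroup.toGL g * D⁻¹ →
        (χ : (Matrix.SpecialLinearGroup (Fin 2) F) → ℂ) h + (χ' : (Matrix.SpecialLinearGroup (Fin 2) F) → ℂ) h = (χ : (Matrix.SpecialLinearGroup (Fin 2) F) → ℂ) g + (χ' : (Matrix.SpecialLinearGroup (Fin 2) F) → ℂ) g := by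
      intro D g h hgh
      have e1 : (Θ : (Matrix.GeneralLinearGroup (Fin 2) F) → ℂ) (Matrix.SpecialLinearGroup.toGL h) = (χ : (Matrix.SpecialLinearGroup (Fin 2) F) → ℂ) h + (χ' : (Matrix.SpecialLinearGroup (Fin 2) F) → ℂ) h := congrFun hdec' h
      have e2 : (Θ : (Matrix.GeneralLinearGroup (Fin 2) F) → ℂ) (Matrix.SpecialLinearGroup.toGL g) = (χ : (Matrix.SpecialLinearGroup (Fin 2) F) → ℂ) g + (χ' : (Matrix.SpecialLinearGroup (Fin 2) F) → ℂ) g := congrFun hdec' g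
      rw [← e1, ← e2, hgh]
      exact Helper24.irr_conj Θ _ D
    obtain ⟨x, hx⟩ := S2307.conj_of_constituents (Θ : (Matrix.GeneralLinearGroup (Fin 2) F) → ℂ) Θ.2 χ χ' hc hc'
    obtain ⟨d, hd⟩ := conj_diag_of_conj (χ : (Matrix.SpecialLinearGroup (Fin 2) F) → ℂ) (χ' : (Matrix.SpecialLinearGroup (Fin 2) F) → ℂ)
      (fun s g => Helper24.irr_conj χ g s) x hx
    refine ⟨χ', hne', fun g => congrFun hdec' g, d, hd, ?_⟩
    intro g h hgh
    have h1 := hinv _ g h hgh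
    have h2 := hd g h hgh
    linear_combination h1 - h2

theorem twist_bel (χ χ₂ : (Matrix.SpecialLinearGroup (Fin 2) F) → ℂ) (d : Fˣ)
    (hd : ∀ g h : (Matrix.SpecialLinearGroup (Fin 2) F), Matrix.SpecialLinearGroup.toGL h = belG d 1 0 * Matrix.SpecialLinearGroup.toGL g * (belG d 1 0)⁻¹ → χ₂ h = χ g)
    (a : Fˣ) (c : F) : χ₂ (bel a ((d : F) * c)) = χ (bel a c) :=
  hd _ _ (toGL_bel_twist a d c)

theorem twist_sum [Fintype F] (χ χ₂ : (Matrix.SpecialLinearGroup (Fin 2) F) → ℂ) (d : Fˣ)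
    (hd : ∀ g h : (Matrix.SpecialLinearGroup (Fin 2) F), Matrix.SpecialLinearGroup.toGL h = belG d 1 0 * Matrix.SpecialLinearGroup.toGL g * (belG d 1 0)⁻¹ → χ₂ h = χ g)
    (a : Fˣ) : (∑ c : F, χ₂ (bel a c)) = ∑ c : F, χ (bel a c) := by
  symm
  refine Fintype.sum_equiv (Equiv.mulLeft₀ (d : F) d.ne_zero) _ _ (fun c => ?_)
  show χ (bel a c) = χ₂ (bel a ((d : F) * c))
  exact (twist_bel χ χ₂ d hd a c).symm

end sl2cliff

end Cfsg.Agent.Helper12
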