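import Mathlib
import Cfsg.Agent.Helper12.SL2Cliff

set_option autoImplicit false
open Cfsg

namespace Cfsg.Agent.Helper12

open Cfsg.Agent.S2305 (th)
open Cfsg.Agent.S2308 (belG)

section count1

theorem card_two_fibers {X Y : Type*} [Fintype X] [Fintype Y] (f : X → Y)
    (hsurj : Function.Surjective f) (inv : X → X) (hinv : ∀ x, inv x ≠ x)
    (hfib : ∀ x x', f x = f x' ↔ (x' = x ∨ x' = inv x)) :
    Fintype.card X = 2 * Fintype.card Y := by
  classical
  have h := Finset.card_eq_sum_card_fiberwise (f := f) (s := Finset.univ) (t := Finset.univ)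
    (by intro x _; simp)
  rw [Finset.card_univ] at h
  rw [h]
  have h2 : ∀ y ∈ (Finset.univ : Finset Y), (Finset.univ.filter (fun a => f a = y)).card = 2 := by
    intro y _
    obtain ⟨x, rfl⟩ := hsurj y
    have e : Finset.univ.filter (fun a => f a = f x) = {x, inv x} := by
      ext a
      rw [Finset.mem_filter, Finset.mem_insert, Finset.mem_singleton]
      exact ⟨fun h => (hfib x a).mp h.2.symm, fun h => ⟨Finset.mem_univ _, ((hfib x a).mpr h).symm⟩⟩
    rw [e, Finset.card_pair (hinv x).symm]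
  exact (Finset.sum_congr rfl h2).trans
    (by rw [Finset.sum_const, Finset.card_univ, smul_eq_mul, mul_comm])

end count1

section count2

variable {F : Type*} [Field F] [Fintype F]

theorem mulChar_card_nat : Nat.card (MulChar F ℂ) = Fintype.card F - 1 := by
  classical
  have : NeZero (Monoid.exponent Fˣ) := ⟨Monoid.exponent_ne_zero_of_finite⟩
  rw [MulChar.card_eq_card_units_of_hasEnoughRootsOfUnity F ℂ, Nat.card_eq_fintype_card,
    Fintype.card_units]

theorem exists_mulChar_invol (hodd : Odd (Fintype.card F)) :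
    ∃ η : MulChar F ℂ, η ≠ 1 ∧ η * η = 1 := by
  have hdvd : 2 ∣ Nat.card (MulChar F ℂ) := by
    rw [mulChar_card_nat]
    obtain ⟨k, hk⟩ := hodd
    exact ⟨k, by omega⟩
  obtain ⟨η, hη⟩ := exists_prime_orderOf_dvd_card' 2 hdvd
  refine ⟨η, ?_, ?_⟩
  · rintro rfl
    rw [orderOf_one] at hη
    norm_num at hη
  · have h := pow_orderOf_eq_one η
    rw [hη, sq] at h
    exact h

theorem card_invol_add :
    Nat.card {γ : MulChar F ℂ // γ = γ⁻¹} + Nat.card {γ : MulChar F ℂ // γ ≠ γ⁻¹} =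
      Nat.card (MulChar F ℂ) := by
  classical
  rw [← Nat.card_sum]
  exact Nat.card_congr (Equiv.sumCompl (fun γ : MulChar F ℂ => γ = γ⁻¹))

theorem card_noninvol_even (heven : Even (Fintype.card F)) :
    Nat.card {γ : MulChar F ℂ // γ ≠ γ⁻¹} = Fintype.card F - 2 := by
  have h1 : Nat.card {γ : MulChar F ℂ // γ = γ⁻¹} = 1 := by
    rw [Nat.card_eq_one_iff_unique]
    have hall : ∀ γ : MulChar F ℂ, γ = γ⁻¹ → γ = 1 := by
      intro γ hγ
      by_contra hne
      have hodd := odd_card_of_mulChar_invol γ (mul_eq_one_iff_eq_inv.mpr hγ) hne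
      exact (Nat.not_even_iff_odd.mpr hodd) heven
    exact ⟨⟨fun a b => Subtype.ext ((hall a.1 a.2).trans (hall b.1 b.2).symm)⟩,
      ⟨⟨1, inv_one.symm⟩⟩⟩
  have h2 := card_invol_add (F := F)
  rw [h1, mulChar_card_nat] at h2
  omega

theorem card_noninvol_odd (hodd : Odd (Fintype.card F)) :
    Nat.card {γ : MulChar F ℂ // γ ≠ γ⁻¹} = Fintype.card F - 3 := by
  have h1 : Nat.card {γ : MulChar F ℂ // γ = γ⁻¹} = 2 := by
    rw [Nat.card_eq_two_iff]
    obtain ⟨η, hη1, hη⟩ := exists_mulChar_invol hodd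
    refine ⟨⟨1, inv_one.symm⟩, ⟨η, mul_eq_one_iff_eq_inv.mp hη⟩, ?_, ?_⟩
    · intro h
      exact hη1 (congrArg Subtype.val h).symm
    · ext a
      simp only [Set.mem_insert_iff, Set.mem_singleton_iff, Set.mem_univ, iff_true]
      by_cases ha : a.1 = 1
      · left
        exact Subtype.ext ha
      · right
        exact Subtype.ext (mulChar_invol_unique a.1 η (mul_eq_one_iff_eq_inv.mpr a.2) hη ha hη1)
  have h2 := card_invol_add (F := F)
  rw [h1, mulChar_card_nat] at h2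
  omega

end count2

section count3

variable {F : Type*} [Field F]

theorem RG_twist [Fintype F] [DecidableEq F] (α β γ : MulChar F ℂ) (g : (Matrix.GeneralLinearGroup (Fin 2) F)) :
    RG (α * γ) (β * γ) g = detChar γ g * RG α β g := by
  show Cfsg.indFun (Cfsg.upperTriangularGL 2 F) (th (α * γ) (β * γ)) g = detChar γ g * Cfsg.indFun (Cfsg.upperTriangularGL 2 F) (th α β) g
  rw [indFun_def, indFun_def]
  conv_rhs => rw [mul_left_comm, Finset.mul_sum]
  congr 1
  refine Finset.sum_congr rfl (fun x _ => ?_)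
  by_cases hx : ((x⁻¹ * g * x : (Matrix.GeneralLinearGroup (Fin 2) F)) : (Matrix (Fin 2) (Fin 2) F)) 1 0 = 0
  · rw [S2305.ext_th_mem (α * γ) (β * γ) _ hx, S2305.ext_th_mem α β _ hx]
    have hdet := det_conj12 x g
    have hd2 : ((x⁻¹ * g * x : (Matrix.GeneralLinearGroup (Fin 2) F)) : (Matrix (Fin 2) (Fin 2) F)).det =
        ((x⁻¹ * g * x : (Matrix.GeneralLinearGroup (Fin 2) F)) : (Matrix (Fin 2) (Fin 2) F)) 0 0 * ((x⁻¹ * g * x : (Matrix.GeneralLinearGroup (Fin 2) F)) : (Matrix (Fin 2) (Fin 2) F)) 1 1 := by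
      rw [Matrix.det_fin_two, hx, mul_zero, sub_zero]
    rw [MulChar.mul_apply, MulChar.mul_apply]
    show _ = γ ((g : (Matrix (Fin 2) (Fin 2) F)).det) * _
    rw [← hdet, hd2, map_mul]
    ring
  · rw [S2305.ext_th_not_mem (α * γ) (β * γ) _ hx, S2305.ext_th_not_mem α β _ hx, mul_zero]

theorem res_RG [Fintype F] [DecidableEq F] (α β : MulChar F ℂ) (g : (Matrix.SpecialLinearGroup (Fin 2) F)) :
    RG α β (Matrix.SpecialLinearGroup.toGL g) = Cfsg.indFun ((Cfsg.upperTriangularGL 2 F).comap Matrix.SpecialLinearGroup.toGL) (thS (α * β⁻¹)) g := by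
  have h := RG_twist (α * β⁻¹) 1 β (Matrix.SpecialLinearGroup.toGL g)
  rw [inv_mul_cancel_right, one_mul] at h
  rw [h, detChar_toGL, one_mul]
  exact S2307.resGL (α * β⁻¹) g

theorem RS_isChar [Fintype F] [DecidableEq F] (γ : MulChar F ℂ) :
    Cfsg.IsCharacter (Matrix.SpecialLinearGroup (Fin 2) F) (Cfsg.indFun ((Cfsg.upperTriangularGL 2 F).comap Matrix.SpecialLinearGroup.toGL) (thS γ)) :=
  Helper24.isCharacter_induced _ _ (thS_isCharacter γ)

theorem RS_irr [Fintype F] [DecidableEq F] (γ : MulChar F ℂ) (h : γ ≠ γ⁻¹) :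
    Cfsg.IsIrrCharacter (Matrix.SpecialLinearGroup (Fin 2) F) (Cfsg.indFun ((Cfsg.upperTriangularGL 2 F).comap Matrix.SpecialLinearGroup.toGL) (thS γ)) := by
  classical
  have h1 := classInner_RS γ γ
  rw [if_pos rfl, if_neg h, add_zero] at h1
  exact Helper24.isIrrCharacter_of_inner_self (RS_isChar γ) h1

theorem RS_one [Fintype F] [DecidableEq F] (γ : MulChar F ℂ) :
    Cfsg.indFun ((Cfsg.upperTriangularGL 2 F).comap Matrix.SpecialLinearGroup.toGL) (thS γ) 1 = (Fintype.card F : ℂ) + 1 := by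
  have h01 : ((1 : (Matrix.SpecialLinearGroup (Fin 2) F)) : (Matrix (Fin 2) (Fin 2) F)) 0 1 = 0 := by
    show (1 : (Matrix (Fin 2) (Fin 2) F)) 0 1 = 0
    exact Matrix.one_apply_ne (by decide)
  have h10 : ((1 : (Matrix.SpecialLinearGroup (Fin 2) F)) : (Matrix (Fin 2) (Fin 2) F)) 1 0 = 0 := by
    show (1 : (Matrix (Fin 2) (Fin 2) F)) 1 0 = 0
    exact Matrix.one_apply_ne (by decide)
  have h00 : ((1 : (Matrix.SpecialLinearGroup (Fin 2) F)) : (Matrix (Fin 2) (Fin 2) F)) 0 0 = 1 := by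
    show (1 : (Matrix (Fin 2) (Fin 2) F)) 0 0 = 1
    exact Matrix.one_apply_eq 0
  have h11 : ((1 : (Matrix.SpecialLinearGroup (Fin 2) F)) : (Matrix (Fin 2) (Fin 2) F)) 1 1 = 1 := by
    show (1 : (Matrix (Fin 2) (Fin 2) F)) 1 1 = 1
    exact Matrix.one_apply_eq 1
  rw [indFunS_central γ 1 h01 h10 (h00.trans h11.symm), h00, map_one, mul_one]

theorem RS_unip [Fintype F] [DecidableEq F] (γ : MulChar F ℂ) :
    Cfsg.indFun ((Cfsg.upperTriangularGL 2 F).comap Matrix.SpecialLinearGroup.toGL) (thS γ) (bel 1 1) = 1 := by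
  have heq : ((bel (1 : Fˣ) 1 : (Matrix.SpecialLinearGroup (Fin 2) F)) : (Matrix (Fin 2) (Fin 2) F)) 0 0 = ((bel (1 : Fˣ) 1 : (Matrix.SpecialLinearGroup (Fin 2) F)) : (Matrix (Fin 2) (Fin 2) F)) 1 1 := by
    show ((1 : Fˣ) : F) = (((1 : Fˣ)⁻¹ : Fˣ) : F)
    rw [inv_one]
  have h := indFunS_unip γ (bel (1 : Fˣ) 1) rfl heq one_ne_zero
  rw [h]
  show γ ((1 : Fˣ) : F) = 1
  rw [Units.val_one, map_one]

theorem RS_inj [Fintype F] [DecidableEq F] (γ γ' : MulChar F ℂ)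
    (h : Cfsg.indFun ((Cfsg.upperTriangularGL 2 F).comap Matrix.SpecialLinearGroup.toGL) (thS γ) = Cfsg.indFun ((Cfsg.upperTriangularGL 2 F).comap Matrix.SpecialLinearGroup.toGL) (thS γ')) : γ = γ' ∨ γ = γ'⁻¹ := by
  classical
  by_contra hcon
  rw [not_or] at hcon
  have h1 := classInner_RS γ γ'
  rw [if_neg hcon.1, if_neg hcon.2, add_zero, ← h] at h1
  have h2 := classInner_RS γ γ
  rw [h1, if_pos rfl] at h2
  split_ifs at h2 <;> norm_num at h2

theorem RS_inv [Fintype F] [DecidableEq F] (γ : MulChar F ℂ) (h : γ ≠ γ⁻¹) :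
    Cfsg.indFun ((Cfsg.upperTriangularGL 2 F).comap Matrix.SpecialLinearGroup.toGL) (thS γ⁻¹) = Cfsg.indFun ((Cfsg.upperTriangularGL 2 F).comap Matrix.SpecialLinearGroup.toGL) (thS γ) := by
  classical
  have h' : γ⁻¹ ≠ γ⁻¹⁻¹ := by
    rw [inv_inv]
    exact h.symm
  have h1 := classInner_RS γ⁻¹ γ
  rw [if_neg h.symm, if_pos rfl, zero_add] at h1
  have h3 : Cfsg.classInner (Cfsg.indFun ((Cfsg.upperTriangularGL 2 F).comap Matrix.SpecialLinearGroup.toGL) (thS γ⁻¹)) (Cfsg.indFun ((Cfsg.upperTriangularGL 2 F).comap Matrix.SpecialLinearGroup.toGL) (thS γ)) ≠ 0 := by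
    rw [h1]
    exact one_ne_zero
  have h2 := irr_eq_of_inner_ne_zero ⟨_, RS_irr γ⁻¹ h'⟩ ⟨_, RS_irr γ h⟩ h3
  exact congrArg Subtype.val h2

/-- Types of irreducible characters of `SL₂(F)` by degree. -/
theorem sl2_types [Fintype F] [DecidableEq F] (χ : Cfsg.IrrCharacter (Matrix.SpecialLinearGroup (Fin 2) F)) (m n : ℕ)
    (hm : Fintype.card F = m + 1) (hn : (χ : (Matrix.SpecialLinearGroup (Fin 2) F) → ℂ) 1 = (n : ℂ)) :
    (n = m ∨ (2 * n = m ∧ Odd (Fintype.card F))) ∨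
    (n = m + 2 ∧ ∃ γ : MulChar F ℂ, γ ≠ γ⁻¹ ∧ (χ : (Matrix.SpecialLinearGroup (Fin 2) F) → ℂ) = Cfsg.indFun ((Cfsg.upperTriangularGL 2 F).comap Matrix.SpecialLinearGroup.toGL) (thS γ)) ∨
    (n = 1 ∧ (χ : (Matrix.SpecialLinearGroup (Fin 2) F) → ℂ) = fun _ => (1 : ℂ)) ∨
    (n = m + 1 ∧ ∀ g : (Matrix.SpecialLinearGroup (Fin 2) F), (χ : (Matrix.SpecialLinearGroup (Fin 2) F) → ℂ) g =
        Cfsg.indFun (Cfsg.upperTriangularGL 2 F) (fun _ => (1 : ℂ)) (Matrix.SpecialLinearGroup.toGL g) - 1) ∨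
    (2 * n = m + 2 ∧ Odd (Fintype.card F) ∧ ∃ η : MulChar F ℂ, η ≠ 1 ∧ η * η = 1 ∧
        ∃ χ₂ : Cfsg.IrrCharacter (Matrix.SpecialLinearGroup (Fin 2) F), χ₂ ≠ χ ∧
          Cfsg.indFun ((Cfsg.upperTriangularGL 2 F).comap Matrix.SpecialLinearGroup.toGL) (thS η) = (χ : (Matrix.SpecialLinearGroup (Fin 2) F) → ℂ) + (χ₂ : (Matrix.SpecialLinearGroup (Fin 2) F) → ℂ)) := by
  classical
  obtain ⟨Θ, hcl⟩ := sl2_cliff χ
  obtain ⟨k, hk⟩ := Helper24.irr_one_eq_natCast Θ
  have htype := gl2_type_nat (Θ : (Matrix.GeneralLinearGroup (Fin 2) F) → ℂ) Θ.2 m hm k hk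
  rcases hcl with hres | ⟨hodd, χ₂, hne, hdec, d, hd, hd'⟩
  · have hnk : n = k := by
      have e : (n : ℂ) = (k : ℂ) := by
        rw [← hn, ← hk, hres 1, map_one]
      exact_mod_cast e
    rcases htype with ⟨t1, -⟩ | ⟨t1, -, -, α, β, hαβ, hΘ⟩ | ⟨t1, α, hα⟩ | ⟨t1, α, hα⟩
    · left
      left
      omega
    · right
      left
      have hχR : (χ : (Matrix.SpecialLinearGroup (Fin 2) F) → ℂ) = Cfsg.indFun ((Cfsg.upperTriangularGL 2 F).comap Matrix.SpecialLinearGroup.toGL) (thS (α * β⁻¹)) := by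
        funext g
        rw [hres g, hΘ]
        exact res_RG α β g
      refine ⟨by omega, α * β⁻¹, ?_, hχR⟩
      intro hinv
      have h1 := classInner_RS (α * β⁻¹) (α * β⁻¹)
      rw [← hχR, Helper24.irr_inner_self, if_pos rfl, if_pos hinv] at h1
      norm_num at h1
    · right
      right
      left
      refine ⟨by omega, ?_⟩
      funext g
      show (χ : (Matrix.SpecialLinearGroup (Fin 2) F) → ℂ) g = 1
      rw [hres g, hα, detChar_toGL]
    · right
      right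
      right
      left
      refine ⟨by omega, fun g => ?_⟩
      rw [hres g, hα (Matrix.SpecialLinearGroup.toGL g), detChar_toGL, one_mul]
  · have h21 : (χ₂ : (Matrix.SpecialLinearGroup (Fin 2) F) → ℂ) 1 = (χ : (Matrix.SpecialLinearGroup (Fin 2) F) → ℂ) 1 :=
      hd 1 1 (by rw [map_one, mul_one, mul_inv_cancel])
    have hk2 : k = 2 * n := by
      have e : (k : ℂ) = 2 * (n : ℂ) := by
        rw [← hk, ← hn]
        have h3 := hdec 1
        rw [map_one, h21] at h3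
        rw [h3]
        ring
      exact_mod_cast e
    obtain ⟨j, hj⟩ := hodd
    have hodd' : Odd (Fintype.card F) := ⟨j, hj⟩
    rcases htype with ⟨t1, -⟩ | ⟨t1, -, -, α, β, hαβ, hΘ⟩ | ⟨t1, -⟩ | ⟨t1, -⟩
    · left
      right
      exact ⟨by omega, hodd'⟩
    · right
      right
      right
      right
      have hR : Cfsg.indFun ((Cfsg.upperTriangularGL 2 F).comap Matrix.SpecialLinearGroup.toGL) (thS (α * β⁻¹)) = (χ : (Matrix.SpecialLinearGroup (Fin 2) F) → ℂ) + (χ₂ : (Matrix.SpecialLinearGroup (Fin 2) F) → ℂ) := by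
        funext g
        rw [← res_RG α β g, ← hΘ]
        exact hdec g
      have hγ1 : α * β⁻¹ ≠ 1 := fun h => hαβ (mul_inv_eq_one.mp h)
      have hinv : α * β⁻¹ = (α * β⁻¹)⁻¹ := by
        by_contra hne'
        have hirr := RS_irr (α * β⁻¹) hne'
        have hc : Cfsg.classInner (Cfsg.indFun ((Cfsg.upperTriangularGL 2 F).comap Matrix.SpecialLinearGroup.toGL) (thS (α * β⁻¹))) (χ : (Matrix.SpecialLinearGroup (Fin 2) F) → ℂ) ≠ 0 := by
          rw [hR, Helper24.classInner_add_left, Helper24.irr_inner_self, Helper24.irr_inner_ne hne]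
          norm_num
        have he := irr_eq_of_inner_ne_zero ⟨_, hirr⟩ χ hc
        have he' : Cfsg.indFun ((Cfsg.upperTriangularGL 2 F).comap Matrix.SpecialLinearGroup.toGL) (thS (α * β⁻¹)) = (χ : (Matrix.SpecialLinearGroup (Fin 2) F) → ℂ) := congrArg Subtype.val he
        rw [he'] at hR
        have h0 : (χ₂ : (Matrix.SpecialLinearGroup (Fin 2) F) → ℂ) 1 = 0 := by
          have h' : (χ : (Matrix.SpecialLinearGroup (Fin 2) F) → ℂ) 1 = (χ : (Matrix.SpecialLinearGroup (Fin 2) F) → ℂ) 1 + (χ₂ : (Matrix.SpecialLinearGroup (Fin 2) F) → ℂ) 1 := congrFun hR 1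
          linear_combination (-1 : ℂ) * h'
        exact Helper5.irr_one_ne_zero χ₂ h0
      exact ⟨by omega, hodd', α * β⁻¹, hγ1, mul_eq_one_iff_eq_inv.mpr hinv, χ₂, hne, hR⟩
    · exfalso
      omega
    · exfalso
      omega

theorem exists_sl2_St [Fintype F] [DecidableEq F] :
    ∃ χ : Cfsg.IrrCharacter (Matrix.SpecialLinearGroup (Fin 2) F), ∀ g : (Matrix.SpecialLinearGroup (Fin 2) F), (χ : (Matrix.SpecialLinearGroup (Fin 2) F) → ℂ) g =
      Cfsg.indFun (Cfsg.upperTriangularGL 2 F) (fun _ => (1 : ℂ)) (Matrix.SpecialLinearGroup.toGL g) - 1 := by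
  obtain ⟨St, hSt⟩ := exists_St (F := F)
  have hchar : Cfsg.IsCharacter (Matrix.SpecialLinearGroup (Fin 2) F) (fun g : (Matrix.SpecialLinearGroup (Fin 2) F) => (St : (Matrix.GeneralLinearGroup (Fin 2) F) → ℂ) (Matrix.SpecialLinearGroup.toGL g)) :=
    isCharacter_comp_hom Matrix.SpecialLinearGroup.toGL (Helper24.isCharacter_of_isIrrCharacter St.2)
  have hval : ∀ g : (Matrix.SpecialLinearGroup (Fin 2) F), (St : (Matrix.GeneralLinearGroup (Fin 2) F) → ℂ) (Matrix.SpecialLinearGroup.toGL g) =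
      Cfsg.indFun (Cfsg.upperTriangularGL 2 F) (fun _ => (1 : ℂ)) (Matrix.SpecialLinearGroup.toGL g) - 1 := fun g => St_val St hSt (Matrix.SpecialLinearGroup.toGL g)
  rcases res_norm_cases St with h1 | ⟨h2, hodd⟩
  · exact ⟨⟨_, Helper24.isIrrCharacter_of_inner_self hchar h1⟩, hval⟩
  · exfalso
    obtain ⟨χ₁, χ₂, hne, hdec⟩ := S2307.exists_two_irr_of_norm_two hchar h2
    have hc1 : Cfsg.classInner (fun g : (Matrix.SpecialLinearGroup (Fin 2) F) => (St : (Matrix.GeneralLinearGroup (Fin 2) F) → ℂ) (Matrix.SpecialLinearGroup.toGL g)) (χ₁ : (Matrix.SpecialLinearGroup (Fin 2) F) → ℂ) ≠ 0 := by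
      rw [hdec, Helper24.classInner_add_left, Helper24.irr_inner_self,
        Helper24.irr_inner_ne hne.symm]
      norm_num
    have hc2 : Cfsg.classInner (fun g : (Matrix.SpecialLinearGroup (Fin 2) F) => (St : (Matrix.GeneralLinearGroup (Fin 2) F) → ℂ) (Matrix.SpecialLinearGroup.toGL g)) (χ₂ : (Matrix.SpecialLinearGroup (Fin 2) F) → ℂ) ≠ 0 := by
      rw [hdec, Helper24.classInner_add_left, Helper24.irr_inner_self, Helper24.irr_inner_ne hne]
      norm_num
    obtain ⟨x, hx⟩ := S2307.conj_of_constituents (St : (Matrix.GeneralLinearGroup (Fin 2) F) → ℂ) St.2 χ₁ χ₂ hc1 hc2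
    have h21 : (χ₂ : (Matrix.SpecialLinearGroup (Fin 2) F) → ℂ) 1 = (χ₁ : (Matrix.SpecialLinearGroup (Fin 2) F) → ℂ) 1 :=
      hx 1 1 (by rw [map_one, mul_one, mul_inv_cancel])
    obtain ⟨n₁, hn₁⟩ := Helper24.irr_one_eq_natCast χ₁
    have hone : ((1 : (Matrix.GeneralLinearGroup (Fin 2) F)) : (Matrix (Fin 2) (Fin 2) F)) = (1 : F) • (1 : (Matrix (Fin 2) (Fin 2) F)) := (one_smul _ _).symm
    have h3 : (Fintype.card F : ℂ) = 2 * (n₁ : ℂ) := by
      have e' : (St : (Matrix.GeneralLinearGroup (Fin 2) F) → ℂ) (Matrix.SpecialLinearGroup.toGL (1 : (Matrix.SpecialLinearGroup (Fin 2) F))) = (χ₁ : (Matrix.SpecialLinearGroup (Fin 2) F) → ℂ) 1 + (χ₂ : (Matrix.SpecialLinearGroup (Fin 2) F) → ℂ) 1 :=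
        congrFun hdec 1
      rw [hval 1, map_one, S2308.indFun1_scalar 1 1 hone, h21, hn₁] at e'
      linear_combination e'
    have h4 : Fintype.card F = 2 * n₁ := by exact_mod_cast h3
    obtain ⟨j, hj⟩ := hodd
    omega

theorem sl2_count_ps [Fintype F] [DecidableEq F] (P : Cfsg.IrrCharacter (Matrix.SpecialLinearGroup (Fin 2) F) → Prop)
    (hP : ∀ χ : Cfsg.IrrCharacter (Matrix.SpecialLinearGroup (Fin 2) F), P χ ↔
      ∃ γ : MulChar F ℂ, γ ≠ γ⁻¹ ∧ (χ : (Matrix.SpecialLinearGroup (Fin 2) F) → ℂ) = Cfsg.indFun ((Cfsg.upperTriangularGL 2 F).comap Matrix.SpecialLinearGroup.toGL) (thS γ)) :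
    2 * Nat.card {χ : Cfsg.IrrCharacter (Matrix.SpecialLinearGroup (Fin 2) F) // P χ} = Nat.card {γ : MulChar F ℂ // γ ≠ γ⁻¹} := by
  classical
  have : Fintype (MulChar F ℂ) := Fintype.ofFinite _
  have : Fintype {χ : Cfsg.IrrCharacter (Matrix.SpecialLinearGroup (Fin 2) F) // P χ} := Fintype.ofFinite _
  rw [Nat.card_eq_fintype_card, Nat.card_eq_fintype_card]
  symm
  refine card_two_fibers (fun γ : {γ : MulChar F ℂ // γ ≠ γ⁻¹} =>
      (⟨⟨_, RS_irr γ.1 γ.2⟩, (hP _).mpr ⟨γ.1, γ.2, rfl⟩⟩ : {χ : Cfsg.IrrCharacter (Matrix.SpecialLinearGroup (Fin 2) F) // P χ}))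
    ?_ (fun γ => ⟨γ.1⁻¹, by rw [inv_inv]; exact γ.2.symm⟩) ?_ ?_
  · rintro ⟨χ, hχ⟩
    obtain ⟨γ, hγ, hχγ⟩ := (hP χ).mp hχ
    exact ⟨⟨γ, hγ⟩, Subtype.ext (Subtype.ext hχγ.symm)⟩
  · intro γ h
    exact γ.2 (congrArg Subtype.val h).symm
  · intro γ γ'
    constructor
    · intro h
      have h1 : Cfsg.indFun ((Cfsg.upperTriangularGL 2 F).comap Matrix.SpecialLinearGroup.toGL) (thS γ.1) = Cfsg.indFun ((Cfsg.upperTriangularGL 2 F).comap Matrix.SpecialLinearGroup.toGL) (thS γ'.1) :=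
        congrArg (fun x : {χ : Cfsg.IrrCharacter (Matrix.SpecialLinearGroup (Fin 2) F) // P χ} =>
          ((x : Cfsg.IrrCharacter (Matrix.SpecialLinearGroup (Fin 2) F)) : (Matrix.SpecialLinearGroup (Fin 2) F) → ℂ)) h
      rcases RS_inj γ.1 γ'.1 h1 with h2 | h2
      · left
        exact Subtype.ext h2.symm
      · right
        apply Subtype.ext
        show γ'.1 = γ.1⁻¹
        rw [h2, inv_inv]
    · rintro (h | h)
      · rw [h]
      · rw [h]
        apply Subtype.ext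
        apply Subtype.ext
        show Cfsg.indFun ((Cfsg.upperTriangularGL 2 F).comap Matrix.SpecialLinearGroup.toGL) (thS γ.1) = Cfsg.indFun ((Cfsg.upperTriangularGL 2 F).comap Matrix.SpecialLinearGroup.toGL) (thS γ.1⁻¹)
        exact (RS_inv γ.1 γ.2).symm

end count3

end Cfsg.Agent.Helper12
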