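import Mathlib
import Cfsg.Agent.Helper18.SpQc

set_option autoImplicit false

namespace Cfsg.Agent.Helper12.SpAlt

open Matrix

/-- An alternating matrix of odd size has determinant zero (any characteristic). -/
theorem det_alt_odd {F : Type*} [Field F] {m : ℕ} (hm : Odd m)
    (G : Matrix (Fin m) (Fin m) F) (hs : ∀ i j, G i j = - G j i) (hz : ∀ i, G i i = 0) :
    G.det = 0 := by
  by_cases hch : (2 : F) = 0
  · have hneg : ∀ a : F, -a = a := by
      intro a
      have h : a + a = 0 := by rw [← two_mul, hch, zero_mul]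
      linear_combination (-1 : F) * h
    exact Cfsg.Agent.Helper18.SpQc.det_symm_zero_diag hch hm G
      (fun i j => by rw [hs i j, hneg]) hz
  · have hT : Gᵀ = -G := by
      ext i j
      rw [Matrix.transpose_apply, Matrix.neg_apply, hs j i]
    have h2 : Gᵀ.det = (-G).det := by rw [hT]
    rw [Matrix.det_transpose, Matrix.det_neg, Fintype.card_fin, hm.neg_one_pow] at h2
    have h3 : (2 : F) * G.det = 0 := by linear_combination h2
    rcases mul_eq_zero.mp h3 with h | h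
    · exact absurd h hch
    · exact h

/-- The rank of an alternating matrix `Mᵀ - M` is even. -/
theorem alt_rank_even {F : Type*} [Field F] {ι : Type*} [Fintype ι] [DecidableEq ι]
    (M : Matrix ι ι F) : Even (Mᵀ - M).rank := by
  classical
  obtain ⟨G, hG⟩ : ∃ G : Matrix ι ι F, G = Mᵀ - M := ⟨_, rfl⟩
  rw [← hG]
  by_contra hodd
  rw [Nat.not_even_iff_odd] at hodd
  have hb : ∀ x : ι → F, x ⬝ᵥ (G *ᵥ x) = 0 := by
    intro x
    rw [hG, Matrix.sub_mulVec, dotProduct_sub, sub_eq_zero, Matrix.mulVec_transpose,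
      Matrix.dotProduct_mulVec]
    exact dotProduct_comm _ _
  have hc : ∀ x y : ι → F, x ⬝ᵥ (G *ᵥ y) = - (y ⬝ᵥ (G *ᵥ x)) := by
    intro x y
    have h := hb (x + y)
    rw [Matrix.mulVec_add, add_dotProduct, dotProduct_add, dotProduct_add, hb x, hb y] at h
    linear_combination h
  obtain ⟨ρ, hρ⟩ : ∃ ρ : ℕ, ρ = G.rank := ⟨_, rfl⟩
  rw [← hρ] at hodd
  have hrk : Module.finrank F (LinearMap.range G.mulVecLin) = ρ := by rw [hρ]; rfl
  let b : Module.Basis (Fin ρ) F (LinearMap.range G.mulVecLin) :=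
    Module.finBasisOfFinrankEq F _ hrk
  have hu : ∀ j, ∃ u : ι → F, G *ᵥ u = (b j : ι → F) := by
    intro j
    obtain ⟨u, hu⟩ := (b j).2
    exact ⟨u, hu⟩
  choose u hu using hu
  obtain ⟨Γ, hΓ⟩ : ∃ Γ : Matrix (Fin ρ) (Fin ρ) F, ∀ i j, Γ i j = u i ⬝ᵥ (G *ᵥ u j) :=
    ⟨fun i j => u i ⬝ᵥ (G *ᵥ u j), fun _ _ => rfl⟩
  have hΓs : ∀ i j, Γ i j = - Γ j i := fun i j => by rw [hΓ, hΓ]; exact hc _ _
  have hΓz : ∀ i, Γ i i = 0 := fun i => by rw [hΓ]; exact hb _
  have hdet := det_alt_odd hodd Γ hΓs hΓz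
  obtain ⟨c, hc0, hΓc⟩ := Matrix.exists_mulVec_eq_zero_iff.mpr hdet
  apply hc0
  have hw : ∀ i, u i ⬝ᵥ (G *ᵥ (∑ j, c j • u j)) = 0 := by
    intro i
    rw [Matrix.mulVec_sum, dotProduct_sum]
    have h3 : ∑ j, Γ i j * c j = 0 := congrFun hΓc i
    refine Eq.trans (Finset.sum_congr rfl (fun j _ => ?_)) h3
    rw [Matrix.mulVec_smul, dotProduct_smul, smul_eq_mul, hΓ, mul_comm]
  have hmem : ∀ z : ι → F, G *ᵥ z ∈ LinearMap.range G.mulVecLin := fun z => ⟨z, rfl⟩
  have hz : ∀ z : ι → F, G *ᵥ z = ∑ i, (b.repr ⟨G *ᵥ z, hmem z⟩ i) • (G *ᵥ u i) := by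
    intro z
    have h1 := b.sum_repr ⟨G *ᵥ z, hmem z⟩
    have h2 := congrArg (Submodule.subtype (LinearMap.range G.mulVecLin)) h1
    simp only [map_sum, map_smul, Submodule.subtype_apply] at h2
    refine h2.symm.trans ?_
    exact Finset.sum_congr rfl (fun j _ => by rw [hu])
  have hzw : ∀ z : ι → F, z ⬝ᵥ (G *ᵥ (∑ j, c j • u j)) = 0 := by
    intro z
    rw [hc z, neg_eq_zero, hz z, dotProduct_sum]
    refine Finset.sum_eq_zero (fun i _ => ?_)
    rw [dotProduct_smul, hc, hw i, neg_zero, smul_zero]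
  have hGw : G *ᵥ (∑ j, c j • u j) = 0 := by
    funext i
    have h := hzw (Pi.single i 1)
    rw [single_dotProduct, one_mul] at h
    exact h
  have hsum : ∑ j, c j • b j = 0 := by
    apply Subtype.ext
    rw [Submodule.coe_sum, Submodule.coe_zero, ← hGw, Matrix.mulVec_sum]
    refine Finset.sum_congr rfl (fun j _ => ?_)
    rw [Submodule.coe_smul, Matrix.mulVec_smul, hu]
  have hli := Fintype.linearIndependent_iff.mp b.linearIndependent c hsum
  funext j
  exact hli j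

/-- Parity lemma for the symplectic group: if `A, B ∈ Sp_2n(F)` commute, `A * A` has no nonzero
fixed vector and `(B - 1) * (B - 1) = 0`, then the rank of `B - 1` is even.  (The form
`(u, v) ↦ ω ((B - 1) (A - A⁻¹) u, v)` is alternating.) -/
theorem rank_even {F : Type*} [Field F] {n : ℕ}
    (A B : Matrix (Fin n ⊕ Fin n) (Fin n ⊕ Fin n) F)
    (hA : A ∈ Matrix.symplecticGroup (Fin n) F) (hB : B ∈ Matrix.symplecticGroup (Fin n) F)
    (hAB : A * B = B * A)
    (hfix : ∀ v, (A * A) *ᵥ v = v → v = 0)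
    (hN : (B - 1) * (B - 1) = 0) : Even (B - 1).rank := by
  classical
  have hA' : Aᵀ * Matrix.J (Fin n) F * A = Matrix.J (Fin n) F := SymplecticGroup.mem_iff'.mp hA
  have hB' : Bᵀ * Matrix.J (Fin n) F * B = Matrix.J (Fin n) F := SymplecticGroup.mem_iff'.mp hB
  obtain ⟨J, hJ⟩ : ∃ J : Matrix (Fin n ⊕ Fin n) (Fin n ⊕ Fin n) F, J = Matrix.J (Fin n) F :=
    ⟨_, rfl⟩
  rw [← hJ] at hA' hB'
  obtain ⟨N, hNdef⟩ : ∃ N : Matrix (Fin n ⊕ Fin n) (Fin n ⊕ Fin n) F, N = B - 1 := ⟨_, rfl⟩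
  rw [← hNdef] at hN ⊢
  have hBN : B = 1 + N := by rw [hNdef]; abel
  have h1 : Nᵀ * J + J * N + Nᵀ * J * N = 0 := by
    rw [hBN, Matrix.transpose_add, Matrix.transpose_one] at hB'
    have e : (1 + Nᵀ) * J * (1 + N) = J + (Nᵀ * J + J * N + Nᵀ * J * N) := by noncomm_ring
    rw [e] at hB'
    have e2 : J + (Nᵀ * J + J * N + Nᵀ * J * N) = J + 0 := by rw [hB', add_zero]
    exact add_left_cancel e2
  have h2 : Nᵀ * J * N = 0 := by
    have e : Nᵀ * J * N = (Nᵀ * J + J * N + Nᵀ * J * N) * N - J * (N * N) - Nᵀ * J * (N * N) := by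
      noncomm_ring
    rw [e, h1, hN, zero_mul, mul_zero, mul_zero, sub_zero, sub_zero]
  have h4 : Nᵀ * J + J * N = 0 := by rw [h2, add_zero] at h1; exact h1
  have hS : (Nᵀ * J)ᵀ = Nᵀ * J := by
    rw [Matrix.transpose_mul, Matrix.transpose_transpose, hJ, Matrix.J_transpose, ← hJ, neg_mul,
      neg_eq_iff_add_eq_zero, add_comm]
    exact h4
  have hAN : N * A = A * N := by
    rw [hNdef, sub_mul, mul_sub, one_mul, mul_one, hAB]
  have hAS : Aᵀ * (Nᵀ * J) * A = Nᵀ * J := by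
    calc Aᵀ * (Nᵀ * J) * A = (N * A)ᵀ * J * A := by
          rw [Matrix.transpose_mul]; simp only [Matrix.mul_assoc]
      _ = (A * N)ᵀ * J * A := by rw [hAN]
      _ = Nᵀ * (Aᵀ * J * A) := by
          rw [Matrix.transpose_mul]; simp only [Matrix.mul_assoc]
      _ = Nᵀ * J := by rw [hA']
  have hGA : ((Nᵀ * J * A)ᵀ - Nᵀ * J * A) * A = Nᵀ * J * (1 - A * A) := by
    rw [Matrix.transpose_mul, hS, sub_mul, hAS, mul_sub, mul_one]
    simp only [Matrix.mul_assoc]
  have hdetA : IsUnit A.det := SymplecticGroup.symplectic_det hA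
  have hdetJ : IsUnit J.det := by rw [hJ]; exact Matrix.isUnit_det_J (Fin n) F
  have hdetT : IsUnit (1 - A * A).det := by
    rw [isUnit_iff_ne_zero]
    intro h0
    obtain ⟨v, hv0, hv⟩ := Matrix.exists_mulVec_eq_zero_iff.mpr h0
    apply hv0
    apply hfix
    rw [Matrix.sub_mulVec, Matrix.one_mulVec, sub_eq_zero] at hv
    exact hv.symm
  have hrank : N.rank = ((Nᵀ * J * A)ᵀ - Nᵀ * J * A).rank := by
    have e1 : (((Nᵀ * J * A)ᵀ - Nᵀ * J * A) * A).rank = ((Nᵀ * J * A)ᵀ - Nᵀ * J * A).rank :=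
      Matrix.rank_mul_eq_left_of_isUnit_det A _ hdetA
    rw [← e1, hGA, Matrix.rank_mul_eq_left_of_isUnit_det _ _ hdetT,
      Matrix.rank_mul_eq_left_of_isUnit_det _ _ hdetJ, Matrix.rank_transpose]
  rw [hrank]
  exact alt_rank_even _

end Cfsg.Agent.Helper12.SpAlt
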