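import Mathlib
import Cfsg.Agent.Helper12.SpAlt
import Cfsg.Agent.Helper27.SpD1

set_option autoImplicit false

namespace Cfsg.Agent.Helper12.SpAlt2

open Matrix

/-- The fixed-point-free case: `A, B ∈ Sp_2n(F)` commuting, `A ^ r = 1` with no nonzero fixed
vector, `B ≠ 1` of order `p = char F`, `k` dividing every `j` with `r ∣ q ^ j - 1`.
Then `k ≤ n`, and `k + 1 ≤ n` when `k` is odd. -/
theorem fpf_case {F : Type*} [Field F] [Fintype F] (p : ℕ) [Fact p.Prime] [CharP F p] {n : ℕ}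
    (r : ℕ) [Fact r.Prime] (hr2 : r ≠ 2)
    (A B : Matrix (Fin n ⊕ Fin n) (Fin n ⊕ Fin n) F)
    (hA : A ∈ Matrix.symplecticGroup (Fin n) F) (hB : B ∈ Matrix.symplecticGroup (Fin n) F)
    (hAB : A * B = B * A) (hAr : A ^ r = 1)
    (hfix : ∀ v, A *ᵥ v = v → v = 0)
    (hBp : B ^ p = 1) (hB1 : B ≠ 1)
    (k : ℕ) (hk0 : 0 < k) (hk : ∀ j, r ∣ Fintype.card F ^ j - 1 → k ∣ j) :
    k ≤ n ∧ (Odd k → k + 1 ≤ n) := by
  classical
  have hn0 : 0 < n := by
    rcases Nat.eq_zero_or_pos n with h | h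
    · exfalso
      apply hB1
      subst h
      exact Subsingleton.elim _ _
    · exact h
  haveI : Nonempty (Fin n ⊕ Fin n) := ⟨Sum.inl ⟨0, hn0⟩⟩
  obtain ⟨N, hNdef⟩ : ∃ N : Matrix (Fin n ⊕ Fin n) (Fin n ⊕ Fin n) F, N = B - 1 := ⟨_, rfl⟩
  have hN0 : N ≠ 0 := by
    intro h
    apply hB1
    rw [hNdef] at h
    exact sub_eq_zero.mp h
  have hNp : N ^ p = 0 := by
    rw [hNdef, sub_pow_char_of_commute p (Commute.one_right B), hBp, one_pow, sub_self]
  have hAN : A * N = N * A := by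
    rw [hNdef, sub_mul, mul_sub, one_mul, mul_one, hAB]
  obtain ⟨K, hK⟩ : ∃ K : Submodule F (Fin n ⊕ Fin n → F), K = LinearMap.ker N.mulVecLin :=
    ⟨_, rfl⟩
  obtain ⟨R, hR⟩ : ∃ R : Submodule F (Fin n ⊕ Fin n → F), R = LinearMap.range N.mulVecLin :=
    ⟨_, rfl⟩
  have hKmem : ∀ v, v ∈ K ↔ N *ᵥ v = 0 := by
    intro v
    rw [hK, LinearMap.mem_ker, Matrix.mulVecLin_apply]
  have hRmem : ∀ v, v ∈ R ↔ ∃ u, N *ᵥ u = v := by
    intro v
    rw [hR, LinearMap.mem_range]
    rfl
  have hKA : ∀ v ∈ K, A *ᵥ v ∈ K := by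
    intro v hv
    rw [hKmem] at hv ⊢
    rw [Matrix.mulVec_mulVec, ← hAN, ← Matrix.mulVec_mulVec, hv, Matrix.mulVec_zero]
  have hRA : ∀ v ∈ R, A *ᵥ v ∈ R := by
    intro v hv
    rw [hRmem] at hv ⊢
    obtain ⟨u, rfl⟩ := hv
    exact ⟨A *ᵥ u, by rw [Matrix.mulVec_mulVec, ← hAN, ← Matrix.mulVec_mulVec]⟩
  have hdvd : ∀ W : Submodule F (Fin n ⊕ Fin n → F), (∀ v ∈ W, A *ᵥ v ∈ W) →
      k ∣ Module.finrank F W := by
    intro W hW
    exact hk _ (Cfsg.Agent.Helper27.SpD1.free_count A r hAr W hW (fun v _ h => hfix v h))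
  have hsum : Module.finrank F R + Module.finrank F K = 2 * n := by
    rw [hK, hR, LinearMap.finrank_range_add_finrank_ker, Module.finrank_fintype_fun_eq_card,
      Fintype.card_sum, Fintype.card_fin]
    ring
  have hKpos : 0 < Module.finrank F K := by
    have hdet : N.det = 0 := by
      have h1 : (N ^ p).det = 0 := by rw [hNp]; exact Matrix.det_zero
      rw [Matrix.det_pow] at h1
      exact (pow_eq_zero_iff (Fact.out : p.Prime).ne_zero).mp h1
    obtain ⟨v, hv0, hv⟩ := Matrix.exists_mulVec_eq_zero_iff.mpr hdet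
    have hvK : v ∈ K := (hKmem v).mpr hv
    rw [Module.finrank_pos_iff_exists_ne_zero]
    exact ⟨⟨v, hvK⟩, fun h => hv0 (congrArg Subtype.val h)⟩
  have hRpos : 0 < Module.finrank F R := by
    by_contra h0
    have h0' : Module.finrank F R = 0 := by omega
    have hRbot : R = ⊥ := Submodule.finrank_eq_zero.mp h0'
    apply hN0
    apply Matrix.toLin'.injective
    rw [map_zero]
    refine LinearMap.ext (fun v => ?_)
    have hv : N *ᵥ v ∈ R := (hRmem _).mpr ⟨v, rfl⟩
    rw [hRbot, Submodule.mem_bot] at hv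
    rw [Matrix.toLin'_apply, hv, LinearMap.zero_apply]
  obtain ⟨a, ha⟩ := hdvd K hKA
  obtain ⟨c, hc⟩ := hdvd R hRA
  have ha1 : 1 ≤ a := by
    rcases Nat.eq_zero_or_pos a with h | h
    · rw [h, mul_zero] at ha
      omega
    · exact h
  have hc1 : 1 ≤ c := by
    rcases Nat.eq_zero_or_pos c with h | h
    · rw [h, mul_zero] at hc
      omega
    · exact h
  have h2a : k ≤ k * a := Nat.le_mul_of_pos_right k ha1
  have h2c : k ≤ k * c := Nat.le_mul_of_pos_right k hc1
  have hkn : k ≤ n := by omega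
  refine ⟨hkn, fun hodd => ?_⟩
  by_contra hlt
  have hnk : n = k := by omega
  have hKk : Module.finrank F K = k := by omega
  have hRk : Module.finrank F R = k := by omega
  have hKRA : ∀ v ∈ K ⊓ R, A *ᵥ v ∈ K ⊓ R := fun v hv => ⟨hKA v hv.1, hRA v hv.2⟩
  obtain ⟨e, he⟩ := hdvd (K ⊓ R) hKRA
  have hle : Module.finrank F (K ⊓ R : Submodule F (Fin n ⊕ Fin n → F)) ≤ Module.finrank F K :=
    Submodule.finrank_mono inf_le_left
  rcases Nat.eq_zero_or_pos e with he0 | he0
  · rw [he0, mul_zero] at he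
    have hbot : K ⊓ R = ⊥ := Submodule.finrank_eq_zero.mp he
    have hind : ∀ j : ℕ, ∀ v, (N ^ (j + 1)) *ᵥ v = 0 → N *ᵥ v = 0 := by
      intro j
      induction j with
      | zero =>
        intro v hv
        rwa [zero_add, pow_one] at hv
      | succ j ih =>
        intro v hv
        rw [pow_succ, ← Matrix.mulVec_mulVec] at hv
        have h1 := ih _ hv
        have h2 : N *ᵥ v ∈ K ⊓ R := ⟨(hKmem _).mpr h1, (hRmem _).mpr ⟨v, rfl⟩⟩
        rw [hbot, Submodule.mem_bot] at h2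
        exact h2
    apply hN0
    have hp1 : p = (p - 1) + 1 := by
      have := (Fact.out : p.Prime).pos
      omega
    apply Matrix.toLin'.injective
    rw [map_zero]
    refine LinearMap.ext (fun v => ?_)
    rw [Matrix.toLin'_apply, LinearMap.zero_apply]
    apply hind (p - 1)
    rw [← hp1, hNp, Matrix.zero_mulVec]
  · have hek : Module.finrank F (K ⊓ R : Submodule F (Fin n ⊕ Fin n → F)) = k := by
      have h2 : k ≤ k * e := Nat.le_mul_of_pos_right k he0
      omega
    have hKR : K ⊓ R = K := Submodule.eq_of_le_of_finrank_eq inf_le_left (by rw [hek, hKk])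
    have hRR : K ⊓ R = R := Submodule.eq_of_le_of_finrank_eq inf_le_right (by rw [hek, hRk])
    have hRK : R ≤ K := by
      intro v hv
      rw [← hRR] at hv
      exact hv.1
    have hN2 : (B - 1) * (B - 1) = 0 := by
      rw [← hNdef]
      apply Matrix.toLin'.injective
      rw [map_zero]
      refine LinearMap.ext (fun v => ?_)
      rw [Matrix.toLin'_apply, LinearMap.zero_apply, ← Matrix.mulVec_mulVec]
      exact (hKmem _).mp (hRK ((hRmem _).mpr ⟨v, rfl⟩))
    have hfix2 : ∀ v, (A * A) *ᵥ v = v → v = 0 := by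
      intro v hv
      apply hfix
      obtain ⟨m, hm⟩ := (Fact.out : r.Prime).odd_of_ne_two hr2
      have hpw : ∀ j : ℕ, ((A * A) ^ j) *ᵥ v = v := by
        intro j
        induction j with
        | zero => rw [pow_zero, Matrix.one_mulVec]
        | succ j ih => rw [pow_succ, ← Matrix.mulVec_mulVec, hv, ih]
      have hA2 : (A * A) ^ (m + 1) = A := by
        rw [← pow_two, ← pow_mul]
        have h2 : 2 * (m + 1) = r + 1 := by omega
        rw [h2, pow_succ, hAr, one_mul]
      have h3 := hpw (m + 1)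
      rw [hA2] at h3
      exact h3
    have hev := Cfsg.Agent.Helper12.SpAlt.rank_even A B hA hB hAB hfix2 hN2
    have hrank : (B - 1).rank = k := by
      rw [← hNdef, ← hRk, hR]
      rfl
    rw [hrank] at hev
    exact (Nat.not_even_iff_odd.mpr hodd) hev

end Cfsg.Agent.Helper12.SpAlt2
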