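import Mathlib
import Cfsg.Prelude.Def_Classical
import Cfsg.Prelude.Def_ClassicalGeometry
import Cfsg.Prelude.Def_GeometricClasses
import Cfsg.Agent.Helper15.SpQa

/-!
# Piece L9 for S5983: every involution of `Sp_2d(q)`, `q` even, fixes a coset of the orthogonal
group of a quadratic form `Q` polarising to the symplectic form, when `Q` has plus type or `d` is odd.
The pieces L4 (`plus_plus`), L10 (`even_of_alt`) and the bound on totally isotropic subspaces are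
explicit hypotheses.
-/

set_option autoImplicit false

open scoped MatrixGroups
open Cfsg

namespace Cfsg.Agent.Helper12.SpQe

open Matrix
open Cfsg.Agent.Helper15.SpQa

variable {F : Type*} [Field F] {d : ℕ}

theorem c2_add_self (hch : (2 : F) = 0) (a : F) : a + a = 0 := by
  have h : a + a = 2 * a := by ring
  rw [h, hch, zero_mul]

theorem c2_add_sq (hch : (2 : F) = 0) (a b : F) : (a + b) ^ 2 = a ^ 2 + b ^ 2 := by
  have h : (a + b) ^ 2 = a ^ 2 + b ^ 2 + 2 * (a * b) := by ring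
  rw [h, hch, zero_mul, add_zero]

theorem c2_vadd_self (hch : (2 : F) = 0) (v : Fin d ⊕ Fin d → F) : v + v = 0 := by
  funext i
  exact c2_add_self hch (v i)

theorem c2_vneg (hch : (2 : F) = 0) (v : Fin d ⊕ Fin d → F) : -v = v :=
  neg_eq_of_add_eq_zero_right (c2_vadd_self hch v)

theorem sf_symm_of (Q : (Fin d ⊕ Fin d → F) → F)
    (hpol : ∀ u v : Fin d ⊕ Fin d → F, Q (u + v) = Q u + Q v + Cfsg.sympForm d F u v)
    (u v : Fin d ⊕ Fin d → F) : Cfsg.sympForm d F u v = Cfsg.sympForm d F v u := by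
  have h1 := hpol u v
  have h2 := hpol v u
  rw [add_comm v u] at h2
  linear_combination h2 - h1

/-- the Artin–Schreier image is closed under addition -/
theorem as_add (hch : (2 : F) = 0) {a b : F} (ha : ∃ w : F, w ^ 2 + w = a)
    (hb : ∃ w : F, w ^ 2 + w = b) : ∃ w : F, w ^ 2 + w = a + b := by
  obtain ⟨w₁, rfl⟩ := ha
  obtain ⟨w₂, rfl⟩ := hb
  exact ⟨w₁ + w₂, by rw [c2_add_sq hch]; ring⟩

/-- the Artin–Schreier image has index two: two non-members add up to a member -/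
theorem as_index [Fintype F] (hch : (2 : F) = 0) {a b : F} (ha : ¬ ∃ w : F, w ^ 2 + w = a)
    (hb : ¬ ∃ w : F, w ^ 2 + w = b) : ∃ w : F, w ^ 2 + w = a + b := by
  classical
  let φ : F →+ F := AddMonoidHom.mk' (fun w => w ^ 2 + w) (fun x y => by
    show (x + y) ^ 2 + (x + y) = x ^ 2 + x + (y ^ 2 + y)
    rw [c2_add_sq hch]; ring)
  have hφ : ∀ w : F, φ w = w ^ 2 + w := fun w => rfl
  have hker : Nat.card φ.ker = 2 := by
    rw [Nat.card_eq_two_iff]
    have h1 : (1 : F) ∈ φ.ker := by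
      rw [AddMonoidHom.mem_ker, hφ, one_pow]
      exact c2_add_self hch 1
    refine ⟨⟨0, zero_mem _⟩, ⟨1, h1⟩, ?_, ?_⟩
    · intro h
      exact zero_ne_one (congrArg Subtype.val h)
    · apply Set.eq_univ_of_forall
      rintro ⟨w, hw⟩
      have hw0 : w ^ 2 + w = 0 := by
        have := AddMonoidHom.mem_ker.mp hw
        rwa [hφ] at this
      have hw' : w * (w + 1) = 0 := by linear_combination hw0
      rcases mul_eq_zero.mp hw' with h | h
      · exact Or.inl (Subtype.ext h)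
      · refine Or.inr (Subtype.ext ?_)
        show w = 1
        linear_combination h - c2_add_self hch (1 : F)
  have hidx : φ.range.index = 2 := by
    have h1 := AddSubgroup.card_mul_index φ.ker
    have h2 := AddSubgroup.card_mul_index φ.range
    rw [AddSubgroup.index_ker, hker] at h1
    have hpos : 0 < Nat.card φ.range := Nat.card_pos
    have h3 : Nat.card φ.range * φ.range.index = Nat.card φ.range * 2 := by
      rw [h2, ← h1, mul_comm]
    exact Nat.eq_of_mul_eq_mul_left hpos h3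
  have hmem : ∀ c : F, c ∈ φ.range ↔ ∃ w : F, w ^ 2 + w = c := by
    intro c
    rw [AddMonoidHom.mem_range]
    exact Iff.rfl
  have h := (AddSubgroup.add_mem_iff_of_index_two hidx (a := a) (b := b)).mpr
    ⟨fun h => absurd ((hmem a).mp h) ha, fun h => absurd ((hmem b).mp h) hb⟩
  exact (hmem (a + b)).mp h

/-- if `Q ∘ g = Q + (sf b ·)²` and the latter form is `x`-invariant then `g x g⁻¹` preserves `Q` -/
theorem conj_of_inv (Q : (Fin d ⊕ Fin d → F) → F) (x g : GL (Fin d ⊕ Fin d) F)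
    (b : Fin d ⊕ Fin d → F) (hg : g ∈ Cfsg.spGL d F)
    (hgQ : ∀ v, Q ((g : Matrix (Fin d ⊕ Fin d) (Fin d ⊕ Fin d) F) *ᵥ v) =
      Q v + (Cfsg.sympForm d F b v) ^ 2)
    (hinv : ∀ v, Q ((x : Matrix (Fin d ⊕ Fin d) (Fin d ⊕ Fin d) F) *ᵥ v) +
        (Cfsg.sympForm d F b ((x : Matrix (Fin d ⊕ Fin d) (Fin d ⊕ Fin d) F) *ᵥ v)) ^ 2 =
      Q v + (Cfsg.sympForm d F b v) ^ 2) :
    ∃ g' ∈ Cfsg.spGL d F, g'⁻¹ * x * g' ∈ Cfsg.Geo.quadSimilarityGroup Q := by
  refine ⟨g⁻¹, (Cfsg.spGL d F).inv_mem hg, ?_⟩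
  rw [inv_inv]
  change ∃ c : Fˣ, ∀ v, Q (((g * x * g⁻¹ : GL (Fin d ⊕ Fin d) F) :
    Matrix (Fin d ⊕ Fin d) (Fin d ⊕ Fin d) F) *ᵥ v) = (c : F) * Q v
  refine ⟨1, fun v => ?_⟩
  rw [Units.val_one, one_mul]
  have e1 : ((g * x * g⁻¹ : GL (Fin d ⊕ Fin d) F) :
        Matrix (Fin d ⊕ Fin d) (Fin d ⊕ Fin d) F) *ᵥ v
      = (g : Matrix (Fin d ⊕ Fin d) (Fin d ⊕ Fin d) F) *ᵥ
        ((x : Matrix (Fin d ⊕ Fin d) (Fin d ⊕ Fin d) F) *ᵥ
          (((g⁻¹ : GL (Fin d ⊕ Fin d) F) : Matrix (Fin d ⊕ Fin d) (Fin d ⊕ Fin d) F) *ᵥ v)) := by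
    rw [Units.val_mul, Units.val_mul, ← Matrix.mulVec_mulVec, ← Matrix.mulVec_mulVec]
  have e2 : (g : Matrix (Fin d ⊕ Fin d) (Fin d ⊕ Fin d) F) *ᵥ
      (((g⁻¹ : GL (Fin d ⊕ Fin d) F) : Matrix (Fin d ⊕ Fin d) (Fin d ⊕ Fin d) F) *ᵥ v) = v := by
    rw [Matrix.mulVec_mulVec, ← Units.val_mul, mul_inv_cancel, Units.val_one, Matrix.one_mulVec]
  rw [e1, hgQ, hinv, ← hgQ, e2]

theorem core [Fintype F] (hch : (2 : F) = 0) (Q : (Fin d ⊕ Fin d → F) → F)
    (hsm : ∀ (c : F) (v : Fin d ⊕ Fin d → F), Q (c • v) = c ^ 2 * Q v)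
    (hpol : ∀ u v : Fin d ⊕ Fin d → F, Q (u + v) = Q u + Q v + Cfsg.sympForm d F u v)
    (hTI : ∀ L : Submodule F (Fin d ⊕ Fin d → F),
      (∀ u ∈ L, ∀ v ∈ L, Cfsg.sympForm d F u v = 0) → Module.finrank F L ≤ d)
    (hL4 : ∀ (b : Fin d ⊕ Fin d → F) (U L : Submodule F (Fin d ⊕ Fin d → F)),
      (∀ u ∈ U, Q u = 0) → (∀ l ∈ L, Q l + (Cfsg.sympForm d F b l) ^ 2 = 0) →
      Module.finrank F U = d → Module.finrank F L = d → ∃ w : F, w ^ 2 + w = Q b)
    (X : Matrix (Fin d ⊕ Fin d) (Fin d ⊕ Fin d) F)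
    (hxs : ∀ u v : Fin d ⊕ Fin d → F,
      Cfsg.sympForm d F (X *ᵥ u) (X *ᵥ v) = Cfsg.sympForm d F u v)
    (hXX : ∀ v : Fin d ⊕ Fin d → F, X *ᵥ (X *ᵥ v) = v)
    (hpl : Cfsg.Geo.IsPlusTypeOn Q ⊤ ∨
      ¬ ((∀ v : Fin d ⊕ Fin d → F, Cfsg.sympForm d F v (X *ᵥ v) = 0) ∧
        Module.finrank F (LinearMap.ker (Matrix.toLin' X - 1)) = d)) :
    ∃ b : Fin d ⊕ Fin d → F, (∃ w : F, w ^ 2 + w = Q b) ∧
      ∀ v : Fin d ⊕ Fin d → F,
        Q (X *ᵥ v) + (Cfsg.sympForm d F b (X *ᵥ v)) ^ 2 = Q v + (Cfsg.sympForm d F b v) ^ 2 := by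
  classical
  have hneg : ∀ w : Fin d ⊕ Fin d → F, -w = w := c2_vneg hch
  have hadj : ∀ u v : Fin d ⊕ Fin d → F,
      Cfsg.sympForm d F u (X *ᵥ v) = Cfsg.sympForm d F (X *ᵥ u) v := by
    intro u v
    have h := hxs u (X *ᵥ v)
    rw [hXX v] at h
    exact h.symm
  obtain ⟨e, he⟩ := exists_diff hch Q (fun v => Q (X *ᵥ v)) hsm hpol
    (fun c v => by
      show Q (X *ᵥ (c • v)) = c ^ 2 * Q (X *ᵥ v)
      rw [Matrix.mulVec_smul, hsm])
    (fun u v => by
      show Q (X *ᵥ (u + v)) = Q (X *ᵥ u) + Q (X *ᵥ v) + Cfsg.sympForm d F u v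
      rw [Matrix.mulVec_add, hpol, hxs])
  have he' : ∀ v : Fin d ⊕ Fin d → F, Q (X *ᵥ v) = Q v + (Cfsg.sympForm d F e v) ^ 2 :=
    fun v => he v
  have hek : ∀ k : Fin d ⊕ Fin d → F, X *ᵥ k = k → Cfsg.sympForm d F e k = 0 := by
    intro k hk
    have h := he' k
    rw [hk] at h
    have h2 : (Cfsg.sympForm d F e k) ^ 2 = 0 := by linear_combination -h
    exact (pow_eq_zero_iff two_ne_zero).mp h2
  have hNv : ∀ v : Fin d ⊕ Fin d → F, (Matrix.toLin' X - 1) v = X *ᵥ v + v := by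
    intro v
    rw [LinearMap.sub_apply, Matrix.toLin'_apply, Module.End.one_apply, sub_eq_add_neg, hneg]
  have hLmem : ∀ k : Fin d ⊕ Fin d → F,
      k ∈ LinearMap.ker (Matrix.toLin' X - 1) ↔ X *ᵥ k = k := by
    intro k
    rw [LinearMap.mem_ker, LinearMap.sub_apply, Matrix.toLin'_apply, Module.End.one_apply,
      sub_eq_zero]
  obtain ⟨c, hc⟩ : ∃ c : Fin d ⊕ Fin d → F, X *ᵥ c + c = e := by
    obtain ⟨φ, hφe⟩ : ∃ φ : Module.Dual F (Fin d ⊕ Fin d → F),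
        ∀ v, φ v = Cfsg.sympForm d F e v :=
      ⟨{ toFun := fun v => Cfsg.sympForm d F e v
         map_add' := sf_add_right e
         map_smul' := fun a v => by rw [sf_smul_right, RingHom.id_apply, smul_eq_mul] },
        fun v => rfl⟩
    have hφ : φ ∈ (LinearMap.ker (Matrix.toLin' X - 1)).dualAnnihilator := by
      rw [Submodule.mem_dualAnnihilator]
      intro w hw
      rw [hφe]
      exact hek w ((hLmem w).mp hw)
    rw [← LinearMap.range_dualMap_eq_dualAnnihilator_ker] at hφ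
    obtain ⟨ψ, hψ⟩ := hφ
    obtain ⟨c, hc⟩ := exists_rep ψ
    refine ⟨c, ?_⟩
    have hz0 : X *ᵥ c + c + e = 0 := by
      apply sf_nondeg
      intro v
      have h' : ψ ((Matrix.toLin' X - 1) v) = Cfsg.sympForm d F e v := by
        have h0 := LinearMap.congr_fun hψ v
        rw [LinearMap.dualMap_apply, hφe] at h0
        exact h0
      rw [hNv, ← hc, sf_add_right, hadj] at h'
      rw [sf_add_left, sf_add_left, h']
      exact c2_add_self hch _
    have h := eq_neg_of_add_eq_zero_left hz0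
    rw [hneg] at h
    exact h
  have hinv : ∀ b : Fin d ⊕ Fin d → F, X *ᵥ b + b = e → ∀ v : Fin d ⊕ Fin d → F,
      Q (X *ᵥ v) + (Cfsg.sympForm d F b (X *ᵥ v)) ^ 2 = Q v + (Cfsg.sympForm d F b v) ^ 2 := by
    intro b hb v
    have hXb : X *ᵥ b = e + b := by
      rw [← hb, add_assoc, c2_vadd_self hch b, add_zero]
    rw [he' v, hadj b v, hXb, sf_add_left, c2_add_sq hch]
    linear_combination c2_add_self hch ((Cfsg.sympForm d F e v) ^ 2)
  by_cases h1 : ∃ w : F, w ^ 2 + w = Q c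
  · exact ⟨c, h1, hinv c hc⟩
  by_cases h2 : ∃ k : Fin d ⊕ Fin d → F, X *ᵥ k = k ∧
      ¬ ∃ w : F, w ^ 2 + w = Q k + (Cfsg.sympForm d F c k) ^ 2
  · obtain ⟨k, hk, hk2⟩ := h2
    refine ⟨c + k, ?_, hinv (c + k) ?_⟩
    · have h3 := as_index hch h1 hk2
      have h4 : ∃ w : F, w ^ 2 + w = (Cfsg.sympForm d F c k) ^ 2 + Cfsg.sympForm d F c k :=
        ⟨Cfsg.sympForm d F c k, rfl⟩
      obtain ⟨w, hw⟩ := as_add hch h3 h4
      refine ⟨w, ?_⟩
      rw [hw, hpol]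
      linear_combination c2_add_self hch ((Cfsg.sympForm d F c k) ^ 2)
    · rw [Matrix.mulVec_add, hk]
      have h3 : X *ᵥ c + k + (c + k) = X *ᵥ c + c + (k + k) := by abel
      rw [h3, c2_vadd_self hch k, add_zero, hc]
  · exfalso
    push_neg at h2
    have hzero : ∀ k : Fin d ⊕ Fin d → F, X *ᵥ k = k →
        Q k + (Cfsg.sympForm d F c k) ^ 2 = 0 := by
      intro k hk
      by_contra hne
      have hsurj : Function.Surjective (fun a : F => a ^ 2) :=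
        Finite.injective_iff_surjective.mp (fun a b h => sq_inj_of_two hch h)
      obtain ⟨a, ha⟩ := hsurj (Q c / (Q k + (Cfsg.sympForm d F c k) ^ 2))
      have ha' : a ^ 2 * (Q k + (Cfsg.sympForm d F c k) ^ 2) = Q c := by
        have h : a ^ 2 = Q c / (Q k + (Cfsg.sympForm d F c k) ^ 2) := ha
        rw [h, div_mul_cancel₀ _ hne]
      have hak : X *ᵥ (a • k) = a • k := by rw [Matrix.mulVec_smul, hk]
      obtain ⟨w, hw⟩ := h2 (a • k) hak
      apply h1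
      refine ⟨w, ?_⟩
      rw [hw, hsm, sf_smul_right, mul_pow, ← ha']
      ring
    have hfix : ∀ v : Fin d ⊕ Fin d → F, X *ᵥ (X *ᵥ v + v) = X *ᵥ v + v := by
      intro v
      rw [Matrix.mulVec_add, hXX, add_comm]
    have hLTI : ∀ u ∈ LinearMap.ker (Matrix.toLin' X - 1),
        ∀ v ∈ LinearMap.ker (Matrix.toLin' X - 1), Cfsg.sympForm d F u v = 0 := by
      intro u hu v hv
      have hu' := (hLmem u).mp hu
      have hv' := (hLmem v).mp hv
      have huv : X *ᵥ (u + v) = u + v := by rw [Matrix.mulVec_add, hu', hv']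
      have e1 := hzero u hu'
      have e2 := hzero v hv'
      have e3 := hzero (u + v) huv
      rw [hpol, sf_add_right, c2_add_sq hch] at e3
      linear_combination e3 - e1 - e2
    have hVd : Module.finrank F (Fin d ⊕ Fin d → F) = d + d := by
      rw [Module.finrank_fintype_fun_eq_card, Fintype.card_sum, Fintype.card_fin]
    have hle : Module.finrank F (LinearMap.ker (Matrix.toLin' X - 1)) ≤ d := hTI _ hLTI
    have hge : d ≤ Module.finrank F (LinearMap.ker (Matrix.toLin' X - 1)) := by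
      have hrn := LinearMap.finrank_range_add_finrank_ker (Matrix.toLin' X - 1)
      have hrk : LinearMap.range (Matrix.toLin' X - 1) ≤ LinearMap.ker (Matrix.toLin' X - 1) := by
        rintro _ ⟨v, rfl⟩
        rw [hLmem, hNv]
        exact hfix v
      have hmono := Submodule.finrank_mono hrk
      rw [hVd] at hrn
      omega
    have hker : Module.finrank F (LinearMap.ker (Matrix.toLin' X - 1)) = d :=
      le_antisymm hle hge
    rcases hpl with hplus | hnot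
    · obtain ⟨U, _, hU, hdim⟩ := hplus
      have hdU : Module.finrank F U = d := by
        rw [finrank_top, hVd] at hdim
        omega
      exact h1 (hL4 c U _ hU (fun l hl => hzero l ((hLmem l).mp hl)) hdU hker)
    · apply hnot
      refine ⟨fun v => ?_, hker⟩
      have E1 := hzero (X *ᵥ v + v) (hfix v)
      rw [hpol, sf_add_right, c2_add_sq hch] at E1
      have E2 := hinv c hc v
      have E3 := c2_add_self hch (Q v + (Cfsg.sympForm d F c v) ^ 2)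
      rw [sf_symm_of Q hpol v (X *ᵥ v)]
      linear_combination E1 - E2 - E3

/-- (L9) the `r = 2` direction for S5983. -/
theorem invol_conj [Fintype F] (hch : (2 : F) = 0) (Q : (Fin d ⊕ Fin d → F) → F)
    (hsm : ∀ (c : F) (v : Fin d ⊕ Fin d → F), Q (c • v) = c ^ 2 * Q v)
    (hpol : ∀ u v : Fin d ⊕ Fin d → F, Q (u + v) = Q u + Q v + Cfsg.sympForm d F u v)
    (hTI : ∀ L : Submodule F (Fin d ⊕ Fin d → F),
      (∀ u ∈ L, ∀ v ∈ L, Cfsg.sympForm d F u v = 0) → Module.finrank F L ≤ d)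
    (hL4 : ∀ (b : Fin d ⊕ Fin d → F) (U L : Submodule F (Fin d ⊕ Fin d → F)),
      (∀ u ∈ U, Q u = 0) → (∀ l ∈ L, Q l + (Cfsg.sympForm d F b l) ^ 2 = 0) →
      Module.finrank F U = d → Module.finrank F L = d → ∃ w : F, w ^ 2 + w = Q b)
    (hL10 : ∀ x : GL (Fin d ⊕ Fin d) F, x ∈ Cfsg.spGL d F →
      (x : Matrix (Fin d ⊕ Fin d) (Fin d ⊕ Fin d) F) *
        (x : Matrix (Fin d ⊕ Fin d) (Fin d ⊕ Fin d) F) = 1 →
      (∀ v, Cfsg.sympForm d F v ((x : Matrix (Fin d ⊕ Fin d) (Fin d ⊕ Fin d) F) *ᵥ v) = 0) →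
      Module.finrank F (LinearMap.ker
        (Matrix.toLin' (x : Matrix (Fin d ⊕ Fin d) (Fin d ⊕ Fin d) F) - 1)) = d → Even d)
    (hpl : Cfsg.Geo.IsPlusTypeOn Q ⊤ ∨ Odd d) (x : GL (Fin d ⊕ Fin d) F)
    (hx : x ∈ Cfsg.spGL d F)
    (hx2 : ∃ z : F, ((x ^ 2 : GL (Fin d ⊕ Fin d) F) :
      Matrix (Fin d ⊕ Fin d) (Fin d ⊕ Fin d) F) =
        z • (1 : Matrix (Fin d ⊕ Fin d) (Fin d ⊕ Fin d) F)) :
    ∃ g ∈ Cfsg.spGL d F, g⁻¹ * x * g ∈ Cfsg.Geo.quadSimilarityGroup Q := by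
  classical
  obtain ⟨z, hz⟩ := hx2
  have hxs : ∀ u v : Fin d ⊕ Fin d → F,
      Cfsg.sympForm d F ((x : Matrix (Fin d ⊕ Fin d) (Fin d ⊕ Fin d) F) *ᵥ u)
        ((x : Matrix (Fin d ⊕ Fin d) (Fin d ⊕ Fin d) F) *ᵥ v) = Cfsg.sympForm d F u v := by
    intro u v
    exact hx u v
  have hsq : (x : Matrix (Fin d ⊕ Fin d) (Fin d ⊕ Fin d) F) *
      (x : Matrix (Fin d ⊕ Fin d) (Fin d ⊕ Fin d) F) =
        z • (1 : Matrix (Fin d ⊕ Fin d) (Fin d ⊕ Fin d) F) := by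
    rw [← hz, pow_two, Units.val_mul]
  have h1 : ∀ u : Fin d ⊕ Fin d → F,
      (x : Matrix (Fin d ⊕ Fin d) (Fin d ⊕ Fin d) F) *ᵥ
        ((x : Matrix (Fin d ⊕ Fin d) (Fin d ⊕ Fin d) F) *ᵥ u) = z • u := by
    intro u
    rw [Matrix.mulVec_mulVec, hsq, Matrix.smul_mulVec, Matrix.one_mulVec]
  have hXX : ∀ v : Fin d ⊕ Fin d → F,
      (x : Matrix (Fin d ⊕ Fin d) (Fin d ⊕ Fin d) F) *ᵥ
        ((x : Matrix (Fin d ⊕ Fin d) (Fin d ⊕ Fin d) F) *ᵥ v) = v := by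
    intro v
    rw [h1 v]
    by_cases hv : v = 0
    · rw [hv, smul_zero]
    · obtain ⟨u, hu⟩ : ∃ u, Cfsg.sympForm d F v u ≠ 0 := by
        by_contra hcon
        push_neg at hcon
        exact hv (sf_nondeg hcon)
      have h2 := hxs ((x : Matrix (Fin d ⊕ Fin d) (Fin d ⊕ Fin d) F) *ᵥ v)
        ((x : Matrix (Fin d ⊕ Fin d) (Fin d ⊕ Fin d) F) *ᵥ u)
      rw [h1 v, h1 u, hxs, sf_smul_left, sf_smul_right] at h2
      have hz1 : (z - 1) * (z - 1) * Cfsg.sympForm d F v u = 0 := by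
        linear_combination h2 + (Cfsg.sympForm d F v u - z * Cfsg.sympForm d F v u) * hch
      have hz' : z = 1 := by
        rcases mul_eq_zero.mp hz1 with h | h
        · exact sub_eq_zero.mp (mul_self_eq_zero.mp h)
        · exact absurd h hu
      rw [hz', one_smul]
  have hmat : (x : Matrix (Fin d ⊕ Fin d) (Fin d ⊕ Fin d) F) *
      (x : Matrix (Fin d ⊕ Fin d) (Fin d ⊕ Fin d) F) = 1 :=
    Matrix.mulVec_injective (funext fun v => by
      rw [← Matrix.mulVec_mulVec, hXX, Matrix.one_mulVec])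
  have hpl' : Cfsg.Geo.IsPlusTypeOn Q ⊤ ∨
      ¬ ((∀ v : Fin d ⊕ Fin d → F, Cfsg.sympForm d F v
          ((x : Matrix (Fin d ⊕ Fin d) (Fin d ⊕ Fin d) F) *ᵥ v) = 0) ∧
        Module.finrank F (LinearMap.ker
          (Matrix.toLin' (x : Matrix (Fin d ⊕ Fin d) (Fin d ⊕ Fin d) F) - 1)) = d) := by
    rcases hpl with h | h
    · exact Or.inl h
    · right
      rintro ⟨h3, h4⟩
      exact (Nat.not_even_iff_odd.mpr h) (hL10 x hx hmat h3 h4)
  obtain ⟨b, hb, hbinv⟩ := core hch Q hsm hpol hTI hL4 _ hxs hXX hpl'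
  obtain ⟨g, _, hg, _, hgQ⟩ := reach hch Q hsm hpol b hb
  exact conj_of_inv Q x g b hg hgQ hbinv

end Cfsg.Agent.Helper12.SpQe
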