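import Mathlib
import Cfsg.Agent.Helper12.SL2
import Cfsg.Agent.Helper12.SL2Odd
import Cfsg.Agent.Helper12.SL2Commutant
import Cfsg.Agent.Helper12.SL2Orders
import Cfsg.Agent.Helper12.SL2Card
import Cfsg.Agent.Helper12.SL2Trace
import Cfsg.Agent.Helper12.PSL2Class
import Cfsg.Agent.S0268
import Cfsg.Agent.S0805
import Cfsg.Agent.S0809
import Cfsg.Agent.S5016
import Cfsg.Agent.S0807
import Cfsg.Agent.S2503

set_option autoImplicit false

namespace Cfsg.Agent.Helper12.TB

open scoped Pointwise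

/-! ### Generic group lemmas -/

/-- If `N` is covered by `K` and the coset `w K`, with `w ∉ K`, then `|N| = 2 |K|`. -/
theorem card_of_cover_two {G : Type*} [Group G] [Finite G] (K N : Subgroup G) (w : G)
    (hw : w ∉ K) (hcov : ∀ g : G, g ∈ N ↔ (g ∈ K ∨ w⁻¹ * g ∈ K)) :
    Nat.card N = 2 * Nat.card K := by
  have hset : (N : Set G) = (K : Set G) ∪ (fun x => w * x) '' (K : Set G) := by
    ext g
    rw [SetLike.mem_coe, hcov, Set.mem_union, SetLike.mem_coe, Set.mem_image]
    constructor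
    · rintro (h | h)
      · exact Or.inl h
      · exact Or.inr ⟨w⁻¹ * g, h, by show w * (w⁻¹ * g) = g; group⟩
    · rintro (h | ⟨c, hc, rfl⟩)
      · exact Or.inl h
      · right
        show w⁻¹ * (w * c) ∈ K
        have e : w⁻¹ * (w * c) = c := by group
        rw [e]
        exact SetLike.mem_coe.mp hc
  have hdisj : Disjoint (K : Set G) ((fun x => w * x) '' (K : Set G)) := by
    rw [Set.disjoint_left]
    rintro g hg ⟨c, hc, rfl⟩
    apply hw
    have h1 : w * c ∈ K := hg
    have h2 : c ∈ K := hc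
    have e : w = (w * c) * c⁻¹ := by group
    rw [e]
    exact K.mul_mem h1 (K.inv_mem h2)
  show Nat.card (N : Set G) = _
  rw [Nat.card_coe_set_eq, hset, Set.ncard_union_eq hdisj (Set.toFinite _) (Set.toFinite _),
    Set.ncard_image_of_injective _ (mul_right_injective w), ← Nat.card_coe_set_eq]
  show Nat.card K + Nat.card K = _
  ring

/-- If the centralizer of `a` has exactly `orderOf a` elements it is `⟨a⟩`. -/
theorem cent_eq_zpowers_of_card {G : Type*} [Group G] [Finite G] (a : G)
    (h : Nat.card (Subgroup.centralizer ({a} : Set G)) = orderOf a) :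
    Subgroup.centralizer ({a} : Set G) = Subgroup.zpowers a := by
  symm
  apply Subgroup.eq_of_le_of_card_ge
  · rw [Subgroup.zpowers_le]
    exact Subgroup.mem_centralizer_singleton_iff.mpr rfl
  · rw [Nat.card_zpowers, h]

/-- The normalizer of a subgroup normalizes its centralizer. -/
theorem normalizer_le_normalizer_centralizer {G : Type*} [Group G] (H : Subgroup G) :
    Subgroup.normalizer (H : Set G) ≤
      Subgroup.normalizer ((Subgroup.centralizer (H : Set G) : Subgroup G) : Set G) := by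
  intro g hg
  rw [Subgroup.mem_normalizer_iff] at hg ⊢
  intro k
  rw [Subgroup.mem_centralizer_iff, Subgroup.mem_centralizer_iff]
  constructor
  · intro hk p hp
    have h1 : g⁻¹ * p * g ∈ H := by
      rw [hg (g⁻¹ * p * g)]
      have e : g * (g⁻¹ * p * g) * g⁻¹ = p := by group
      rw [e]
      exact hp
    have h2 := hk _ h1
    calc p * (g * k * g⁻¹) = g * ((g⁻¹ * p * g) * k) * g⁻¹ := by group
      _ = g * (k * (g⁻¹ * p * g)) * g⁻¹ := by rw [h2]
      _ = g * k * g⁻¹ * p := by group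
  · intro hk p hp
    have h1 : g * p * g⁻¹ ∈ H := (hg p).mp hp
    have h2 := hk _ h1
    calc p * k = g⁻¹ * ((g * p * g⁻¹) * (g * k * g⁻¹)) * g := by group
      _ = g⁻¹ * ((g * k * g⁻¹) * (g * p * g⁻¹)) * g := by rw [h2]
      _ = k * p := by group

/-- In a cyclic group `⟨a⟩` of order `j * d` the subgroup `⟨a ^ j⟩` is the set of elements
killed by `d`. -/
theorem mem_zpowers_pow_iff {G : Type*} [Group G] (a : G) (j d : ℕ) (hd : 0 < d)
    (ha : orderOf a = j * d) (t : G) :
    t ∈ Subgroup.zpowers (a ^ j) ↔ (t ∈ Subgroup.zpowers a ∧ t ^ d = 1) := by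
  constructor
  · intro ht
    obtain ⟨i, rfl⟩ := Subgroup.mem_zpowers_iff.mp ht
    refine ⟨?_, ?_⟩
    · exact Subgroup.zpow_mem _ (Subgroup.pow_mem _ (Subgroup.mem_zpowers a) j) i
    · have h1 : a ^ (j * d) = 1 := by rw [← ha]; exact pow_orderOf_eq_one a
      calc ((a ^ j) ^ i) ^ d = (a ^ j) ^ (i * (d : ℤ)) := by rw [zpow_mul, zpow_natCast]
        _ = (a ^ j) ^ ((d : ℤ) * i) := by rw [mul_comm]
        _ = ((a ^ j) ^ (d : ℤ)) ^ i := by rw [zpow_mul]
        _ = ((a ^ j) ^ d) ^ i := by rw [zpow_natCast]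
        _ = (a ^ (j * d)) ^ i := by rw [← pow_mul]
        _ = 1 := by rw [h1, one_zpow]
  · rintro ⟨ht, htd⟩
    obtain ⟨i, rfl⟩ := Subgroup.mem_zpowers_iff.mp ht
    have h1 : (a ^ i) ^ d = a ^ (i * (d : ℤ)) := by rw [zpow_mul, zpow_natCast]
    rw [h1] at htd
    have h2 : ((orderOf a : ℕ) : ℤ) ∣ i * (d : ℤ) := orderOf_dvd_iff_zpow_eq_one.mpr htd
    rw [ha] at h2
    have h4 : ((j : ℤ) * (d : ℤ)) ∣ i * (d : ℤ) := by exact_mod_cast h2
    have hd0 : (d : ℤ) ≠ 0 := by exact_mod_cast hd.ne'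
    have h3 : (j : ℤ) ∣ i := Int.dvd_of_mul_dvd_mul_right hd0 h4
    obtain ⟨i', rfl⟩ := h3
    rw [Subgroup.mem_zpowers_iff]
    exact ⟨i', by rw [zpow_mul, zpow_natCast]⟩

/-- The normalizer of a finite cyclic group normalizes each of its subgroups. -/
theorem normalizer_zpowers_le {G : Type*} [Group G] (a : G) (j d : ℕ) (hd : 0 < d)
    (ha : orderOf a = j * d) :
    Subgroup.normalizer ((Subgroup.zpowers a : Subgroup G) : Set G) ≤
      Subgroup.normalizer ((Subgroup.zpowers (a ^ j) : Subgroup G) : Set G) := by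
  intro g hg
  rw [Subgroup.mem_normalizer_iff] at hg ⊢
  have key : ∀ g : G, (∀ h, h ∈ Subgroup.zpowers a → g * h * g⁻¹ ∈ Subgroup.zpowers a) →
      ∀ t, t ∈ Subgroup.zpowers (a ^ j) → g * t * g⁻¹ ∈ Subgroup.zpowers (a ^ j) := by
    intro g hg t ht
    rw [mem_zpowers_pow_iff a j d hd ha] at ht ⊢
    refine ⟨hg t ht.1, ?_⟩
    rw [conj_pow, ht.2, mul_one, mul_inv_cancel]
  intro t
  constructor
  · exact key g (fun h hh => (hg h).mp hh) t
  · intro ht
    have h1 := key g⁻¹ (fun h hh => by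
      refine (hg (g⁻¹ * h * g⁻¹⁻¹)).mpr ?_
      have e : g * (g⁻¹ * h * g⁻¹⁻¹) * g⁻¹ = h := by group
      rw [e]
      exact hh) (g * t * g⁻¹) ht
    have e : g⁻¹ * (g * t * g⁻¹) * g⁻¹⁻¹ = t := by group
    rw [e] at h1
    exact h1

theorem conj_smul_zpowers {G : Type*} [Group G] (g b : G) :
    MulAut.conj g • Subgroup.zpowers b = Subgroup.zpowers (g * b * g⁻¹) := by
  have e : (Subgroup.zpowers b).map (MulAut.conj g).toMonoidHom =
      Subgroup.zpowers (g * b * g⁻¹) := by
    rw [MonoidHom.map_zpowers]; rfl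
  exact e

/-- The shear map `(x, e) ↦ (x, x e)`. -/
def shearMap {G : Type*} [Mul G] (p : G × G) : G × G := (p.1, p.1 * p.2)

theorem shearMap_injective {G : Type*} [Group G] : Function.Injective (shearMap (G := G)) := by
  rintro ⟨x, e⟩ ⟨x', e'⟩ h
  have h' : (x, x * e) = (x', x' * e') := h
  obtain ⟨h1, h2⟩ := Prod.mk.inj h'
  subst h1
  have h3 := mul_left_cancel h2
  subst h3
  rfl

/-- Class number of a "dicyclic-like" group: an abelian subgroup `T` of index 2, inverted by the
elements outside, with exactly two elements of square one. -/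
theorem dicyclic_classes {G : Type*} [Group G] [Finite G] (T : Subgroup G) (z : G)
    (hidx : Nat.card G = 2 * Nat.card T)
    (hab : ∀ s ∈ T, ∀ t ∈ T, s * t = t * s)
    (hzT : z ∈ T) (hz1 : z ≠ 1) (hzz : z * z = 1)
    (hsq : ∀ t ∈ T, t * t = 1 → t = 1 ∨ t = z)
    (hinv : ∀ g : G, g ∉ T → ∀ t ∈ T, g * t * g⁻¹ = t⁻¹) :
    Nat.card (ConjClasses G) * 2 = Nat.card T + 6 := by
  classical
  have hm : 0 < Nat.card T := Nat.card_pos
  have hindex : T.index = 2 := by
    have h := Subgroup.card_mul_index T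
    rw [hidx] at h
    have h' : T.index * Nat.card T = 2 * Nat.card T := by rw [mul_comm]; exact h
    exact Nat.eq_of_mul_eq_mul_right hm h'
  have hzc : ∀ g : G, g * z = z * g := by
    intro g
    by_cases hg : g ∈ T
    · exact hab g hg z hzT
    · have h := hinv g hg z hzT
      have hzi : z⁻¹ = z := inv_eq_of_mul_eq_one_left hzz
      rw [hzi] at h
      calc g * z = (g * z * g⁻¹) * g := by group
        _ = z * g := by rw [h]
  have hkey : ∀ g : G, g ∉ T → ∀ t ∈ T, g * t = t * g → t = 1 ∨ t = z := by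
    intro g hg t ht hc
    apply hsq t ht
    have h := hinv g hg t ht
    have h2 : g * t * g⁻¹ = t := by rw [hc]; group
    rw [h2] at h
    calc t * t = t * t⁻¹ := by rw [← h]
      _ = 1 := mul_inv_cancel t
  have hZ0T : ∀ u : G, u ∈ ({1, z} : Set G) → u ∈ T := by
    rintro u (rfl | rfl)
    · exact T.one_mem
    · exact hzT
  have hC : {p : G × G | Commute p.1 p.2} =
      (((T : Set G) ×ˢ (T : Set G)) ∪ (({1, z} : Set G) ×ˢ (T : Set G)ᶜ)) ∪
        (((T : Set G)ᶜ ×ˢ ({1, z} : Set G)) ∪ shearMap '' ((T : Set G)ᶜ ×ˢ ({1, z} : Set G))) := by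
    ext ⟨x, y⟩
    constructor
    · intro hxy
      have hxy' : x * y = y * x := hxy
      by_cases hx : x ∈ T
      · apply Set.mem_union_left
        by_cases hy : y ∈ T
        · exact Set.mem_union_left _ (Set.mk_mem_prod hx hy)
        · apply Set.mem_union_right
          refine Set.mk_mem_prod ?_ hy
          rcases hkey y hy x hx hxy'.symm with h | h
          · exact Or.inl h
          · exact Or.inr h
      · apply Set.mem_union_right
        by_cases hy : y ∈ T
        · apply Set.mem_union_left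
          refine Set.mk_mem_prod hx ?_
          rcases hkey x hx y hy hxy' with h | h
          · exact Or.inl h
          · exact Or.inr h
        · apply Set.mem_union_right
          have he : x⁻¹ * y ∈ T :=
            (Subgroup.mul_mem_iff_of_index_two hindex).mpr
              ⟨fun h => absurd (T.inv_mem_iff.mp h) hx, fun h => absurd h hy⟩
          have hec : x * (x⁻¹ * y) = (x⁻¹ * y) * x := by
            calc x * (x⁻¹ * y) = x⁻¹ * (x * y) := by group
              _ = x⁻¹ * (y * x) := by rw [hxy']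
              _ = (x⁻¹ * y) * x := by group
          refine ⟨(x, x⁻¹ * y), Set.mk_mem_prod hx ?_, ?_⟩
          · rcases hkey x hx _ he hec with h | h
            · exact Or.inl h
            · exact Or.inr h
          · show (x, x * (x⁻¹ * y)) = (x, y)
            rw [mul_inv_cancel_left]
    · rintro ((⟨hx, hy⟩ | ⟨hx, hy⟩) | (⟨hx, hy⟩ | ⟨⟨x', e⟩, ⟨hx', he⟩, h⟩))
      · show Commute x y
        exact hab x hx y hy
      · show Commute x y
        rcases hx with h | h
        · rw [show x = 1 from h]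
          exact Commute.one_left y
        · rw [show x = z from h]
          exact (hzc y).symm
      · show Commute x y
        rcases hy with h | h
        · rw [show y = 1 from h]
          exact Commute.one_right x
        · rw [show y = z from h]
          exact hzc x
      · have h' : (x', x' * e) = (x, y) := h
        obtain ⟨h1, h2⟩ := Prod.mk.inj h'
        show Commute x y
        rw [← h1, ← h2]
        have hce : x' * e = e * x' := by
          rcases he with h | h
          · rw [show e = 1 from h, mul_one, one_mul]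
          · rw [show e = z from h]
            exact hzc x'
        show x' * (x' * e) = x' * e * x'
        calc x' * (x' * e) = x' * (e * x') := by rw [hce]
          _ = x' * e * x' := by group
  have hd1 : Disjoint ((T : Set G) ×ˢ (T : Set G)) (({1, z} : Set G) ×ˢ (T : Set G)ᶜ) := by
    rw [Set.disjoint_left]
    rintro ⟨x, y⟩ ⟨-, hy⟩ ⟨-, hy'⟩
    have hy'' : y ∉ T := hy'
    exact hy'' hy
  have hd2 : Disjoint ((T : Set G)ᶜ ×ˢ ({1, z} : Set G))
      (shearMap '' ((T : Set G)ᶜ ×ˢ ({1, z} : Set G))) := by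
    rw [Set.disjoint_left]
    rintro ⟨x, y⟩ ⟨hx, hy⟩ ⟨⟨x', e⟩, ⟨hx', he⟩, h⟩
    have h' : (x', x' * e) = (x, y) := h
    obtain ⟨h1, h2⟩ := Prod.mk.inj h'
    have hx'' : x' ∉ T := hx'
    apply hx''
    have hyT : x' * e ∈ T := by rw [h2]; exact hZ0T _ hy
    have h3 := T.mul_mem hyT (T.inv_mem (hZ0T _ he))
    have e1 : x' * e * e⁻¹ = x' := by group
    rw [e1] at h3
    exact h3
  have hd3 : Disjoint (((T : Set G) ×ˢ (T : Set G)) ∪ (({1, z} : Set G) ×ˢ (T : Set G)ᶜ))
      (((T : Set G)ᶜ ×ˢ ({1, z} : Set G)) ∪ shearMap '' ((T : Set G)ᶜ ×ˢ ({1, z} : Set G))) := by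
    rw [Set.disjoint_left]
    rintro ⟨x, y⟩ hA hB
    have hxT : x ∈ T := by
      rcases hA with ⟨hx, -⟩ | ⟨hx, -⟩
      · exact hx
      · exact hZ0T _ hx
    rcases hB with ⟨hx', -⟩ | ⟨⟨x', e⟩, ⟨hx', -⟩, h⟩
    · have hx'' : x ∉ T := hx'
      exact hx'' hxT
    · have h' : (x', x' * e) = (x, y) := h
      obtain ⟨h1, -⟩ := Prod.mk.inj h'
      have hx'' : x' ∉ T := hx'
      apply hx''
      rw [h1]
      exact hxT
  have hcT : (T : Set G).ncard = Nat.card T := (Nat.card_coe_set_eq (T : Set G)).symm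
  have hcTc : ((T : Set G)ᶜ).ncard = Nat.card T := by
    have h := Set.ncard_add_ncard_compl (T : Set G)
    rw [hcT, hidx] at h
    omega
  have hcZ : ({1, z} : Set G).ncard = 2 := Set.ncard_pair (Ne.symm hz1)
  have hcard : Nat.card {p : G × G // Commute p.1 p.2} =
      Nat.card T * Nat.card T + 2 * Nat.card T + (Nat.card T * 2 + Nat.card T * 2) := by
    show Nat.card ({p : G × G | Commute p.1 p.2} : Set (G × G)) = _
    rw [Nat.card_coe_set_eq, hC, Set.ncard_union_eq hd3 (Set.toFinite _) (Set.toFinite _),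
      Set.ncard_union_eq hd1 (Set.toFinite _) (Set.toFinite _),
      Set.ncard_union_eq hd2 (Set.toFinite _) (Set.toFinite _),
      Set.ncard_image_of_injective _ shearMap_injective, Set.ncard_prod, Set.ncard_prod,
      Set.ncard_prod, hcT, hcTc, hcZ]
  have hmain := card_comm_eq_card_conjClasses_mul_card G
  rw [hcard, hidx] at hmain
  have h' : (Nat.card (ConjClasses G) * 2) * Nat.card T = (Nat.card T + 6) * Nat.card T := by
    calc (Nat.card (ConjClasses G) * 2) * Nat.card T
        = Nat.card (ConjClasses G) * (2 * Nat.card T) := by ring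
      _ = Nat.card T * Nat.card T + 2 * Nat.card T + (Nat.card T * 2 + Nat.card T * 2) :=
          hmain.symm
      _ = (Nat.card T + 6) * Nat.card T := by ring
  exact Nat.eq_of_mul_eq_mul_right hm h'

/-! ### Arithmetic -/

theorem arith_aux_split (q c : ℕ) (hq : 1 < q)
    (h : c * (q * (q - 1) + 2 * q) = q * (q ^ 2 - 1)) : c = q - 1 := by
  obtain ⟨m, rfl⟩ : ∃ m, q = m + 2 := ⟨q - 2, by omega⟩
  have e1 : m + 2 - 1 = m + 1 := by omega
  have e2 : (m + 2) ^ 2 - 1 = (m + 3) * (m + 1) := by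
    apply Nat.sub_eq_of_eq_add; ring
  rw [e1, e2] at h
  rw [e1]
  have h' : c * ((m + 2) * (m + 3)) = (m + 1) * ((m + 2) * (m + 3)) := by
    calc c * ((m + 2) * (m + 3)) = c * ((m + 2) * (m + 1) + 2 * (m + 2)) := by ring
      _ = (m + 2) * ((m + 3) * (m + 1)) := h
      _ = (m + 1) * ((m + 2) * (m + 3)) := by ring
  exact Nat.eq_of_mul_eq_mul_right (by positivity) h'

theorem sq_sub_one_eq (q : ℕ) (hq : 1 ≤ q) : q ^ 2 - 1 = (q - 1) * (q + 1) := by
  obtain ⟨n, rfl⟩ : ∃ n, q = n + 1 := ⟨q - 1, by omega⟩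
  rw [Nat.add_sub_cancel]
  apply Nat.sub_eq_of_eq_add
  ring

/-! ### Tori in `SL₂` -/

open Matrix

variable {F : Type*} [Field F]

theorem mulVec_two (g1 g2 g3 g4 x y : F) :
    (!![g1, g2; g3, g4] : Matrix (Fin 2) (Fin 2) F).mulVec ![x, y] =
      ![g1 * x + g2 * y, g3 * x + g4 * y] := by
  ext i
  fin_cases i <;> simp [Matrix.mulVec, dotProduct, Fin.sum_univ_two]

theorem smul_two (c x y : F) : c • ![x, y] = ![c * x, c * y] := by
  ext i
  fin_cases i <;> simp

/-- Elements commuting with a non-scalar `x` are of the form `α + β x`. -/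
theorem torus_form (x t : Matrix.SpecialLinearGroup (Fin 2) F) (hx : ¬ Sl2Scalar x)
    (a b c d : F) (hxe : (x : Matrix (Fin 2) (Fin 2) F) = !![a, b; c, d])
    (ht : x * t = t * x) :
    ∃ α β : F, (t : Matrix (Fin 2) (Fin 2) F) = !![α + β * a, β * b; β * c, α + β * d] := by
  obtain ⟨α, β, h⟩ := sl2_commutant x t hx ht
  refine ⟨α, β, ?_⟩
  rw [h, hxe]
  ext i j
  fin_cases i <;> fin_cases j <;> simp

theorem torus_comm_of_form (x t : Matrix.SpecialLinearGroup (Fin 2) F)
    (a b c d : F) (hxe : (x : Matrix (Fin 2) (Fin 2) F) = !![a, b; c, d]) (α β : F)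
    (hte : (t : Matrix (Fin 2) (Fin 2) F) = !![α + β * a, β * b; β * c, α + β * d]) :
    x * t = t * x := by
  rw [sl2_mul_eq_iff, hxe, hte, Matrix.mul_fin_two, Matrix.mul_fin_two]
  apply S5016.mat2_ext <;> ring

/-- Two elements commuting with a non-scalar element commute. -/
theorem torus_comm (x s t : Matrix.SpecialLinearGroup (Fin 2) F) (hx : ¬ Sl2Scalar x)
    (hs : x * s = s * x) (ht : x * t = t * x) : s * t = t * s := by
  obtain ⟨a, b, c, d, hxe, -⟩ := sl2_eta x
  obtain ⟨α, β, hse⟩ := torus_form x s hx a b c d hxe hs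
  obtain ⟨α', β', hte⟩ := torus_form x t hx a b c d hxe ht
  rw [sl2_mul_eq_iff, hse, hte, Matrix.mul_fin_two, Matrix.mul_fin_two]
  apply S5016.mat2_ext <;> ring

/-- A non-scalar element of the centralizer of a non-scalar `x` has the same centralizer. -/
theorem torus_cent_eq (x y : Matrix.SpecialLinearGroup (Fin 2) F) (hx : ¬ Sl2Scalar x)
    (hy : ¬ Sl2Scalar y) (hxy : x * y = y * x) :
    Subgroup.centralizer ({y} : Set (Matrix.SpecialLinearGroup (Fin 2) F)) =
      Subgroup.centralizer ({x} : Set (Matrix.SpecialLinearGroup (Fin 2) F)) := by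
  obtain ⟨α, β, h⟩ := sl2_commutant x y hx hxy
  have hβ : β ≠ 0 := by
    rintro rfl
    apply hy
    unfold Sl2Scalar
    refine ⟨?_, ?_, ?_⟩ <;> rw [h] <;> simp
  ext k
  rw [Subgroup.mem_centralizer_singleton_iff, Subgroup.mem_centralizer_singleton_iff]
  exact (sl2_comm_iff_of_form x y k α β hβ h).symm

/-- A subgroup of the centralizer of `a` containing a non-scalar element has centralizer `C(a)`. -/
theorem torus_cent_subgroup (a : Matrix.SpecialLinearGroup (Fin 2) F) (ha : ¬ Sl2Scalar a)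
    (P : Subgroup (Matrix.SpecialLinearGroup (Fin 2) F))
    (hP : P ≤ Subgroup.centralizer ({a} : Set (Matrix.SpecialLinearGroup (Fin 2) F)))
    (x : Matrix.SpecialLinearGroup (Fin 2) F) (hxP : x ∈ P) (hx : ¬ Sl2Scalar x) :
    Subgroup.centralizer (P : Set (Matrix.SpecialLinearGroup (Fin 2) F)) =
      Subgroup.centralizer ({a} : Set (Matrix.SpecialLinearGroup (Fin 2) F)) := by
  have hxa : a * x = x * a := (Subgroup.mem_centralizer_singleton_iff.mp (hP hxP)).symm
  apply le_antisymm
  · intro k hk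
    rw [Subgroup.mem_centralizer_iff] at hk
    have h1 : k ∈ Subgroup.centralizer ({x} : Set (Matrix.SpecialLinearGroup (Fin 2) F)) :=
      Subgroup.mem_centralizer_singleton_iff.mpr (hk x hxP).symm
    rw [torus_cent_eq a x ha hx hxa] at h1
    exact h1
  · intro k hk
    rw [Subgroup.mem_centralizer_iff]
    intro p hp
    have hpa : a * p = p * a := (Subgroup.mem_centralizer_singleton_iff.mp (hP hp)).symm
    have hka : a * k = k * a := (Subgroup.mem_centralizer_singleton_iff.mp hk).symm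
    exact torus_comm a p k ha hpa hka

/-- In odd characteristic a regular semisimple element is conjugate to its inverse. -/
theorem torus_inverter [Fintype F] (hodd : Odd (Fintype.card F))
    (x : Matrix.SpecialLinearGroup (Fin 2) F)
    (h4 : (x : Matrix (Fin 2) (Fin 2) F).trace ^ 2 ≠ 4) :
    ∃ w : Matrix.SpecialLinearGroup (Fin 2) F, w * x * w⁻¹ = x⁻¹ := by
  have hconj : IsConj x x⁻¹ :=
    sl2_odd_isConj_of_trace hodd x x⁻¹ (S0809.trace_inv x).symm h4
  exact isConj_iff.mp hconj

/-- An element inverting `x` inverts the whole centralizer of `x`. -/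
theorem torus_inv_conj (x t g : Matrix.SpecialLinearGroup (Fin 2) F) (hx : ¬ Sl2Scalar x)
    (ht : x * t = t * x) (hg : g * x * g⁻¹ = x⁻¹) : g * t * g⁻¹ = t⁻¹ := by
  obtain ⟨a, b, c, d, hxe, hdet⟩ := sl2_eta x
  obtain ⟨α, β, hte⟩ := torus_form x t hx a b c d hxe ht
  obtain ⟨g1, g2, g3, g4, hge, -⟩ := sl2_eta g
  have hg' : g * x = x⁻¹ * g := by
    calc g * x = (g * x * g⁻¹) * g := by group
      _ = x⁻¹ * g := by rw [hg]
  have hxi : ((x⁻¹ : Matrix.SpecialLinearGroup (Fin 2) F) : Matrix (Fin 2) (Fin 2) F) =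
      !![d, -b; -c, a] := by
    rw [Matrix.SpecialLinearGroup.coe_inv, hxe, Matrix.adjugate_fin_two_of]
  have hti : ((t⁻¹ : Matrix.SpecialLinearGroup (Fin 2) F) : Matrix (Fin 2) (Fin 2) F) =
      !![α + β * d, -(β * b); -(β * c), α + β * a] := by
    rw [Matrix.SpecialLinearGroup.coe_inv, hte, Matrix.adjugate_fin_two_of]
  rw [sl2_mul_eq_iff, hge, hxe, hxi, Matrix.mul_fin_two, Matrix.mul_fin_two] at hg'
  obtain ⟨E1, E2, E3, E4⟩ := S5016.mat2_inj hg'
  have key : g * t = t⁻¹ * g := by
    rw [sl2_mul_eq_iff, hge, hte, hti, Matrix.mul_fin_two, Matrix.mul_fin_two]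
    apply S5016.mat2_ext
    · linear_combination β * E1
    · linear_combination β * E2
    · linear_combination β * E3
    · linear_combination β * E4
  rw [key]
  group

/-- An element of the centralizer of a regular `x` with the same trace is `x` or `x⁻¹`. -/
theorem torus_same_trace (h2 : (2 : F) ≠ 0) (x y : Matrix.SpecialLinearGroup (Fin 2) F)
    (h4 : (x : Matrix (Fin 2) (Fin 2) F).trace ^ 2 ≠ 4) (hx : ¬ Sl2Scalar x)
    (hxy : x * y = y * x)
    (htr : (y : Matrix (Fin 2) (Fin 2) F).trace = (x : Matrix (Fin 2) (Fin 2) F).trace) :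
    y = x ∨ y = x⁻¹ := by
  obtain ⟨a, b, c, d, hxe, hdet⟩ := sl2_eta x
  obtain ⟨α, β, hye⟩ := torus_form x y hx a b c d hxe hxy
  have hD := y.det_coe
  rw [hye, Matrix.det_fin_two_of] at hD
  rw [hye, hxe, Matrix.trace_fin_two_of, Matrix.trace_fin_two_of] at htr
  rw [hxe, Matrix.trace_fin_two_of] at h4
  have hkey : (1 - β ^ 2) * ((a + d) ^ 2 - 4) = 0 := by
    linear_combination 4 * hD - 4 * β ^ 2 * hdet - (2 * α + β * (a + d) + (a + d)) * htr
  have hβ : (β - 1) * (β + 1) = 0 := by
    rcases mul_eq_zero.mp hkey with h | h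
    · linear_combination -h
    · exact absurd (by linear_combination h) h4
  rcases mul_eq_zero.mp hβ with h | h
  · left
    have hβ1 : β = 1 := by linear_combination h
    have hα : α = 0 := by
      have h' : (2 : F) * α = 0 := by linear_combination htr - (a + d) * h
      rcases mul_eq_zero.mp h' with h'' | h''
      · exact absurd h'' h2
      · exact h''
    apply Subtype.ext
    rw [hye, hxe, hβ1, hα]
    apply S5016.mat2_ext <;> ring
  · right
    have hβ1 : β = -1 := by linear_combination h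
    have hα : α = a + d := by
      have h' : (2 : F) * (α - (a + d)) = 0 := by linear_combination htr - (a + d) * h
      rcases mul_eq_zero.mp h' with h'' | h''
      · exact absurd h'' h2
      · linear_combination h''
    apply Subtype.ext
    rw [Matrix.SpecialLinearGroup.coe_inv, hye, hxe, Matrix.adjugate_fin_two_of, hβ1, hα]
    apply S5016.mat2_ext <;> ring

/-- An element inverting `x` normalizes the centralizer of `x`. -/
theorem torus_inverter_mem_normalizer (x w : Matrix.SpecialLinearGroup (Fin 2) F)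
    (hx : ¬ Sl2Scalar x) (hw : w * x * w⁻¹ = x⁻¹) :
    w ∈ Subgroup.normalizer
      ((Subgroup.centralizer ({x} : Set (Matrix.SpecialLinearGroup (Fin 2) F)) :
        Subgroup (Matrix.SpecialLinearGroup (Fin 2) F)) :
        Set (Matrix.SpecialLinearGroup (Fin 2) F)) := by
  have hw' : w⁻¹ * x * w⁻¹⁻¹ = x⁻¹ := by
    have h1 : x = w⁻¹ * x⁻¹ * w := by rw [← hw]; group
    calc w⁻¹ * x * w⁻¹⁻¹ = (w⁻¹ * x⁻¹ * w)⁻¹ := by group
      _ = x⁻¹ := by rw [← h1]
  rw [Subgroup.mem_normalizer_iff]
  intro k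
  rw [Subgroup.mem_centralizer_singleton_iff, Subgroup.mem_centralizer_singleton_iff]
  constructor
  · intro hk
    rw [torus_inv_conj x k w hx hk.symm hw]
    calc k⁻¹ * x = k⁻¹ * (x * k) * k⁻¹ := by group
      _ = k⁻¹ * (k * x) * k⁻¹ := by rw [hk]
      _ = x * k⁻¹ := by group
  · intro hk
    have h1 := torus_inv_conj x (w * k * w⁻¹) w⁻¹ hx hk.symm hw'
    have h2 : w⁻¹ * (w * k * w⁻¹) * w⁻¹⁻¹ = k := by group
    rw [h2] at h1
    have h3 : (w * k * w⁻¹)⁻¹ * x = x * (w * k * w⁻¹)⁻¹ := by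
      calc (w * k * w⁻¹)⁻¹ * x
          = (w * k * w⁻¹)⁻¹ * (x * (w * k * w⁻¹)) * (w * k * w⁻¹)⁻¹ := by group
        _ = (w * k * w⁻¹)⁻¹ * ((w * k * w⁻¹) * x) * (w * k * w⁻¹)⁻¹ := by rw [hk]
        _ = x * (w * k * w⁻¹)⁻¹ := by group
    rw [← h1] at h3
    exact h3

/-- Elements of the normalizer of the torus outside the torus invert `x`. -/
theorem torus_inverts (h2 : (2 : F) ≠ 0) (x g : Matrix.SpecialLinearGroup (Fin 2) F)
    (h4 : (x : Matrix (Fin 2) (Fin 2) F).trace ^ 2 ≠ 4)
    (hg : g ∈ Subgroup.normalizer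
      ((Subgroup.centralizer ({x} : Set (Matrix.SpecialLinearGroup (Fin 2) F)) :
        Subgroup (Matrix.SpecialLinearGroup (Fin 2) F)) :
        Set (Matrix.SpecialLinearGroup (Fin 2) F)))
    (hgK : g ∉ Subgroup.centralizer ({x} : Set (Matrix.SpecialLinearGroup (Fin 2) F))) :
    g * x * g⁻¹ = x⁻¹ := by
  have hx : ¬ Sl2Scalar x := fun hs => h4 (sl2Scalar_trace_sq x hs)
  have hxx : x ∈ Subgroup.centralizer ({x} : Set (Matrix.SpecialLinearGroup (Fin 2) F)) :=
    Subgroup.mem_centralizer_singleton_iff.mpr rfl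
  have hy : g * x * g⁻¹ ∈
      Subgroup.centralizer ({x} : Set (Matrix.SpecialLinearGroup (Fin 2) F)) :=
    (Subgroup.mem_normalizer_iff.mp hg x).mp hxx
  rw [Subgroup.mem_centralizer_singleton_iff] at hy
  rcases torus_same_trace h2 x (g * x * g⁻¹) h4 hx hy.symm (sl2_trace_conj g x) with h | h
  · exfalso
    apply hgK
    rw [Subgroup.mem_centralizer_singleton_iff]
    calc g * x = (g * x * g⁻¹) * g := by group
      _ = x * g := by rw [h]
  · exact h

theorem torus_normalizer_iff (h2 : (2 : F) ≠ 0) (x w : Matrix.SpecialLinearGroup (Fin 2) F)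
    (h4 : (x : Matrix (Fin 2) (Fin 2) F).trace ^ 2 ≠ 4)
    (hw : w * x * w⁻¹ = x⁻¹) (g : Matrix.SpecialLinearGroup (Fin 2) F) :
    g ∈ Subgroup.normalizer
      ((Subgroup.centralizer ({x} : Set (Matrix.SpecialLinearGroup (Fin 2) F)) :
        Subgroup (Matrix.SpecialLinearGroup (Fin 2) F)) :
        Set (Matrix.SpecialLinearGroup (Fin 2) F)) ↔
      (g ∈ Subgroup.centralizer ({x} : Set (Matrix.SpecialLinearGroup (Fin 2) F)) ∨
        w⁻¹ * g ∈ Subgroup.centralizer ({x} : Set (Matrix.SpecialLinearGroup (Fin 2) F))) := by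
  have hx : ¬ Sl2Scalar x := fun hs => h4 (sl2Scalar_trace_sq x hs)
  have hwN := torus_inverter_mem_normalizer x w hx hw
  constructor
  · intro hg
    by_cases hgK : g ∈ Subgroup.centralizer ({x} : Set (Matrix.SpecialLinearGroup (Fin 2) F))
    · exact Or.inl hgK
    · right
      have h := torus_inverts h2 x g h4 hg hgK
      rw [Subgroup.mem_centralizer_singleton_iff]
      have hw2 : w⁻¹ * x⁻¹ = x * w⁻¹ := by
        rw [← hw]; group
      calc w⁻¹ * g * x = w⁻¹ * (g * x * g⁻¹) * g := by group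
        _ = w⁻¹ * x⁻¹ * g := by rw [h]
        _ = x * w⁻¹ * g := by rw [hw2]
        _ = x * (w⁻¹ * g) := by group
  · rintro (hg | hg)
    · exact Subgroup.le_normalizer hg
    · have h1 := Subgroup.mul_mem _ hwN (Subgroup.le_normalizer hg)
      have h3 : w * (w⁻¹ * g) = g := by group
      rw [h3] at h1
      exact h1

theorem torus_ne_inv [Fintype F] (hodd : Odd (Fintype.card F))
    (x : Matrix.SpecialLinearGroup (Fin 2) F) (hx : ¬ Sl2Scalar x) : x ≠ x⁻¹ := by
  intro h
  apply hx
  have h1 : x * x = 1 := by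
    nth_rewrite 2 [h]
    exact mul_inv_cancel x
  exact (S0805.mem_center_iff_scalar x).mp (S0807.central_of_sq_one hodd x h1)

/-- `|N(C(x))| = 2 |C(x)|` for regular semisimple `x` in odd characteristic. -/
theorem torus_card_normalizer [Fintype F] (hodd : Odd (Fintype.card F))
    (x : Matrix.SpecialLinearGroup (Fin 2) F)
    (h4 : (x : Matrix (Fin 2) (Fin 2) F).trace ^ 2 ≠ 4) :
    Nat.card (Subgroup.normalizer
      ((Subgroup.centralizer ({x} : Set (Matrix.SpecialLinearGroup (Fin 2) F)) :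
        Subgroup (Matrix.SpecialLinearGroup (Fin 2) F)) :
        Set (Matrix.SpecialLinearGroup (Fin 2) F))) =
      2 * Nat.card (Subgroup.centralizer ({x} : Set (Matrix.SpecialLinearGroup (Fin 2) F))) := by
  have h2 : (2 : F) ≠ 0 := two_ne_zero_of_odd hodd
  have hx : ¬ Sl2Scalar x := fun hs => h4 (sl2Scalar_trace_sq x hs)
  obtain ⟨w, hw⟩ := torus_inverter hodd x h4
  have hwK : w ∉ Subgroup.centralizer ({x} : Set (Matrix.SpecialLinearGroup (Fin 2) F)) := by
    intro hmem
    rw [Subgroup.mem_centralizer_singleton_iff] at hmem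
    apply torus_ne_inv hodd x hx
    calc x = w * x * w⁻¹ := by rw [hmem]; group
      _ = x⁻¹ := hw
  exact card_of_cover_two _ _ w hwK (torus_normalizer_iff h2 x w h4 hw)

/-- Elements of `N(C(x))` outside `C(x)` square to `-1`. -/
theorem torus_sq [Fintype F] (hodd : Odd (Fintype.card F))
    (x g : Matrix.SpecialLinearGroup (Fin 2) F)
    (h4 : (x : Matrix (Fin 2) (Fin 2) F).trace ^ 2 ≠ 4)
    (hg : g ∈ Subgroup.normalizer
      ((Subgroup.centralizer ({x} : Set (Matrix.SpecialLinearGroup (Fin 2) F)) :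
        Subgroup (Matrix.SpecialLinearGroup (Fin 2) F)) :
        Set (Matrix.SpecialLinearGroup (Fin 2) F)))
    (hgK : g ∉ Subgroup.centralizer ({x} : Set (Matrix.SpecialLinearGroup (Fin 2) F))) :
    g * g = sl2NegOne := by
  have h2 : (2 : F) ≠ 0 := two_ne_zero_of_odd hodd
  have hx : ¬ Sl2Scalar x := fun hs => h4 (sl2Scalar_trace_sq x hs)
  have hinv := torus_inverts h2 x g h4 hg hgK
  have e1 : g * x = x⁻¹ * g := by
    calc g * x = (g * x * g⁻¹) * g := by group
      _ = x⁻¹ * g := by rw [hinv]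
  have e2 : g * x⁻¹ = x * g := by
    calc g * x⁻¹ = (g * x * g⁻¹)⁻¹ * g := by group
      _ = x * g := by rw [hinv, inv_inv]
  have hgg : x * (g * g) = (g * g) * x := by
    calc x * (g * g) = (x * g) * g := by group
      _ = g * x⁻¹ * g := by rw [e2]
      _ = g * (x⁻¹ * g) := by group
      _ = g * (g * x) := by rw [e1]
      _ = (g * g) * x := by group
  have h5 := torus_inv_conj x (g * g) g hx hgg hinv
  have h6 : g * (g * g) * g⁻¹ = g * g := by group
  rw [h6] at h5
  have h7 : (g * g) * (g * g) = 1 := by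
    calc (g * g) * (g * g) = (g * g) * (g * g)⁻¹ := by rw [← h5]
      _ = 1 := mul_inv_cancel _
  have h8 := S0807.central_of_sq_one hodd (g * g) h7
  rcases sl2_center_cases (g * g) h8 with h | h
  · exfalso
    apply hgK
    have h9 := S0807.central_of_sq_one hodd g h
    rw [Subgroup.mem_centralizer_singleton_iff]
    exact (Subgroup.mem_center_iff.mp h9 x).symm
  · exact h

/-- Centralizer order times class size, for regular semisimple elements. -/
theorem torus_card_mul [Fintype F] (hodd : Odd (Fintype.card F))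
    (x : Matrix.SpecialLinearGroup (Fin 2) F)
    (h4 : (x : Matrix (Fin 2) (Fin 2) F).trace ^ 2 ≠ 4) :
    Nat.card (Subgroup.centralizer ({x} : Set (Matrix.SpecialLinearGroup (Fin 2) F))) *
      (Fintype.card F * (Fintype.card F - 1) +
        Nat.card {z : F // z ^ 2 - (x : Matrix (Fin 2) (Fin 2) F).trace * z + 1 = 0} *
          Fintype.card F) =
      Fintype.card F * (Fintype.card F ^ 2 - 1) := by
  have h1 := Subgroup.card_mul_index
    (Subgroup.centralizer ({x} : Set (Matrix.SpecialLinearGroup (Fin 2) F)))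
  rw [index_centralizer_eq_card_carrier, sl2_odd_card_carrier hodd x h4, sl2_card] at h1
  exact h1

/-- The non-split torus has order `q + 1`. -/
theorem torus_card_irr [Fintype F] (hodd : Odd (Fintype.card F))
    (x : Matrix.SpecialLinearGroup (Fin 2) F)
    (hirr : ∀ z : F, z ^ 2 - (x : Matrix (Fin 2) (Fin 2) F).trace * z + 1 ≠ 0) :
    Nat.card (Subgroup.centralizer ({x} : Set (Matrix.SpecialLinearGroup (Fin 2) F))) =
      Fintype.card F + 1 := by
  have h4 := sq_ne_four_of_no_root _ hirr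
  have h1 := torus_card_mul hodd x h4
  rw [card_roots_none _ hirr] at h1
  exact S2503.arith_aux _ _ Fintype.one_lt_card h1

theorem sq_ne_four_of_split (t lam : F) (hl : lam ^ 2 - t * lam + 1 = 0) (hne : lam ≠ t - lam) :
    t ^ 2 ≠ 4 := by
  intro h
  apply hne
  have h1 : (lam - (t - lam)) ^ 2 = 0 := by linear_combination 4 * hl + h
  have h2 := (pow_eq_zero_iff (two_ne_zero)).mp h1
  linear_combination h2

/-- The split torus has order `q - 1`. -/
theorem torus_card_split [Fintype F] (hodd : Odd (Fintype.card F))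
    (x : Matrix.SpecialLinearGroup (Fin 2) F) (lam : F)
    (hl : lam ^ 2 - (x : Matrix (Fin 2) (Fin 2) F).trace * lam + 1 = 0)
    (hne : lam ≠ (x : Matrix (Fin 2) (Fin 2) F).trace - lam) :
    Nat.card (Subgroup.centralizer ({x} : Set (Matrix.SpecialLinearGroup (Fin 2) F))) =
      Fintype.card F - 1 := by
  have h4 := sq_ne_four_of_split _ lam hl hne
  have h1 := torus_card_mul hodd x h4
  rw [card_roots_two _ lam hl hne] at h1
  exact arith_aux_split _ _ Fintype.one_lt_card h1

/-- Class number of the normalizer of a torus. -/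
theorem torus_classes_aux [Fintype F] (hodd : Odd (Fintype.card F))
    (x : Matrix.SpecialLinearGroup (Fin 2) F)
    (h4 : (x : Matrix (Fin 2) (Fin 2) F).trace ^ 2 ≠ 4)
    (K N : Subgroup (Matrix.SpecialLinearGroup (Fin 2) F))
    (hK : K = Subgroup.centralizer ({x} : Set (Matrix.SpecialLinearGroup (Fin 2) F)))
    (hN : N = Subgroup.normalizer (K : Set (Matrix.SpecialLinearGroup (Fin 2) F))) :
    Nat.card (ConjClasses N) * 2 = Nat.card K + 6 := by
  have h2 : (2 : F) ≠ 0 := two_ne_zero_of_odd hodd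
  have hx : ¬ Sl2Scalar x := fun hs => h4 (sl2Scalar_trace_sq x hs)
  have hKN : K ≤ N := by rw [hN]; exact Subgroup.le_normalizer
  have hmemK : ∀ t : Matrix.SpecialLinearGroup (Fin 2) F, t ∈ K ↔ t * x = x * t := by
    intro t; rw [hK, Subgroup.mem_centralizer_singleton_iff]
  have hzK : (sl2NegOne : Matrix.SpecialLinearGroup (Fin 2) F) ∈ K :=
    (hmemK _).mpr (S0807.negOne_comm x).symm
  have hcardT : Nat.card (K.subgroupOf N) = Nat.card K :=
    Nat.card_congr (Subgroup.subgroupOfEquivOfLe hKN).toEquiv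
  have hcardN : Nat.card N = 2 * Nat.card K := by
    rw [hN, hK]; exact torus_card_normalizer hodd x h4
  have key := dicyclic_classes (K.subgroupOf N) (⟨sl2NegOne, hKN hzK⟩ : N)
    (by rw [hcardT]; exact hcardN)
    (by
      intro s hs t ht
      rw [Subgroup.mem_subgroupOf, hmemK] at hs ht
      apply Subtype.ext
      exact torus_comm x (s : Matrix.SpecialLinearGroup (Fin 2) F)
        (t : Matrix.SpecialLinearGroup (Fin 2) F) hx hs.symm ht.symm)
    (by rw [Subgroup.mem_subgroupOf]; exact hzK)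
    (by
      intro h
      exact sl2NegOne_ne_one h2 (congrArg Subtype.val h))
    (Subtype.ext sl2NegOne_mul_self)
    (by
      intro t _ htt
      have h1 : (t : Matrix.SpecialLinearGroup (Fin 2) F) *
          (t : Matrix.SpecialLinearGroup (Fin 2) F) = 1 := congrArg Subtype.val htt
      rcases sl2_center_cases _ (S0807.central_of_sq_one hodd _ h1) with h | h
      · exact Or.inl (Subtype.ext h)
      · exact Or.inr (Subtype.ext h))
    (by
      intro g hg t ht
      rw [Subgroup.mem_subgroupOf] at hg ht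
      have hgN : (g : Matrix.SpecialLinearGroup (Fin 2) F) ∈ Subgroup.normalizer
          ((Subgroup.centralizer ({x} : Set (Matrix.SpecialLinearGroup (Fin 2) F)) :
            Subgroup (Matrix.SpecialLinearGroup (Fin 2) F)) :
            Set (Matrix.SpecialLinearGroup (Fin 2) F)) := by
        rw [← hK, ← hN]; exact g.2
      have hgK : (g : Matrix.SpecialLinearGroup (Fin 2) F) ∉
          Subgroup.centralizer ({x} : Set (Matrix.SpecialLinearGroup (Fin 2) F)) := by
        rw [← hK]; exact hg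
      have hinv := torus_inverts h2 x g h4 hgN hgK
      rw [hmemK] at ht
      apply Subtype.ext
      exact torus_inv_conj x t g hx ht.symm hinv)
  rw [hcardT] at key
  exact key

theorem torus_normalizer_classes [Fintype F] (hodd : Odd (Fintype.card F))
    (x : Matrix.SpecialLinearGroup (Fin 2) F)
    (h4 : (x : Matrix (Fin 2) (Fin 2) F).trace ^ 2 ≠ 4) :
    Nat.card (ConjClasses (Subgroup.normalizer
      ((Subgroup.centralizer ({x} : Set (Matrix.SpecialLinearGroup (Fin 2) F)) :
        Subgroup (Matrix.SpecialLinearGroup (Fin 2) F)) :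
        Set (Matrix.SpecialLinearGroup (Fin 2) F)))) * 2 =
      Nat.card (Subgroup.centralizer ({x} : Set (Matrix.SpecialLinearGroup (Fin 2) F))) + 6 :=
  torus_classes_aux hodd x h4 _ _ rfl rfl

/-! ### Elements of order `q + 1` -/

theorem irr_aux [Fintype F] (a : Matrix.SpecialLinearGroup (Fin 2) F)
    (ha : orderOf a = Fintype.card F + 1) (τ : F)
    (hτ : (a : Matrix (Fin 2) (Fin 2) F).trace = τ) (z : F) (hz : z ^ 2 - τ * z + 1 = 0) :
    False := by
  have hq : 1 < Fintype.card F := Fintype.one_lt_card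
  have hz0 : z ≠ 0 := by
    rintro rfl
    apply one_ne_zero (α := F)
    linear_combination hz
  have hprod : z * (τ - z) = 1 := by linear_combination -hz
  by_cases hne : z = τ - z
  · obtain ⟨p, hp⟩ := CharP.exists F
    haveI : CharP F p := hp
    haveI : Fact p.Prime := ⟨CharP.char_is_prime F p⟩
    have htr : (a : Matrix (Fin 2) (Fin 2) F).trace = 2 * z := by
      rw [hτ]; linear_combination -hne
    have hzz : z * z = 1 := by
      calc z * z = z * (τ - z) := by rw [← hne]
        _ = 1 := hprod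
    have h1 := sl2_unip_pow p a z htr hzz
    have h2 : a ^ (2 * p) = 1 := by
      apply Subtype.ext
      rw [Matrix.SpecialLinearGroup.coe_pow, Matrix.SpecialLinearGroup.coe_one, mul_comm, pow_mul,
        h1, pow_two, Matrix.smul_mul, Matrix.mul_smul, Matrix.mul_one, smul_smul, ← mul_pow, hzz,
        one_pow, one_smul]
    have hdvd : Fintype.card F + 1 ∣ 2 * p := by
      rw [← ha]; exact orderOf_dvd_of_pow_eq_one h2
    have hpq : p ∣ Fintype.card F :=
      (CharP.cast_eq_zero_iff F p _).mp (FiniteField.cast_card_eq_zero F)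
    have hple : p ≤ Fintype.card F := Nat.le_of_dvd (by omega) hpq
    have hp2 : 2 ≤ p := (Fact.out : p.Prime).two_le
    obtain ⟨k, hk⟩ := hdvd
    obtain ⟨l, hl⟩ := hpq
    rcases Nat.lt_or_ge k 2 with hk2 | hk2
    · interval_cases k
      · omega
      · rcases Nat.lt_or_ge l 2 with hl2 | hl2
        · interval_cases l
          · omega
          · omega
        · have h3 : p * 2 ≤ p * l := Nat.mul_le_mul_left p hl2
          omega
    · have h3 : (Fintype.card F + 1) * 2 ≤ (Fintype.card F + 1) * k :=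
        Nat.mul_le_mul_left _ hk2
      omega
  · have hz1 : z ^ (Fintype.card F - 1) = 1 := FiniteField.pow_card_sub_one_eq_one z hz0
    have hm0 : τ - z ≠ 0 := by
      intro h0
      rw [h0, mul_zero] at hprod
      exact zero_ne_one hprod
    have hm1 : (τ - z) ^ (Fintype.card F - 1) = 1 :=
      FiniteField.pow_card_sub_one_eq_one _ hm0
    have h1 := sl2_split_pow a z (τ - z) 1 (by rw [hτ]; ring) hprod hne (Fintype.card F - 1)
      hz1 hm1
    have h2 : a ^ (Fintype.card F - 1) = 1 := by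
      apply Subtype.ext
      rw [Matrix.SpecialLinearGroup.coe_pow, h1, one_smul, Matrix.SpecialLinearGroup.coe_one]
    have hdvd := orderOf_dvd_of_pow_eq_one h2
    rw [ha] at hdvd
    have hle := Nat.le_of_dvd (by omega) hdvd
    omega

/-- An element of order `q + 1` has irreducible characteristic polynomial. -/
theorem irr_of_order_odd [Fintype F] (a : Matrix.SpecialLinearGroup (Fin 2) F)
    (ha : orderOf a = Fintype.card F + 1) (z : F) :
    z ^ 2 - (a : Matrix (Fin 2) (Fin 2) F).trace * z + 1 ≠ 0 :=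
  fun hz => irr_aux a ha _ rfl z hz

/-! ### Eigenvectors and squares -/

theorem root_of_isSquare (h2 : (2 : F) ≠ 0) (t : F) (h : IsSquare (t ^ 2 - 4)) :
    ∃ L : F, L ^ 2 - t * L + 1 = 0 := by
  obtain ⟨s, hs⟩ := h
  have h4ne : (4 : F) ≠ 0 := by
    have e : (4 : F) = 2 * 2 := by norm_num
    rw [e]
    exact mul_ne_zero h2 h2
  obtain ⟨L, hL⟩ : ∃ L : F, 2 * L = t + s := ⟨(t + s) / 2, by field_simp⟩
  refine ⟨L, ?_⟩
  have h1 : (4 : F) * (L ^ 2 - t * L + 1) = 0 := by
    linear_combination (2 * L - t + s) * hL - hs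
  rcases mul_eq_zero.mp h1 with h' | h'
  · exact absurd h' h4ne
  · exact h'

/-- An element with an eigenvalue in `F` has an eigenvector. -/
theorem no_root_of_no_eigenvector (g : Matrix.SpecialLinearGroup (Fin 2) F)
    (hg : ∀ (c : F) (v : Fin 2 → F), v ≠ 0 →
      (g : Matrix (Fin 2) (Fin 2) F).mulVec v ≠ c • v) (L : F) :
    L ^ 2 - (g : Matrix (Fin 2) (Fin 2) F).trace * L + 1 ≠ 0 := by
  intro hL
  obtain ⟨g1, g2, g3, g4, hge, hgdet⟩ := sl2_eta g
  rw [hge, Matrix.trace_fin_two_of] at hL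
  by_cases hg2 : g2 = 0
  · apply hg g4 ![0, 1]
    · intro h
      have h' := congrFun h 1
      simp at h'
    · rw [hge, mulVec_two, smul_two]
      have e1 : g1 * 0 + g2 * 1 = g4 * 0 := by rw [hg2]; ring
      have e2 : g3 * 0 + g4 * 1 = g4 * 1 := by ring
      rw [e1, e2]
  · apply hg L ![g2, L - g1]
    · intro h
      have h' := congrFun h 0
      simp at h'
      exact hg2 h'
    · rw [hge, mulVec_two, smul_two]
      have e1 : g1 * g2 + g2 * (L - g1) = L * g2 := by ring
      have e2 : g3 * g2 + g4 * (L - g1) = L * (L - g1) := by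
        linear_combination -hL - hgdet
      rw [e1, e2]

/-- The quotient of two non-squares of a finite field is a square. -/
theorem exists_sq_ratio [Fintype F] (u w : F) (hu : ¬ IsSquare u) (hw : ¬ IsSquare w) :
    ∃ β : F, β ^ 2 * w = u := by
  classical
  have hu0 : u ≠ 0 := by
    rintro rfl
    exact hu ⟨0, by simp⟩
  have hw0 : w ≠ 0 := by
    rintro rfl
    exact hw ⟨0, by simp⟩
  have h1 : quadraticChar F (u * w) = 1 := by
    rw [map_mul, quadraticChar_neg_one_iff_not_isSquare.mpr hu,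
      quadraticChar_neg_one_iff_not_isSquare.mpr hw]
    norm_num
  obtain ⟨r, hr⟩ := (quadraticChar_one_iff_isSquare (mul_ne_zero hu0 hw0)).mp h1
  refine ⟨r * w⁻¹, ?_⟩
  have hi : w * w⁻¹ = 1 := mul_inv_cancel₀ hw0
  linear_combination (-(w⁻¹ ^ 2 * w)) * hr + u * (w * w⁻¹ + 1) * hi

/-- Every element without eigenvector is conjugate into the centralizer of an element `a`
with irreducible characteristic polynomial. -/
theorem conj_into_nonsplit [Fintype F] (hodd : Odd (Fintype.card F))
    (a : Matrix.SpecialLinearGroup (Fin 2) F)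
    (hirr : ∀ z : F, z ^ 2 - (a : Matrix (Fin 2) (Fin 2) F).trace * z + 1 ≠ 0)
    (g : Matrix.SpecialLinearGroup (Fin 2) F)
    (hg : ∀ (c : F) (v : Fin 2 → F), v ≠ 0 →
      (g : Matrix (Fin 2) (Fin 2) F).mulVec v ≠ c • v) :
    ∃ h : Matrix.SpecialLinearGroup (Fin 2) F,
      h * g * h⁻¹ ∈ Subgroup.centralizer ({a} : Set (Matrix.SpecialLinearGroup (Fin 2) F)) := by
  have h2 : (2 : F) ≠ 0 := two_ne_zero_of_odd hodd
  have h4ne : (4 : F) ≠ 0 := by
    have e : (4 : F) = 2 * 2 := by norm_num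
    rw [e]
    exact mul_ne_zero h2 h2
  obtain ⟨τ, hτ⟩ : ∃ τ : F, τ = (g : Matrix (Fin 2) (Fin 2) F).trace := ⟨_, rfl⟩
  obtain ⟨a1, a2, a3, a4, hae, hadet⟩ := sl2_eta a
  have hσ : (a : Matrix (Fin 2) (Fin 2) F).trace = a1 + a4 := by
    rw [hae, Matrix.trace_fin_two_of]
  have hns : ¬ IsSquare (τ ^ 2 - 4) := by
    intro hsq
    obtain ⟨L, hL⟩ := root_of_isSquare h2 τ hsq
    rw [hτ] at hL
    exact no_root_of_no_eigenvector g hg L hL
  have hnsa : ¬ IsSquare ((a1 + a4) ^ 2 - 4) := by
    intro hsq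
    obtain ⟨L, hL⟩ := root_of_isSquare h2 _ hsq
    rw [← hσ] at hL
    exact hirr L hL
  obtain ⟨β, hβ⟩ := exists_sq_ratio _ _ hns hnsa
  obtain ⟨α, hα⟩ : ∃ α : F, 2 * α = τ - β * (a1 + a4) :=
    ⟨(τ - β * (a1 + a4)) / 2, by field_simp⟩
  have hdety : (α + β * a1) * (α + β * a4) - β * a2 * (β * a3) = 1 := by
    have h1 : (4 : F) * ((α + β * a1) * (α + β * a4) - β * a2 * (β * a3) - 1) = 0 := by
      linear_combination (τ + 2 * α + β * (a1 + a4)) * hα + 4 * β ^ 2 * hadet - hβ
    rcases mul_eq_zero.mp h1 with h' | h'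
    · exact absurd h' h4ne
    · linear_combination h'
  have hcomm : a * sl2mk (α + β * a1) (β * a2) (β * a3) (α + β * a4) hdety =
      sl2mk (α + β * a1) (β * a2) (β * a3) (α + β * a4) hdety * a :=
    torus_comm_of_form a _ a1 a2 a3 a4 hae α β (sl2mk_val _ _ _ _ hdety)
  have htr : (g : Matrix (Fin 2) (Fin 2) F).trace =
      ((sl2mk (α + β * a1) (β * a2) (β * a3) (α + β * a4) hdety :
        Matrix.SpecialLinearGroup (Fin 2) F) : Matrix (Fin 2) (Fin 2) F).trace := by
    rw [sl2mk_val, Matrix.trace_fin_two_of, ← hτ]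
    linear_combination -hα
  have h4g : (g : Matrix (Fin 2) (Fin 2) F).trace ^ 2 ≠ 4 := by
    intro h
    apply hns
    refine ⟨0, ?_⟩
    rw [hτ]
    linear_combination h
  obtain ⟨c, hc⟩ := isConj_iff.mp (sl2_odd_isConj_of_trace hodd g _ htr h4g)
  refine ⟨c, ?_⟩
  rw [hc, Subgroup.mem_centralizer_singleton_iff]
  exact hcomm.symm

/-! ### Sylow subgroups for odd primes -/

theorem sylow_torus [Fintype F] (hodd : Odd (Fintype.card F)) (ℓ : ℕ) [Fact ℓ.Prime]
    (a : Matrix.SpecialLinearGroup (Fin 2) F) (m : ℕ) (ha : orderOf a = m)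
    (h4 : (a : Matrix (Fin 2) (Fin 2) F).trace ^ 2 ≠ 4)
    (hcard : ∀ b : Matrix.SpecialLinearGroup (Fin 2) F,
      (b : Matrix (Fin 2) (Fin 2) F).trace = (a : Matrix (Fin 2) (Fin 2) F).trace →
      Nat.card (Subgroup.centralizer ({b} : Set (Matrix.SpecialLinearGroup (Fin 2) F))) = m)
    (hℓ : ℓ ∣ m) (hℓ2 : ℓ ≠ 2)
    (hfac : (Nat.card (Matrix.SpecialLinearGroup (Fin 2) F)).factorization ℓ = m.factorization ℓ)
    (P : Sylow ℓ (Matrix.SpecialLinearGroup (Fin 2) F)) :
    Nat.card (Subgroup.centralizer ((P : Subgroup (Matrix.SpecialLinearGroup (Fin 2) F)) :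
        Set (Matrix.SpecialLinearGroup (Fin 2) F))) = m ∧
      IsCyclic (Subgroup.centralizer ((P : Subgroup (Matrix.SpecialLinearGroup (Fin 2) F)) :
        Set (Matrix.SpecialLinearGroup (Fin 2) F))) ∧
      Nat.card (Subgroup.normalizer ((P : Subgroup (Matrix.SpecialLinearGroup (Fin 2) F)) :
        Set (Matrix.SpecialLinearGroup (Fin 2) F))) = 2 * m := by
  have hℓp : ℓ.Prime := Fact.out
  have hm0 : 0 < m := by rw [← ha]; exact orderOf_pos a
  have hk1 : 1 ≤ m.factorization ℓ := (hℓp.dvd_iff_one_le_factorization hm0.ne').mp hℓ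
  obtain ⟨j, hj⟩ := Nat.ordProj_dvd m ℓ
  have hj' : m = j * ℓ ^ m.factorization ℓ := by rw [mul_comm]; exact hj
  have hpow : 0 < ℓ ^ m.factorization ℓ := pow_pos hℓp.pos _
  have hj0 : j ≠ 0 := by
    rintro rfl
    rw [zero_mul] at hj'
    omega
  have hoj : orderOf (a ^ j) = ℓ ^ m.factorization ℓ := by
    rw [orderOf_pow_of_dvd hj0 (by rw [ha, hj']; exact Dvd.intro _ rfl), ha]
    exact Nat.div_eq_of_eq_mul_right (Nat.pos_of_ne_zero hj0) hj'
  have hcardP1 : Nat.card (Subgroup.zpowers (a ^ j)) =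
      ℓ ^ (Nat.card (Matrix.SpecialLinearGroup (Fin 2) F)).factorization ℓ := by
    rw [Nat.card_zpowers, hoj, hfac]
  obtain ⟨g, hg⟩ := MulAction.exists_smul_eq (Matrix.SpecialLinearGroup (Fin 2) F)
    (Sylow.ofCard (Subgroup.zpowers (a ^ j)) hcardP1) P
  have hP : (P : Subgroup (Matrix.SpecialLinearGroup (Fin 2) F)) =
      Subgroup.zpowers ((g * a * g⁻¹) ^ j) := by
    rw [← hg, Sylow.coe_subgroup_smul, Sylow.coe_ofCard, conj_smul_zpowers, conj_pow]
  have ha' : orderOf (g * a * g⁻¹) = m := by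
    have h := MulEquiv.orderOf_eq (MulAut.conj g) a
    rw [ha] at h
    exact h
  have htr' : ((g * a * g⁻¹ : Matrix.SpecialLinearGroup (Fin 2) F) :
      Matrix (Fin 2) (Fin 2) F).trace = (a : Matrix (Fin 2) (Fin 2) F).trace :=
    sl2_trace_conj g a
  have h4' : ((g * a * g⁻¹ : Matrix.SpecialLinearGroup (Fin 2) F) :
      Matrix (Fin 2) (Fin 2) F).trace ^ 2 ≠ 4 := by rw [htr']; exact h4
  have hx' : ¬ Sl2Scalar (g * a * g⁻¹) := fun hs => h4' (sl2Scalar_trace_sq _ hs)
  have hc' := hcard (g * a * g⁻¹) htr'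
  have hcz := cent_eq_zpowers_of_card (g * a * g⁻¹) (hc'.trans ha'.symm)
  have hoj' : orderOf ((g * a * g⁻¹) ^ j) = ℓ ^ m.factorization ℓ := by
    rw [conj_pow]
    have h := MulEquiv.orderOf_eq (MulAut.conj g) (a ^ j)
    rw [hoj] at h
    exact h
  have hxns : ¬ Sl2Scalar ((g * a * g⁻¹) ^ j) := by
    intro hs
    have hcen := sl2Scalar_mem_center _ hs
    have hsq : ((g * a * g⁻¹) ^ j) ^ 2 = 1 := by
      rw [pow_two]
      rcases sl2_center_cases _ hcen with h | h
      · rw [h, mul_one]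
      · rw [h]; exact sl2NegOne_mul_self
    have hdvd := orderOf_dvd_of_pow_eq_one hsq
    rw [hoj'] at hdvd
    have hℓdvd : ℓ ∣ 2 := (dvd_pow_self ℓ (by omega)).trans hdvd
    have hle := Nat.le_of_dvd (by norm_num) hℓdvd
    have h2le := hℓp.two_le
    omega
  have hPle : (P : Subgroup (Matrix.SpecialLinearGroup (Fin 2) F)) ≤
      Subgroup.centralizer ({g * a * g⁻¹} : Set (Matrix.SpecialLinearGroup (Fin 2) F)) := by
    rw [hP, hcz, Subgroup.zpowers_le]
    exact Subgroup.pow_mem _ (Subgroup.mem_zpowers _) j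
  have hxP : (g * a * g⁻¹) ^ j ∈ (P : Subgroup (Matrix.SpecialLinearGroup (Fin 2) F)) := by
    rw [hP]; exact Subgroup.mem_zpowers _
  have hCP := torus_cent_subgroup (g * a * g⁻¹) hx' _ hPle _ hxP hxns
  have hNP : Subgroup.normalizer ((P : Subgroup (Matrix.SpecialLinearGroup (Fin 2) F)) :
      Set (Matrix.SpecialLinearGroup (Fin 2) F)) =
      Subgroup.normalizer ((Subgroup.centralizer
        ({g * a * g⁻¹} : Set (Matrix.SpecialLinearGroup (Fin 2) F)) :
        Subgroup (Matrix.SpecialLinearGroup (Fin 2) F)) :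
        Set (Matrix.SpecialLinearGroup (Fin 2) F)) := by
    apply le_antisymm
    · have h := normalizer_le_normalizer_centralizer
        (P : Subgroup (Matrix.SpecialLinearGroup (Fin 2) F))
      rw [hCP] at h
      exact h
    · rw [hcz, hP]
      exact normalizer_zpowers_le (g * a * g⁻¹) j (ℓ ^ m.factorization ℓ) hpow
        (by rw [ha']; exact hj')
  refine ⟨?_, ?_, ?_⟩
  · rw [hCP, hc']
  · rw [hCP, hcz]
    infer_instance
  · rw [hNP, torus_card_normalizer hodd _ h4', hc']

end Cfsg.Agent.Helper12.TB
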