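import Mathlib
import Cfsg.Prelude.Def_CaseTheorems
import Cfsg.Agent.Helper12.VecTrans
import Cfsg.Agent.Helper15.Quat
import Cfsg.Agent.Helper16.QuatExt

/-!
# 2-groups acting transitively on the nonzero vectors of a plane over the field with 3 elements
-/

set_option autoImplicit false

namespace Cfsg.Agent.Helper12.VT

open Classical

theorem z3_cases (c : ZMod 3) : c = 0 ∨ c = 1 ∨ c = -1 := by revert c; decide
theorem z3_three (a : ZMod 3) : a + a + a = 0 := by revert a; decide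
theorem z3_double (a : ZMod 3) (h : a + a = 0) : a = 0 := by revert a; decide
theorem z3_sq (c : ZMod 3) : c * c + 1 ≠ 0 := by revert c; decide
theorem z3_fourth (c : ZMod 3) : c * c * c * c + 1 ≠ 0 := by revert c; decide

section Nine

variable {V : Type*} [AddCommGroup V] [Module (ZMod 3) V]

theorem double_zero (u : V) (h : u + u = 0) : u = 0 := by
  have h2 : (2 : ZMod 3) • u = 0 := by rw [two_smul]; exact h
  rcases smul_eq_zero.mp h2 with h3 | h3
  · exact absurd h3 (by decide)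
  · exact h3

theorem neg_ne_self {u : V} (hu : u ≠ 0) : -u ≠ u := by
  intro h
  apply hu
  apply double_zero
  have : u + u = -u + u := by rw [h]
  rw [this, neg_add_cancel]

theorem indep {v w : V} (hv : v ≠ 0) (hw : ∀ c : ZMod 3, w ≠ c • v) (a b : ZMod 3)
    (h : a • v + b • w = 0) : a = 0 ∧ b = 0 := by
  have hb : b = 0 := by
    by_contra hb
    apply hw (-(b⁻¹ * a))
    have h2 : b • w = -(a • v) := eq_neg_of_add_eq_zero_right h
    rw [neg_smul, mul_smul, ← smul_neg, ← h2, smul_smul, inv_mul_cancel₀ hb, one_smul]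
  refine ⟨?_, hb⟩
  rw [hb, zero_smul, add_zero] at h
  rcases smul_eq_zero.mp h with h3 | h3
  · exact h3
  · exact absurd h3 hv

variable [Finite V]

theorem exists_ne_zero (hV : Nat.card V = 9) : ∃ v : V, v ≠ 0 := by
  haveI : Nontrivial V := (Finite.one_lt_card_iff_nontrivial).mp (by rw [hV]; norm_num)
  exact exists_ne 0

theorem span_all (hV : Nat.card V = 9) {v w : V} (hv : v ≠ 0) (hw : ∀ c : ZMod 3, w ≠ c • v)
    (u : V) : ∃ a b : ZMod 3, u = a • v + b • w := by
  have hinj : Function.Injective (fun x : ZMod 3 × ZMod 3 => x.1 • v + x.2 • w) := by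
    rintro ⟨a, b⟩ ⟨a', b'⟩ h
    simp only at h
    have h2 : (a - a') • v + (b - b') • w = 0 := by
      have h5 : (a - a') • v + (b - b') • w = (a • v + b • w) - (a' • v + b' • w) := by
        rw [sub_smul, sub_smul]; abel
      rw [h5, h, sub_self]
    obtain ⟨h3, h4⟩ := indep hv hw _ _ h2
    rw [sub_eq_zero.mp h3, sub_eq_zero.mp h4]
  have hbij := Function.Injective.bijective_of_nat_card_le hinj
    (by rw [hV, Nat.card_prod, Nat.card_zmod])
  obtain ⟨⟨a, b⟩, hab⟩ := hbij.2 u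
  exact ⟨a, b, hab.symm⟩

theorem exists_indep (hV : Nat.card V = 9) (v : V) : ∃ w : V, ∀ c : ZMod 3, w ≠ c • v := by
  by_contra h
  push Not at h
  have hsurj : Function.Surjective (fun c : ZMod 3 => c • v) := fun w => by
    obtain ⟨c, hc⟩ := h w
    exact ⟨c, hc.symm⟩
  have := Nat.card_le_card_of_surjective _ hsurj
  rw [hV, Nat.card_zmod] at this
  omega

variable {G : Type*} [Group G] [Finite G] (ρ : G →* (V ≃ₗ[ZMod 3] V))

theorem det_by (hV : Nat.card V = 9) (hρ : Function.Injective ρ) {v w : V} (hv : v ≠ 0)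
    (hw : ∀ c : ZMod 3, w ≠ c • v) (g h : G) (h1 : ρ g v = ρ h v) (h2 : ρ g w = ρ h w) :
    g = h := by
  apply hρ
  apply LinearEquiv.ext
  intro u
  obtain ⟨a, b, rfl⟩ := span_all hV hv hw u
  rw [map_add, map_add, map_smul, map_smul, map_smul, map_smul, h1, h2]

theorem unip_eq_one (hV : Nat.card V = 9) (hρ : Function.Injective ρ) (hG : IsPGroup 2 G)
    {v w : V} (hv : v ≠ 0) (hw : ∀ c : ZMod 3, w ≠ c • v) (g : G) (hgv : ρ g v = v)
    (a : ZMod 3) (hgw : ρ g w = a • v + w) : g = 1 := by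
  have e1 : ρ g (a • v + w) = (a + a) • v + w := by
    rw [map_add, map_smul, hgv, hgw]; module
  have e2 : ρ g ((a + a) • v + w) = (a + a + a) • v + w := by
    rw [map_add, map_smul, hgv, hgw]; module
  have h3 : g ^ 3 = 1 := by
    apply det_by ρ hV hρ hv hw
    · rw [act_one, pow_succ, pow_succ, pow_one, act_mul, act_mul, hgv, hgv, hgv]
    · rw [act_one, pow_succ, pow_succ, pow_one, act_mul, act_mul, hgw, e1, e2, z3_three,
        zero_smul, zero_add]
  obtain ⟨k, hk⟩ := hG g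
  have h1 : orderOf g ∣ 2 ^ k := orderOf_dvd_of_pow_eq_one hk
  have h2 : orderOf g ∣ 3 := orderOf_dvd_of_pow_eq_one h3
  have hc : Nat.Coprime (orderOf g) 3 :=
    Nat.Coprime.coprime_dvd_left h1 (Nat.Coprime.pow_left k (by decide))
  exact orderOf_eq_one_iff.mp (Nat.Coprime.eq_one_of_dvd hc h2)

theorem refl_form (hV : Nat.card V = 9) (hρ : Function.Injective ρ) (hG : IsPGroup 2 G)
    {v w : V} (hv : v ≠ 0) (hw : ∀ c : ZMod 3, w ≠ c • v) (g : G) (hgv : ρ g v = v)
    (hg1 : g ≠ 1) : ∃ a : ZMod 3, ρ g w = a • v - w := by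
  obtain ⟨a, b, hab⟩ := span_all hV hv hw (ρ g w)
  rcases z3_cases b with rfl | rfl | rfl
  · exfalso
    apply hw a
    apply (ρ g).injective
    rw [hab, zero_smul, add_zero, map_smul, hgv]
  · exfalso
    exact hg1 (unip_eq_one ρ hV hρ hG hv hw g hgv a (by rw [hab, one_smul]))
  · exact ⟨a, by rw [hab, neg_one_smul, ← sub_eq_add_neg]⟩

theorem stab_sq (hV : Nat.card V = 9) (hρ : Function.Injective ρ) (hG : IsPGroup 2 G)
    {v : V} (hv : v ≠ 0) (g : G) (hgv : ρ g v = v) (h : G) (hhv : ρ h v = v)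
    (hg1 : g ≠ 1) (hh1 : h ≠ 1) : g * h = 1 := by
  obtain ⟨w, hw⟩ := exists_indep hV v
  obtain ⟨a, ha⟩ := refl_form ρ hV hρ hG hv hw g hgv hg1
  obtain ⟨a', ha'⟩ := refl_form ρ hV hρ hG hv hw h hhv hh1
  apply unip_eq_one ρ hV hρ hG hv hw (g * h) (by rw [act_mul, hhv, hgv]) (a' - a)
  rw [act_mul, ha', map_sub, map_smul, hgv, ha]
  module

theorem stab_unique (hV : Nat.card V = 9) (hρ : Function.Injective ρ) (hG : IsPGroup 2 G)
    {v : V} (hv : v ≠ 0) (g h : G) (hgv : ρ g v = v) (hhv : ρ h v = v)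
    (hg1 : g ≠ 1) (hh1 : h ≠ 1) : g = h := by
  have h1 := stab_sq ρ hV hρ hG hv g hgv h hhv hg1 hh1
  have h2 := stab_sq ρ hV hρ hG hv h hhv h hhv hh1 hh1
  exact mul_right_cancel (h1.trans h2.symm)

theorem card_stab_le (hV : Nat.card V = 9) (hρ : Function.Injective ρ) (hG : IsPGroup 2 G)
    {v : V} (hv : v ≠ 0) : Nat.card (stab ρ v) ≤ 2 := by
  by_contra hcon
  push Not at hcon
  haveI := Fintype.ofFinite (stab ρ v)
  rw [Nat.card_eq_fintype_card] at hcon
  obtain ⟨a, b, c, hab, hac, hbc⟩ := Fintype.two_lt_card_iff.mp hcon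
  have key : ∀ x y : stab ρ v, x ≠ 1 → y ≠ 1 → x = y := fun x y hx hy =>
    Subtype.ext (stab_unique ρ hV hρ hG hv x y x.2 y.2 (fun h => hx (Subtype.ext h))
      (fun h => hy (Subtype.ext h)))
  by_cases ha : a = 1
  · exact hbc (key b c (fun h => hab (ha.trans h.symm)) (fun h => hac (ha.trans h.symm)))
  · by_cases hb : b = 1
    · exact hac (key a c ha (fun h => hbc (hb.trans h.symm)))
    · exact hab (key a b ha hb)

theorem neg_of_fpf (t : G) (ht : t * t = 1) (hfpf : ∀ v : V, v ≠ 0 → ρ t v ≠ v) (v : V) :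
    ρ t v = -v := by
  have h1 : ρ t (v + ρ t v) = v + ρ t v := by
    rw [map_add, ← act_mul, ht, act_one, add_comm]
  have h2 : v + ρ t v = 0 := by
    by_contra h
    exact hfpf _ h h1
  exact eq_neg_of_add_eq_zero_right h2

theorem case8 (hV : Nat.card V = 9) (hρ : Function.Injective ρ) (hG : IsPGroup 2 G)
    (htrans : ∀ v w : V, v ≠ 0 → w ≠ 0 → ∃ g : G, ρ g v = w) (hcard : Nat.card G = 8) :
    IsCyclic G ∨ Nonempty (G ≃* QuaternionGroup 2) := by
  have hst : ∀ v : V, v ≠ 0 → ∀ g : G, ρ g v = v → g = 1 := by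
    intro v hv g hg
    have h1 := card_eq ρ htrans v hv
    rw [hV, hcard] at h1
    have h2 : Nat.card (stab ρ v) = 1 := by omega
    rw [Nat.card_eq_one_iff_unique] at h2
    have := h2.1.elim (⟨g, hg⟩ : stab ρ v) 1
    exact congrArg Subtype.val this
  have hinv : ∀ t : G, orderOf t = 2 → ∀ v, ρ t v = -v := by
    intro t ht
    have ht2 : t * t = 1 := by rw [← pow_two, ← ht, pow_orderOf_eq_one]
    have ht1 : t ≠ 1 := by
      intro h
      rw [h, orderOf_one] at ht
      omega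
    exact neg_of_fpf ρ t ht2 (fun v hv h => ht1 (hst v hv t h))
  haveI : Fact (Nat.Prime 2) := ⟨Nat.prime_two⟩
  obtain ⟨t, ht⟩ := exists_prime_orderOf_dvd_card' (G := G) 2 (by rw [hcard]; norm_num)
  have huniq : ∃! x : G, orderOf x = 2 :=
    ⟨t, ht, fun s hs => hρ (LinearEquiv.ext fun v => by rw [hinv s hs, hinv t ht])⟩
  rcases Cfsg.Agent.Helper15.quaternion_of_unique_involution hG
    (Cfsg.Agent.Helper16.QuatExt.huniq_of_unique huniq) with hc | ⟨n, ⟨e⟩⟩
  · exact Or.inl hc
  · right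
    have hn : n = 1 := by
      have h1 : Nat.card G = Nat.card (QuaternionGroup (2 ^ n)) := Nat.card_congr e.toEquiv
      rw [hcard, Nat.card_eq_fintype_card, QuaternionGroup.card] at h1
      have h2 : 2 ^ n = 2 ^ 1 := by omega
      exact Nat.pow_right_injective (le_refl 2) h2
    subst hn
    exact ⟨e⟩

theorem sq_neg (hV : Nat.card V = 9) (hρ : Function.Injective ρ) (g : G)
    (h4 : (g * g) * (g * g) = 1) (h2 : g * g ≠ 1) : ∀ v, ρ (g * g) v = -v := by
  apply neg_of_fpf ρ (g * g) h4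
  intro v hv hfix
  obtain ⟨w, hw⟩ : ∃ w : V, ρ (g * g) w ≠ w := by
    by_contra hcon
    push Not at hcon
    exact h2 (act_eq_one ρ hρ _ hcon)
  obtain ⟨u, hu⟩ : ∃ u : V, u = w - ρ (g * g) w := ⟨_, rfl⟩
  have hu0 : u ≠ 0 := fun h => hw (sub_eq_zero.mp (hu ▸ h)).symm
  have htu : ρ (g * g) u = -u := by
    rw [hu, map_sub, ← act_mul, h4, act_one]; abel
  have hind : ∀ c : ZMod 3, u ≠ c • v := by
    intro c hc
    have h5 : ρ (g * g) u = u := by rw [hc, map_smul, hfix]
    rw [htu] at h5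
    exact neg_ne_self hu0 h5
  have hcomm : ρ (g * g) (ρ g u) = -ρ g u := by
    rw [← act_mul, mul_assoc, act_mul, htu, map_neg]
  obtain ⟨γ, δ, hgd⟩ := span_all hV hv hind (ρ g u)
  have hγ : γ = 0 := by
    rw [hgd, map_add, map_smul, map_smul, hfix, htu] at hcomm
    have h6 : (γ + γ) • v + (0 : ZMod 3) • u = 0 := by
      have : (γ + γ) • v + (0 : ZMod 3) • u = (γ • v + δ • -u) + (γ • v + δ • u) := by module
      rw [this, hcomm, neg_add_cancel]
    exact z3_double γ (indep hv hind _ _ h6).1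
  rw [hγ, zero_smul, zero_add] at hgd
  have h7 : ρ (g * g) u = (δ * δ) • u := by
    rw [act_mul, hgd, map_smul, hgd, smul_smul]
  rw [htu] at h7
  have h8 : (δ * δ + 1) • u = 0 := by
    rw [add_smul, one_smul, ← h7, neg_add_cancel]
  rcases smul_eq_zero.mp h8 with h9 | h9
  · exact z3_sq δ h9
  · exact hu0 h9

theorem card_sq_one_le [Fintype G] (hV : Nat.card V = 9) (hρ : Function.Injective ρ)
    (hG : IsPGroup 2 G) : (Finset.univ.filter (fun g : G => g * g = 1)).card ≤ 6 := by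
  obtain ⟨v₀, hv₀⟩ := exists_ne_zero hV
  obtain ⟨w₀, hw₀⟩ := exists_indep hV v₀
  have hr : ∀ u : V, u ≠ 0 → ∃ r : G, ∀ g : G, ρ g u = u → g = 1 ∨ g = r := by
    intro u hu
    by_cases hex : ∃ r : G, r ≠ 1 ∧ ρ r u = u
    · obtain ⟨r, hr1, hru⟩ := hex
      refine ⟨r, fun g hg => ?_⟩
      by_cases hg1 : g = 1
      · exact Or.inl hg1
      · exact Or.inr (stab_unique ρ hV hρ hG hu g r hg hru hg1 hr1)
    · refine ⟨1, fun g hg => ?_⟩
      left
      by_contra hg1
      exact hex ⟨g, hg1, hg⟩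
  have hw0 : w₀ ≠ 0 := fun h => hw₀ 0 (by rw [h, zero_smul])
  have hne : ∀ c : ZMod 3, v₀ + c • w₀ ≠ 0 := by
    intro c h
    have := (indep hv₀ hw₀ 1 c (by rw [one_smul]; exact h)).1
    exact one_ne_zero this
  obtain ⟨rw, hrw⟩ := hr w₀ hw0
  choose rf hrf using fun c : ZMod 3 => hr (v₀ + c • w₀) (hne c)
  have hSm : (Finset.univ.filter (fun g : G => ∀ v : V, ρ g v = -v)).card ≤ 1 :=
    Finset.card_le_one.mpr (fun a ha b hb => by
      simp only [Finset.mem_filter, Finset.mem_univ, true_and] at ha hb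
      exact hρ (LinearEquiv.ext fun v => by rw [ha, hb]))
  have hsub : Finset.univ.filter (fun g : G => g * g = 1) ⊆
      insert 1 (Finset.univ.filter (fun g : G => ∀ v : V, ρ g v = -v) ∪
        {rw, rf 0, rf 1, rf (-1)}) := by
    intro g hg
    simp only [Finset.mem_filter, Finset.mem_univ, true_and] at hg
    rw [Finset.mem_insert, Finset.mem_union, Finset.mem_filter]
    by_cases hg1 : g = 1
    · exact Or.inl hg1
    right
    by_cases hfpf : ∀ v : V, v ≠ 0 → ρ g v ≠ v
    · exact Or.inl ⟨Finset.mem_univ _, neg_of_fpf ρ g hg hfpf⟩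
    right
    push Not at hfpf
    obtain ⟨u, hu, hgu⟩ := hfpf
    obtain ⟨a, b, rfl⟩ := span_all hV hv₀ hw₀ u
    simp only [Finset.mem_insert, Finset.mem_singleton]
    by_cases ha : a = 0
    · rw [ha, zero_smul, zero_add] at hu hgu
      have hb : b ≠ 0 := fun h => hu (by rw [h, zero_smul])
      have hgw : ρ g w₀ = w₀ := by
        rw [map_smul] at hgu
        exact smul_right_injective V hb hgu
      rcases hrw g hgw with h | h
      · exact absurd h hg1
      · exact Or.inl h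
    · have hform : a • v₀ + b • w₀ = a • (v₀ + (a⁻¹ * b) • w₀) := by
        rw [smul_add, smul_smul, mul_inv_cancel_left₀ ha]
      rw [hform, map_smul] at hgu
      have hgR : ρ g (v₀ + (a⁻¹ * b) • w₀) = v₀ + (a⁻¹ * b) • w₀ :=
        smul_right_injective V ha hgu
      rcases hrf _ g hgR with h | h
      · exact absurd h hg1
      · rcases z3_cases (a⁻¹ * b) with hc | hc | hc
        · rw [hc] at h; exact Or.inr (Or.inl h)
        · rw [hc] at h; exact Or.inr (Or.inr (Or.inl h))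
        · rw [hc] at h; exact Or.inr (Or.inr (Or.inr h))
  have h1 := Finset.card_le_card hsub
  have h2 := Finset.card_insert_le (1 : G)
    (Finset.univ.filter (fun g : G => ∀ v : V, ρ g v = -v) ∪ {rw, rf 0, rf 1, rf (-1)})
  have h3 := Finset.card_union_le (Finset.univ.filter (fun g : G => ∀ v : V, ρ g v = -v))
    {rw, rf 0, rf 1, rf (-1)}
  have h4 := Finset.card_le_four (a := rw) (b := rf 0) (c := rf 1) (d := rf (-1))
  omega

theorem pow4_eq (g : G) : (g * g) * (g * g) = g ^ 4 := by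
  rw [show (4 : ℕ) = 2 + 2 by norm_num, pow_add, pow_two]

theorem pow8_eq (g : G) : ((g * g) * (g * g)) * ((g * g) * (g * g)) = g ^ 8 := by
  rw [show (8 : ℕ) = 4 + 4 by norm_num, pow_add, pow4_eq g]

theorem pow4_eq' (g : G) : g ^ 4 = g * (g * (g * g)) := by
  rw [← pow4_eq g, mul_assoc]

theorem pow5_eq (g : G) : g ^ 5 = g ^ 4 * g := pow_succ g 4

theorem card_sq_neg_le [Fintype G] (hV : Nat.card V = 9) (hρ : Function.Injective ρ)
    {v₀ : V} (hv₀ : v₀ ≠ 0) :
    (Finset.univ.filter (fun g : G => ∀ v : V, ρ (g * g) v = -v)).card ≤ 6 := by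
  have key : ∀ S : Finset G, (∀ g ∈ S, ∀ v : V, ρ (g * g) v = -v) → S.card ≤ 6 := by
    intro S hS
    haveI := Fintype.ofFinite V
    have hnot : ∀ g : G, (∀ v : V, ρ (g * g) v = -v) → ∀ c : ZMod 3, ρ g v₀ ≠ c • v₀ := by
      intro g hg c hc
      have h1 : ρ (g * g) v₀ = (c * c) • v₀ := by
        rw [act_mul, hc, map_smul, hc, smul_smul]
      rw [hg] at h1
      have h2 : (c * c + 1) • v₀ = 0 := by
        rw [add_smul, one_smul, ← h1, neg_add_cancel]
      rcases smul_eq_zero.mp h2 with h3 | h3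
      · exact z3_sq c h3
      · exact hv₀ h3
    have hmaps : ∀ g ∈ S,
        ρ g v₀ ∈ ((Finset.univ.erase (0 : V)).erase v₀).erase (-v₀) := by
      intro g hg
      have hg' := hS g hg
      simp only [Finset.mem_erase, Finset.mem_univ, and_true]
      exact ⟨fun h => hnot g hg' (-1) (by rw [h, neg_one_smul]),
        fun h => hnot g hg' 1 (by rw [h, one_smul]),
        fun h => hnot g hg' 0 (by rw [h, zero_smul])⟩
    have hinj : Set.InjOn (fun g : G => ρ g v₀) (S : Set G) := by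
      intro g hg h hh heq
      have hg' := hS g hg
      have hh' := hS h hh
      have heq' : ρ g v₀ = ρ h v₀ := heq
      apply det_by ρ hV hρ hv₀ (hnot g hg') g h heq'
      rw [← act_mul, hg', heq', ← act_mul, hh']
    have hc : S.card ≤ (((Finset.univ.erase (0 : V)).erase v₀).erase (-v₀)).card :=
      Finset.card_le_card_of_injOn _ hmaps hinj
    have m1 : (0 : V) ∈ (Finset.univ : Finset V) := Finset.mem_univ _
    have m2 : v₀ ∈ (Finset.univ.erase (0 : V)) := Finset.mem_erase.mpr ⟨hv₀, Finset.mem_univ _⟩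
    have m3 : -v₀ ∈ (Finset.univ.erase (0 : V)).erase v₀ :=
      Finset.mem_erase.mpr ⟨neg_ne_self hv₀,
        Finset.mem_erase.mpr ⟨neg_ne_zero.mpr hv₀, Finset.mem_univ _⟩⟩
    have hcard : (((Finset.univ.erase (0 : V)).erase v₀).erase (-v₀)).card = 6 := by
      rw [Finset.card_erase_of_mem m3, Finset.card_erase_of_mem m2, Finset.card_erase_of_mem m1,
        Finset.card_univ, ← Nat.card_eq_fintype_card, hV]
    omega
  exact key _ (fun g hg => (Finset.mem_filter.mp hg).2)

theorem exists_order_eight (hV : Nat.card V = 9) (hρ : Function.Injective ρ)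
    (hG : IsPGroup 2 G) (hcard : Nat.card G = 16) : ∃ x : G, orderOf x = 8 := by
  haveI : Fintype G := Fintype.ofFinite G
  obtain ⟨v₀, hv₀⟩ := exists_ne_zero hV
  have hex : ∃ x : G, x ^ 4 ≠ 1 := by
    by_contra hcon
    push Not at hcon
    have hsub : (Finset.univ : Finset G) ⊆ Finset.univ.filter (fun g : G => g * g = 1) ∪
        Finset.univ.filter (fun g : G => ∀ v : V, ρ (g * g) v = -v) := by
      intro g _
      rw [Finset.mem_union, Finset.mem_filter, Finset.mem_filter]
      by_cases h2 : g * g = 1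
      · exact Or.inl ⟨Finset.mem_univ _, h2⟩
      · refine Or.inr ⟨Finset.mem_univ _, sq_neg ρ hV hρ g ?_ h2⟩
        rw [pow4_eq]
        exact hcon g
    have h1 := Finset.card_le_card hsub
    have h2 := Finset.card_union_le (Finset.univ.filter (fun g : G => g * g = 1))
      (Finset.univ.filter (fun g : G => ∀ v : V, ρ (g * g) v = -v))
    have h3 := card_sq_one_le ρ hV hρ hG
    have h4 := card_sq_neg_le ρ hV hρ hv₀
    rw [Finset.card_univ, ← Nat.card_eq_fintype_card, hcard] at h1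
    omega
  obtain ⟨x, hx⟩ := hex
  have hdvd : orderOf x ∣ 2 ^ 4 := by
    rw [show (2 : ℕ) ^ 4 = 16 by norm_num, ← hcard]
    exact orderOf_dvd_natCard x
  obtain ⟨j, hj4, hj⟩ := (Nat.dvd_prime_pow Nat.prime_two).mp hdvd
  have hj3 : 3 ≤ j := by
    by_contra hlt
    apply hx
    have : orderOf x ∣ 4 := by
      rw [hj, show (4 : ℕ) = 2 ^ 2 by norm_num]
      exact Nat.pow_dvd_pow 2 (by omega)
    exact orderOf_dvd_iff_pow_eq_one.mp this
  rcases (show j = 3 ∨ j = 4 by omega) with rfl | rfl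
  · exact ⟨x, by rw [hj]; norm_num⟩
  · refine ⟨x ^ 2, ?_⟩
    rw [orderOf_pow' x (by norm_num), hj]
    norm_num

theorem case16 (hV : Nat.card V = 9) (hρ : Function.Injective ρ) (hG : IsPGroup 2 G)
    (htrans : ∀ v w : V, v ≠ 0 → w ≠ 0 → ∃ g : G, ρ g v = w) (hcard : Nat.card G = 16) :
    Cfsg.IsQuasiDihedral G := by
  haveI : Fintype G := Fintype.ofFinite G
  obtain ⟨v₀, hv₀⟩ := exists_ne_zero hV
  obtain ⟨x, hx8⟩ := exists_order_eight ρ hV hρ hG hcard
  have hx4 : ∀ v : V, ρ (x ^ 4) v = -v := by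
    have h1 : ((x * x) * (x * x)) * ((x * x) * (x * x)) = 1 := by
      rw [pow8_eq, ← hx8, pow_orderOf_eq_one]
    have h2 : (x * x) * (x * x) ≠ 1 := by
      rw [pow4_eq]
      intro h
      have h8 := orderOf_dvd_of_pow_eq_one h
      rw [hx8] at h8
      have := Nat.le_of_dvd (by norm_num) h8
      omega
    have h3 := sq_neg ρ hV hρ (x * x) h1 h2
    intro v
    rw [← pow4_eq]
    exact h3 v
  have hx4ne : x ^ 4 ≠ 1 := by
    intro h
    have h1 := hx4 v₀
    rw [h, act_one] at h1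
    exact neg_ne_self hv₀ h1.symm
  have hst := card_eq ρ htrans v₀ hv₀
  rw [hV, hcard] at hst
  have hst2 : Nat.card (stab ρ v₀) = 2 := by omega
  obtain ⟨⟨y, hyv⟩, hy1⟩ : ∃ y : stab ρ v₀, y ≠ 1 := by
    haveI : Nontrivial (stab ρ v₀) :=
      (Finite.one_lt_card_iff_nontrivial).mp (by rw [hst2]; norm_num)
    exact exists_ne 1
  have hy1' : y ≠ 1 := fun h => hy1 (Subtype.ext h)
  have hyv' : ρ y v₀ = v₀ := hyv
  have hyy : y * y = 1 := stab_sq ρ hV hρ hG hv₀ y hyv' y hyv' hy1' hy1'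
  have hy2 : orderOf y = 2 := orderOf_eq_prime (by rw [pow_two]; exact hyy) hy1'
  have hyinv : y⁻¹ = y := inv_eq_of_mul_eq_one_left hyy
  have hidx : (Subgroup.zpowers x).index = 2 := by
    have h1 := Subgroup.card_mul_index (Subgroup.zpowers x)
    rw [Nat.card_zpowers, hx8, hcard] at h1
    omega
  haveI : (Subgroup.zpowers x).Normal := Subgroup.normal_of_index_eq_two hidx
  have hconj : y * x * y⁻¹ ∈ Subgroup.zpowers x :=
    Subgroup.Normal.conj_mem inferInstance x (Subgroup.mem_zpowers x) y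
  rw [mem_zpowers_iff_mem_range_orderOf, hx8] at hconj
  obtain ⟨j, hj, hxj⟩ := Finset.mem_image.mp hconj
  rw [Finset.mem_range] at hj
  have hxj' : x ^ j = y * x * y⁻¹ := hxj
  have hnoeig : ∀ v : V, v ≠ 0 → ∀ c : ZMod 3, ρ x v ≠ c • v := by
    intro v hv c hc
    have h1 : ρ (x ^ 4) v = (c * c * c * c) • v := by
      rw [pow4_eq' x, act_mul, act_mul, act_mul]
      simp only [map_smul, hc]
      rw [smul_smul, smul_smul, smul_smul]
    rw [hx4] at h1
    have h2 : (c * c * c * c + 1) • v = 0 := by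
      rw [add_smul, one_smul, ← h1, neg_add_cancel]
    rcases smul_eq_zero.mp h2 with h3 | h3
    · exact z3_fourth c h3
    · exact hv h3
  have hyfix : ∀ u : V, ρ y u = u → ∃ c : ZMod 3, u = c • v₀ := by
    intro u hu
    by_contra hcon
    push Not at hcon
    exact hy1' (det_by ρ hV hρ hv₀ hcon y 1 (by rw [hyv', act_one]) (by rw [hu, act_one]))
  have hrel : y * x = x ^ j * y := by rw [hxj]; group
  have hact : ∀ u : V, ρ y (ρ x u) = ρ (x ^ j) (ρ y u) := fun u => by
    rw [← act_mul, hrel, act_mul]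
  have heven : ∀ m : ℕ, j ≠ 2 * m := by
    intro m hm
    have h1 : (y * x * y⁻¹) ^ 4 = 1 := by
      rw [← hxj, hm, ← pow_mul, show 2 * m * 4 = 8 * m by ring, pow_mul, ← hx8,
        pow_orderOf_eq_one, one_pow]
    rw [conj_pow, conj_eq_one_iff] at h1
    exact hx4ne h1
  have hj3 : j = 3 := by
    interval_cases j
    · exact absurd rfl (heven 0)
    · exfalso
      have h1 : ρ y (ρ x v₀) = ρ x v₀ := by rw [hact, pow_one, hyv']
      obtain ⟨c, hc⟩ := hyfix _ h1
      exact hnoeig v₀ hv₀ c hc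
    · exact absurd rfl (heven 1)
    · rfl
    · exact absurd rfl (heven 2)
    · exfalso
      have h5 : ∀ u : V, ρ (x ^ 5) u = -ρ x u := fun u => by
        rw [pow5_eq x, act_mul, hx4]
      have h1 : ρ y (ρ x v₀) = -ρ x v₀ := by rw [hact, h5, hyv']
      have h2 : ρ y (ρ x (ρ x v₀)) = ρ x (ρ x v₀) := by
        rw [hact, h5, h1, map_neg, neg_neg]
      obtain ⟨c, hc⟩ := hyfix _ h2
      have h3 : ρ (x ^ 4) v₀ = (c * c) • v₀ := by
        rw [pow4_eq' x, act_mul, act_mul, act_mul, hc, map_smul,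
          map_smul, hc, smul_smul]
      rw [hx4] at h3
      have h4 : (c * c + 1) • v₀ = 0 := by
        rw [add_smul, one_smul, ← h3, neg_add_cancel]
      rcases smul_eq_zero.mp h4 with h6 | h6
      · exact z3_sq c h6
      · exact hv₀ h6
    · exact absurd rfl (heven 3)
    · exfalso
      have hinvk : ∀ k : ℕ, (y * x ^ k) * (y * x ^ k) = 1 := by
        intro k
        have h1 : y * x ^ k * y⁻¹ = (x ^ 7) ^ k := by rw [hxj, conj_pow]
        calc (y * x ^ k) * (y * x ^ k) = (y * x ^ k * y⁻¹) * x ^ k := by rw [hyinv]; group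
          _ = (x ^ 7) ^ k * x ^ k := by rw [h1]
          _ = (x ^ 8) ^ k := by
              rw [← pow_mul, ← pow_add, ← pow_mul]; congr 1; ring
          _ = 1 := by rw [← hx8, pow_orderOf_eq_one, one_pow]
      have hsub : (Finset.range 8).image (fun k => y * x ^ k) ⊆
          Finset.univ.filter (fun g : G => g * g = 1) := by
        intro g hg
        obtain ⟨k, -, rfl⟩ := Finset.mem_image.mp hg
        exact Finset.mem_filter.mpr ⟨Finset.mem_univ _, hinvk k⟩
      have hcardimg : ((Finset.range 8).image (fun k => y * x ^ k)).card = 8 := by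
        rw [Finset.card_image_of_injOn, Finset.card_range]
        intro a ha b hb hab
        simp only [Finset.coe_range, Set.mem_Iio] at ha hb
        have h' : x ^ a = x ^ b := mul_left_cancel hab
        exact pow_injOn_Iio_orderOf (by rw [hx8]; exact ha) (by rw [hx8]; exact hb) h'
      have := Finset.card_le_card hsub
      have h6 := card_sq_one_le ρ hV hρ hG
      omega
  subst hj3
  exact ⟨3, le_refl 3, hcard.trans (by norm_num), x, y, hx8.trans (by norm_num), hy2,
    hxj.symm.trans (by norm_num)⟩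

theorem caseC (hV : Nat.card V = 9) (hG : IsPGroup 2 G) (hρ : Function.Injective ρ)
    (htrans : ∀ v w : V, v ≠ 0 → w ≠ 0 → ∃ g : G, ρ g v = w) :
    (IsCyclic G ∧ Nat.card G = 8) ∨ Nonempty (G ≃* QuaternionGroup 2) ∨
      (Cfsg.IsQuasiDihedral G ∧ Nat.card G = 16) := by
  obtain ⟨v₀, hv₀⟩ := exists_ne_zero hV
  have h1 := card_eq ρ htrans v₀ hv₀
  rw [hV] at h1
  have h2 := card_stab_le ρ hV hρ hG hv₀
  have h3 : 0 < Nat.card (stab ρ v₀) := Nat.card_pos
  rcases (show Nat.card (stab ρ v₀) = 1 ∨ Nat.card (stab ρ v₀) = 2 by omega) with h | h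
  · have hc : Nat.card G = 8 := by rw [← h1, h]
    rcases case8 ρ hV hρ hG htrans hc with h' | h'
    · exact Or.inl ⟨h', hc⟩
    · exact Or.inr (Or.inl h')
  · have hc : Nat.card G = 16 := by rw [← h1, h]
    exact Or.inr (Or.inr ⟨case16 ρ hV hρ hG htrans hc, hc⟩)

end Nine

end Cfsg.Agent.Helper12.VT
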